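import Cfsg.Agent.Lib.KnownC.AutPOmega.Outer

/-!
# `PGO / Inn` and the outer group in odd dimension
-/

set_option autoImplicit false
set_option linter.unusedSectionVars false
set_option linter.style.haveILetI false

open Module QuadraticMap MulAction
open scoped Matrix

namespace CfsgLib.KnownC.AutPOmega

open CfsgLib.Orth CfsgLib.Classical
open CfsgLib.KnownC.POmegaAut (GS Φ lin lin_apply ofOrth lin_ofOrth mem_omegaSub_iff omegaSub pgoAut_eq inn_eq
  scalars_le_ker induced_iff lin_injective exists_mult bit bit_eq_zero det_lin)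

universe u

variable {F : Type u} [Field F] [Fintype F] (m : ℕ)

/-- A vector of value one. -/
def unitVec : Unit ⊕ (Fin m ⊕ Fin m) → F := Pi.single (Sum.inl ()) 1

theorem unitVec_value : oddForm F m (unitVec m) = 1 := by
  rw [← oddForm_apply]
  simp [Cfsg.quadFormOdd, unitVec]

/-- The multiplier. -/
noncomputable def oddMult : GS (Cfsg.quadFormOdd m F) →* F where
  toFun g := oddForm F m (lin (Cfsg.quadFormOdd m F) g (unitVec m))
  map_one' := by rw [map_one]; exact unitVec_value m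
  map_mul' g h := by
    obtain ⟨μ, -, hμ⟩ := exists_mult (Cfsg.quadFormOdd m F) (oddForm F m) (oddForm_apply m) g
    rw [map_mul]
    show oddForm F m (lin _ g (lin _ h (unitVec m))) = _
    rw [hμ, hμ (unitVec m), unitVec_value, mul_one]

theorem oddMult_simil (g : GS (Cfsg.quadFormOdd m F)) :
    IsSimil (oddForm F m) (lin (Cfsg.quadFormOdd m F) g) (oddMult m g) := by
  obtain ⟨μ, -, hμ⟩ := exists_mult (Cfsg.quadFormOdd m F) (oddForm F m) (oddForm_apply m) g
  intro v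
  show _ = oddForm F m (lin _ g (unitVec m)) * _
  rw [hμ, hμ (unitVec m), unitVec_value, mul_one]

theorem oddMult_ne (g : GS (Cfsg.quadFormOdd m F)) : oddMult m g ≠ 0 := fun h => by
  have := (oddMult (F := F) m).map_one
  rw [← mul_inv_cancel g, map_mul, h, zero_mul] at this
  exact zero_ne_one this

theorem oddMat_det_ne (g : GS (Cfsg.quadFormOdd m F)) :
    (g.1 : Matrix (Unit ⊕ (Fin m ⊕ Fin m)) (Unit ⊕ (Fin m ⊕ Fin m)) F).det ≠ 0 :=
  ((Matrix.isUnit_iff_isUnit_det _).1 g.1.isUnit).ne_zero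

/-- The scalar making a similitude a special isometry. -/
noncomputable def oddScal : GS (Cfsg.quadFormOdd m F) →* F where
  toFun g := (g.1 : Matrix (Unit ⊕ (Fin m ⊕ Fin m)) (Unit ⊕ (Fin m ⊕ Fin m)) F).det / (oddMult m g) ^ m
  map_one' := by simp
  map_mul' g h := by
    rw [map_mul, mul_pow]
    show ((g.1 : Matrix (Unit ⊕ (Fin m ⊕ Fin m)) (Unit ⊕ (Fin m ⊕ Fin m)) F) *
      (h.1 : Matrix (Unit ⊕ (Fin m ⊕ Fin m)) (Unit ⊕ (Fin m ⊕ Fin m)) F)).det / _ = _
    rw [Matrix.det_mul, div_mul_div_comm]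

theorem oddScal_sq (h2 : (2 : F) ≠ 0) (g : GS (Cfsg.quadFormOdd m F)) : oddScal m g ^ 2 = oddMult m g := by
  set Q := oddForm F m
  set L : (Unit ⊕ (Fin m ⊕ Fin m) → F) →ₗ[F] (Unit ⊕ (Fin m ⊕ Fin m) → F) :=
    (lin (Cfsg.quadFormOdd m F) g).toLinearMap
  have h : (QuadraticMap.polarBilin Q).compl₁₂ L L = oddMult m g • QuadraticMap.polarBilin Q :=
    LinearMap.ext fun u => LinearMap.ext fun v => (oddMult_simil m g).polar u v
  have hd := congrArg (fun B => (LinearMap.toMatrix₂' F B).det) h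
  have hcard : Fintype.card (Unit ⊕ (Fin m ⊕ Fin m)) = 2 * m + 1 := by simp; omega
  simp only [LinearMap.toMatrix₂'_compl₁₂, Matrix.det_mul, Matrix.det_transpose, LinearMap.det_toMatrix', map_smul,
    Matrix.det_smul, hcard, L, det_lin] at hd
  have hne : (LinearMap.toMatrix₂' F (QuadraticMap.polarBilin Q)).det ≠ 0 :=
    Matrix.nondegenerate_iff_det_ne_zero.1 ((LinearMap.nondegenerate_toMatrix₂'_iff).2 (oddForm_nondeg m h2))
  have hd2 : (g.1 : Matrix (Unit ⊕ (Fin m ⊕ Fin m)) (Unit ⊕ (Fin m ⊕ Fin m)) F).det ^ 2 =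
      oddMult m g ^ (2 * m + 1) := by
    apply mul_right_cancel₀ hne
    linear_combination hd
  show ((g.1 : Matrix (Unit ⊕ (Fin m ⊕ Fin m)) (Unit ⊕ (Fin m ⊕ Fin m)) F).det / _) ^ 2 = _
  rw [div_pow, hd2, ← pow_mul, mul_comm m 2, pow_succ, mul_div_cancel_left₀ _ (pow_ne_zero _ (oddMult_ne m g))]

theorem oddScal_ne (g : GS (Cfsg.quadFormOdd m F)) : oddScal m g ≠ 0 :=
  div_ne_zero (oddMat_det_ne m g) (pow_ne_zero _ (oddMult_ne m g))

/-- The special isometry proportional to a similitude. -/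
noncomputable def oddNorm (h2 : (2 : F) ≠ 0) : GS (Cfsg.quadFormOdd m F) →* orthGroup (oddForm F m) where
  toFun g := ⟨(lin (Cfsg.quadFormOdd m F) g).trans
      (LinearEquiv.smulOfUnit (Units.mk0 (oddScal m g) (oddScal_ne m g))⁻¹), fun v => by
    show oddForm F m ((oddScal m g)⁻¹ • lin (Cfsg.quadFormOdd m F) g v) = _
    rw [quad_smul', oddMult_simil m g v, ← oddScal_sq m h2]
    have := oddScal_ne (F := F) m g
    field_simp⟩
  map_one' := Subtype.ext (LinearEquiv.ext fun v => by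
    show (oddScal (F := F) m 1)⁻¹ • lin (Cfsg.quadFormOdd m F) 1 v = v
    rw [map_one, map_one, inv_one, one_smul]; rfl)
  map_mul' g h := Subtype.ext (LinearEquiv.ext fun v => by
    show (oddScal m (g * h))⁻¹ • lin (Cfsg.quadFormOdd m F) (g * h) v =
      (oddScal m g)⁻¹ • lin (Cfsg.quadFormOdd m F) g ((oddScal m h)⁻¹ • lin (Cfsg.quadFormOdd m F) h v)
    rw [map_mul, map_mul, map_smul, smul_smul, mul_inv]
    rfl)

theorem oddNorm_apply (h2 : (2 : F) ≠ 0) (g : GS (Cfsg.quadFormOdd m F)) (v : Unit ⊕ (Fin m ⊕ Fin m) → F) :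
    (oddNorm m h2 g).1 v = (oddScal m g)⁻¹ • lin (Cfsg.quadFormOdd m F) g v := rfl

theorem oddNorm_det (h2 : (2 : F) ≠ 0) (g : GS (Cfsg.quadFormOdd m F)) :
    LinearMap.det ((oddNorm m h2 g).1 : (Unit ⊕ (Fin m ⊕ Fin m) → F) →ₗ[F] (Unit ⊕ (Fin m ⊕ Fin m) → F)) = 1 := by
  have e : ((oddNorm m h2 g).1 : (Unit ⊕ (Fin m ⊕ Fin m) → F) →ₗ[F] (Unit ⊕ (Fin m ⊕ Fin m) → F)) =
      (oddScal m g)⁻¹ • (lin (Cfsg.quadFormOdd m F) g : (Unit ⊕ (Fin m ⊕ Fin m) → F) →ₗ[F] _) :=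
    LinearMap.ext fun v => rfl
  have hcard : finrank F (Unit ⊕ (Fin m ⊕ Fin m) → F) = 2 * m + 1 := by simp; omega
  rw [e, LinearMap.det_smul, hcard, det_lin, inv_pow, inv_mul_eq_one₀ (pow_ne_zero _ (oddScal_ne m g)), pow_succ,
    pow_mul, oddScal_sq m h2]
  show oddMult m g ^ m * ((g.1 : Matrix (Unit ⊕ (Fin m ⊕ Fin m)) (Unit ⊕ (Fin m ⊕ Fin m)) F).det / _) = _
  rw [mul_div_cancel₀ _ (pow_ne_zero _ (oddMult_ne m g))]

/-- The spinor class of a similitude. -/
noncomputable def oddChi (h2 : (2 : F) ≠ 0) : GS (Cfsg.quadFormOdd m F) →* ℤˣ :=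
  (levelSign (oddForm F m) 1).comp (oddNorm m h2)

theorem oddNorm_ofOrth (h2 : (2 : F) ≠ 0) (h : orthGroup (oddForm F m))
    (hd : LinearMap.det (h.1 : (Unit ⊕ (Fin m ⊕ Fin m) → F) →ₗ[F] (Unit ⊕ (Fin m ⊕ Fin m) → F)) = 1) :
    oddNorm m h2 (ofOrth (Cfsg.quadFormOdd m F) (oddForm F m) (oddForm_apply m) h) = h := by
  set g := ofOrth (Cfsg.quadFormOdd m F) (oddForm F m) (oddForm_apply m) h
  have hl : lin (Cfsg.quadFormOdd m F) g = h.1 := lin_ofOrth _ _ (oddForm_apply m) h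
  have hmu : oddMult m g = 1 := by
    show oddForm F m (lin _ g (unitVec m)) = 1
    rw [hl, apply_quad, unitVec_value]
  have hc : oddScal m g = 1 := by
    show (g.1 : Matrix (Unit ⊕ (Fin m ⊕ Fin m)) (Unit ⊕ (Fin m ⊕ Fin m)) F).det / _ = 1
    rw [← det_lin, hl, hd, hmu]; simp
  exact Subtype.ext (LinearEquiv.ext fun v => by rw [oddNorm_apply, hc, hl]; simp)

theorem oddChi_iff [hQ : OCtx (oddForm F m)] (h2 : (2 : F) ≠ 0) (t : GS (Cfsg.quadFormOdd m F)) :
    oddChi m h2 t = 1 ↔ t ∈ omegaSub (Cfsg.quadFormOdd m F) ⊔ (Φ (Cfsg.quadFormOdd m F)).ker := by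
  constructor
  · intro h
    have hmem : oddNorm m h2 t ∈ commutator (orthGroup (oddForm F m)) :=
      (mem_commutator_odd hQ.nd h2 _).2 ⟨oddNorm_det m h2 t, h⟩
    set w := ofOrth (Cfsg.quadFormOdd m F) (oddForm F m) (oddForm_apply m) (oddNorm m h2 t)
    have hw : w ∈ omegaSub (Cfsg.quadFormOdd m F) :=
      (mem_omegaSub_iff _ _ (oddForm_apply m) _).2 ⟨_, hmem, rfl⟩
    refine (mul_inv_cancel_left w t) ▸ mul_mem (Subgroup.mem_sup_left hw) (Subgroup.mem_sup_right ?_)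
    have hl : ∀ v, lin (Cfsg.quadFormOdd m F) (w⁻¹ * t) v = oddScal m t • v := by
      intro v
      apply (lin (Cfsg.quadFormOdd m F) w).injective
      rw [← LinearEquiv.mul_apply, ← map_mul, mul_inv_cancel_left, map_smul,
        show lin (Cfsg.quadFormOdd m F) w = (oddNorm m h2 t).1 from lin_ofOrth _ _ (oddForm_apply m) _, oddNorm_apply,
        smul_smul, mul_inv_cancel₀ (oddScal_ne m t), one_smul]
    exact scalars_le_ker _ ⟨oddScal m t, Matrix.ext_iff_mulVec.2 fun v => by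
      rw [← lin_apply, hl, Matrix.smul_mulVec, Matrix.one_mulVec]⟩
  · intro ht
    refine MonoidHom.mem_ker.1 ((sup_le ?_ ?_ : _ ≤ (oddChi m h2).ker) ht)
    · intro w hw
      obtain ⟨h, hh, rfl⟩ := (mem_omegaSub_iff _ _ (oddForm_apply m) _).1 hw
      obtain ⟨hd, hs⟩ := (mem_commutator_odd hQ.nd h2 h).1 hh
      rw [MonoidHom.mem_ker]
      show levelSign (oddForm F m) 1 (oddNorm m h2 _) = 1
      rw [oddNorm_ofOrth m h2 h hd, hs]
    · intro z hz
      obtain ⟨c, hc⟩ := z.2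
      have hI : Cfsg.IsInducedBySemilinearPOmega (Cfsg.quadFormOdd m F) z.1 (RingEquiv.refl F) 1 :=
        (induced_iff _ z 1).2 (MonoidHom.mem_ker.1 hz).symm
      obtain ⟨-, l, hl⟩ := scalar_of_induced_one (oddForm F m) (oddForm_apply m) ⟨c, fun v => hc v⟩ hI
      rw [MonoidHom.mem_ker]
      show levelSign (oddForm F m) 1 (oddNorm m h2 z) = 1
      have hlv : ∀ v, lin (Cfsg.quadFormOdd m F) z v = l • v := fun v => by
        rw [lin_apply, hl, Matrix.smul_mulVec, Matrix.one_mulVec]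
      set h := oddNorm m h2 z
      set t := (oddScal m z)⁻¹ * l with ht'
      have hv : ∀ v, h.1 v = t • v := fun v => by rw [oddNorm_apply, hlv, smul_smul]
      have htt : t * t = 1 := by
        have := apply_quad h (unitVec m)
        rwa [hv, quad_smul', unitVec_value, mul_one] at this
      have hd := oddNorm_det m h2 z
      have e : (h.1 : (Unit ⊕ (Fin m ⊕ Fin m) → F) →ₗ[F] (Unit ⊕ (Fin m ⊕ Fin m) → F)) = t • LinearMap.id :=
        LinearMap.ext fun v => hv v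
      have hcard : finrank F (Unit ⊕ (Fin m ⊕ Fin m) → F) = 2 * m + 1 := by simp; omega
      rw [e, LinearMap.det_smul, hcard, LinearMap.det_id, mul_one, pow_succ, pow_mul, pow_two, htt, one_pow, one_mul] at hd
      rw [show h = 1 from Subtype.ext (LinearEquiv.ext fun v => by rw [hv, hd, one_smul]; rfl), map_one]

theorem oddChi_surjective [hQ : OCtx (oddForm F m)] (h2 : (2 : F) ≠ 0) : Function.Surjective (oddChi (F := F) m h2) := by
  classical
  suffices ∃ g, oddChi (F := F) m h2 g = -1 by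
    obtain ⟨g, hg⟩ := this
    intro x
    rcases Int.units_eq_one_or x with rfl | rfl
    · exact ⟨1, map_one _⟩
    · exact ⟨g, hg⟩
  obtain ⟨ν, hν0, hν⟩ : ∃ ν : F, ν ≠ 0 ∧ ¬ IsSquare ν := by
    obtain ⟨ν, hν⟩ := FiniteField.exists_nonsquare (by
      intro hc
      haveI : CharP F 2 := ringChar.of_eq hc
      exact h2 CharTwo.two_eq_zero)
    exact ⟨ν, fun h => hν (h ▸ IsSquare.zero), hν⟩
  obtain ⟨hp⟩ := hyp (Q := oddForm F m)
  set a := unitVec (F := F) m
  set b := hp.e₀ + ν • hp.f₀ with hb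
  have hQb : oddForm F m b = ν := by rw [hb, quad_add', quad_smul', polar_smul_r', hp.he₀, hp.hf₀, hp.h00]; ring
  have hQa : oddForm F m a = 1 := unitVec_value m
  set h := refl (oddForm F m) a * refl (oddForm F m) b
  have hd : LinearMap.det (h.1 : (Unit ⊕ (Fin m ⊕ Fin m) → F) →ₗ[F] (Unit ⊕ (Fin m ⊕ Fin m) → F)) = 1 := by
    show LinearMap.det (((refl (oddForm F m) a).1 : (Unit ⊕ (Fin m ⊕ Fin m) → F) →ₗ[F] _) *
      ((refl (oddForm F m) b).1 : (Unit ⊕ (Fin m ⊕ Fin m) → F) →ₗ[F] _)) = 1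
    rw [map_mul, det_refl _ (by rw [hQa]; exact one_ne_zero), det_refl _ (by rw [hQb]; exact hν0)]
    ring
  refine ⟨ofOrth (Cfsg.quadFormOdd m F) (oddForm F m) (oddForm_apply m) h, ?_⟩
  show levelSign (oddForm F m) 1 (oddNorm m h2 _) = -1
  rw [oddNorm_ofOrth m h2 h hd, map_mul, levelSign_refl (oddForm F m) h2 one_ne_zero (by rw [hQa]; exact one_ne_zero),
    levelSign_refl (oddForm F m) h2 one_ne_zero (by rw [hQb]; exact hν0), one_mul, one_mul, hQa, hQb, if_pos IsSquare.one,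
    if_neg hν, mul_one]

theorem odd_pgo [hQ : OCtx (oddForm F m)] (h2 : (2 : F) ≠ 0) :
    ∃ φ : ↥(Cfsg.pgoAut F (Cfsg.quadFormOdd m F)) →* ℤˣ, Function.Surjective φ ∧
      φ.ker = (Cfsg.Inn (Cfsg.POmega F (Cfsg.quadFormOdd m F))).subgroupOf
        (Cfsg.pgoAut F (Cfsg.quadFormOdd m F)) := by
  rw [pgoAut_eq, inn_eq]
  refine POmegaAut.descend (Φ (Cfsg.quadFormOdd m F)) (omegaSub _) ⊤ ((oddChi m h2).comp (Subgroup.subtype _))
    (fun x => ⟨⟨(oddChi_surjective m h2 x).choose, trivial⟩, (oddChi_surjective m h2 x).choose_spec⟩) fun t => ?_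
  exact oddChi_iff m h2 t.1

omit [Fintype F] in
theorem odd_std (σ : F ≃+* F) (v : Unit ⊕ (Fin m ⊕ Fin m) → F) :
    Cfsg.quadFormOdd m F (fun i => σ (v i)) = σ (Cfsg.quadFormOdd m F v) := by
  simp [Cfsg.quadFormOdd, map_sum]

theorem odd_card {p f : ℕ} [Fact p.Prime] (hF : Fintype.card F = p ^ f) (h2 : (2 : F) ≠ 0) (hm : 3 ≤ m) :
    Nat.card (MulAut (Cfsg.POmega F (Cfsg.quadFormOdd m F))) =
      2 * f * Nat.card (Cfsg.POmega F (Cfsg.quadFormOdd m F)) := by
  haveI := octx_odd (F := F) hm h2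
  obtain ⟨φ, hφ, hk⟩ := odd_pgo (F := F) m h2
  obtain ⟨e⟩ := AutPSL.ringAut_cyclic (F := F) hF
  rw [card_mulAut (oddForm F m) (oddForm_apply m) fun σ => ⟨1, std_pair (odd_std m σ)⟩, relIndex_of_hom φ hφ hk,
    Nat.card_congr e.toEquiv, Nat.card_congr Multiplicative.toAdd, Nat.card_zmod, Nat.card_eq_fintype_card,
    Fintype.card_units_int]

theorem odd_out {p f : ℕ} [Fact p.Prime] (hF : Fintype.card F = p ^ f) (h2 : (2 : F) ≠ 0) (hm : 3 ≤ m) :
    Nonempty (Cfsg.Out (Cfsg.POmega F (Cfsg.quadFormOdd m F)) ≃* Multiplicative (ZMod 2 × ZMod f)) := by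
  haveI := octx_odd (F := F) hm h2
  obtain ⟨φ, hφ, hk⟩ := odd_pgo (F := F) m h2
  obtain ⟨π, hπ, hker⟩ := exists_field_hom (oddForm F m) (oddForm_apply m)
  obtain ⟨sec, hsec⟩ := exists_std_section (odd_std (F := F) m)
  obtain ⟨E⟩ := out_prod (oddForm F m) (oddForm_apply m) φ hφ hk π hker sec (fun σ => hπ _ _ _ (hsec σ))
    fun σ x hx => by
      haveI := POmegaAut.inn_normal (Cfsg.POmega F (Cfsg.quadFormOdd m F))
      have key : φ ⟨_, hx⟩ = 1 ↔ φ x = 1 := by
        rw [← MonoidHom.mem_ker, ← MonoidHom.mem_ker, hk, Subgroup.mem_subgroupOf, Subgroup.mem_subgroupOf]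
        exact ⟨fun h => by simpa [mul_assoc] using Subgroup.Normal.conj_mem' inferInstance _ h (sec σ),
          fun h => Subgroup.Normal.conj_mem inferInstance _ h (sec σ)⟩
      rcases Int.units_eq_one_or (φ x) with h | h <;> rcases Int.units_eq_one_or (φ ⟨_, hx⟩) with h' | h'
      · rw [h, h']
      · exact absurd (key.2 h) (by rw [h']; decide)
      · exact absurd (key.1 h') (by rw [h]; decide)
      · rw [h, h']
  obtain ⟨e⟩ := AutPSL.ringAut_cyclic (F := F) hF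
  have hcyc : IsCyclic ℤˣ := inferInstance
  let e2 : ℤˣ ≃* Multiplicative (ZMod 2) := mulEquivOfCyclicCardEq (by
    rw [Nat.card_eq_fintype_card, Fintype.card_units_int, Nat.card_congr Multiplicative.toAdd, Nat.card_zmod])
  exact ⟨E.trans ((MulEquiv.prodCongr e2 e).trans (MulEquiv.prodMultiplicative _ _).symm)⟩

end CfsgLib.KnownC.AutPOmega
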