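import Cfsg.Agent.Lib.KnownC.AutPOmega.FieldMinus
import Cfsg.Agent.Lib.KnownC.POmegaGraph

/-!
# Field and graph-field automorphisms of the plus-type groups
-/

set_option autoImplicit false
set_option linter.unusedSectionVars false
set_option linter.style.haveILetI false

open Module QuadraticMap
open scoped Matrix

namespace CfsgLib.KnownC.AutPOmega

open CfsgLib.Orth CfsgLib.Classical
open CfsgLib.KnownC.POmegaAut (GS Φ lin lin_apply ofOrth lin_ofOrth IsSemiInduced inn_eq induced_iff)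

universe u v

theorem plus_std {F : Type u} [Field F] (m : ℕ) (σ : F ≃+* F) (v : Fin m ⊕ Fin m → F) :
    Cfsg.quadFormPlus m F (fun i => σ (v i)) = σ (Cfsg.quadFormPlus m F v) := by
  simp [Cfsg.quadFormPlus, map_sum]

theorem plus_hP {F : Type u} [Field F] {F₀ : Type v} [Field F₀] (emb : F₀ →+* F) (m : ℕ) (w : Fin m ⊕ Fin m → F₀) :
    plusForm F m (⇑emb ∘ w) = emb (plusForm F₀ m w) := by
  rw [← plusForm_apply, ← plusForm_apply]
  simp [Cfsg.quadFormPlus, map_sum]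

theorem minus_hP {F : Type u} [Field F] {F₀ : Type v} [Field F₀] (emb : F₀ →+* F) (k : ℕ) (ζ : F₀)
    (w : (Fin k ⊕ Fin k) ⊕ Fin 2 → F₀) : minusForm F k 1 (emb ζ) (⇑emb ∘ w) = emb (minusForm F₀ k 1 ζ w) := by
  rw [← minusForm_apply, ← minusForm_apply]
  simp [Cfsg.quadFormMinus, map_sum]

/-- The last hyperbolic pair read in the coordinates `z₁ - ρ z₂, z₁ + (1 + ρ) z₂`. -/
def plusCoord {F : Type u} [Field F] (k : ℕ) (ρ : F) :
    ((Fin k ⊕ Fin k) ⊕ Fin 2 → F) →ₗ[F] (Fin (k + 1) ⊕ Fin (k + 1) → F) :=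
  LinearMap.pi (Sum.elim
    (Fin.snoc (fun i => LinearMap.proj (Sum.inl (Sum.inl i)))
      (LinearMap.proj (Sum.inr 0) - ρ • LinearMap.proj (Sum.inr 1)))
    (Fin.snoc (fun i => LinearMap.proj (Sum.inl (Sum.inr i)))
      (LinearMap.proj (Sum.inr 0) + (1 + ρ) • LinearMap.proj (Sum.inr 1))))

variable {F : Type u} [Field F] [Fintype F]

section

variable {k : ℕ} {ρ : F}

theorem plusCoord_il (v : (Fin k ⊕ Fin k) ⊕ Fin 2 → F) (i : Fin k) :
    plusCoord k ρ v (Sum.inl i.castSucc) = v (Sum.inl (Sum.inl i)) := by simp [plusCoord]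

theorem plusCoord_ir (v : (Fin k ⊕ Fin k) ⊕ Fin 2 → F) (i : Fin k) :
    plusCoord k ρ v (Sum.inr i.castSucc) = v (Sum.inl (Sum.inr i)) := by simp [plusCoord]

theorem plusCoord_ll (v : (Fin k ⊕ Fin k) ⊕ Fin 2 → F) :
    plusCoord k ρ v (Sum.inl (Fin.last k)) = v (Sum.inr 0) - ρ * v (Sum.inr 1) := by simp [plusCoord]

theorem plusCoord_lr (v : (Fin k ⊕ Fin k) ⊕ Fin 2 → F) :
    plusCoord k ρ v (Sum.inr (Fin.last k)) = v (Sum.inr 0) + (1 + ρ) * v (Sum.inr 1) := by simp [plusCoord]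

end

/-- The reflection vector exchanging the last pair. -/
def swapVec (k : ℕ) : Fin (k + 1) ⊕ Fin (k + 1) → F := Pi.single (Sum.inl (Fin.last k)) 1 - Pi.single (Sum.inr (Fin.last k)) 1

theorem swapVec_value (k : ℕ) : plusForm F (k + 1) (swapVec k) = -1 := by
  rw [← plusForm_apply]
  simp [Cfsg.quadFormPlus, swapVec, Pi.single_apply]

/-- The pairs exchanged up to scalars: `(x, y) ↦ (u y, u⁻¹ x)` is the reflection in `(u, -1)`. -/
theorem refl_pair_vec (m : ℕ) (i : Fin m) (u : F) :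
    plusForm F m (Pi.single (Sum.inl i) u - Pi.single (Sum.inr i) 1) = -u ∧
    ∀ v, polar (plusForm F m) (Pi.single (Sum.inl i) u - Pi.single (Sum.inr i) 1) v =
      u * v (Sum.inr i) - v (Sum.inl i) := by
  refine ⟨?_, fun v => ?_⟩
  · rw [← plusForm_apply]
    simp [Cfsg.quadFormPlus, Pi.single_apply]
  · simp [plusForm_polar, Pi.single_apply, ite_mul]

/-- The product of the reflections of a family of pairs. -/
theorem prod_refl_pairs (m : ℕ) (u : Fin m → F) (hu : ∀ i, u i ≠ 0) (l : List (Fin m)) (hl : l.Nodup)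
    (v : Fin m ⊕ Fin m → F) :
    (((l.map fun i => (Pi.single (Sum.inl i) (u i) - Pi.single (Sum.inr i) 1 : Fin m ⊕ Fin m → F)).map
      (refl (plusForm F m))).prod).1 v =
      Sum.elim (fun i => if i ∈ l then u i * v (Sum.inr i) else v (Sum.inl i))
        (fun i => if i ∈ l then (u i)⁻¹ * v (Sum.inl i) else v (Sum.inr i)) := by
  induction l with
  | nil => funext j; rcases j with j | j <;> simp
  | cons a l ih =>
    rw [List.nodup_cons] at hl
    simp only [List.map_cons, List.prod_cons]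
    rw [Subgroup.coe_mul, LinearEquiv.mul_apply]
    rw [ih hl.2, refl_apply, (refl_pair_vec m a (u a)).1, (refl_pair_vec m a (u a)).2]
    funext j
    rcases j with j | j <;> by_cases hj : j = a
    · subst hj; simp [hl.1]; field_simp [hu j]; ring
    · simp [hj]
    · subst hj; simp [hl.1]; field_simp [hu j]; ring
    · simp [hj]

section Field

variable {F₀ : Type v} [Field F₀] [Fintype F₀] {emb : F₀ →+* F}

/-- Over the fixed field the form is hyperbolic or of minus type. -/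
theorem plus_desc {k : ℕ} [hQ : OCtx (plusForm F (k + 1))] {A : GL (Fin (k + 1) ⊕ Fin (k + 1)) F} {σ : F ≃+* F}
    {β : MulAut (Cfsg.POmega F (Cfsg.quadFormPlus (k + 1) F))}
    (h : IsSemiInduced (Cfsg.quadFormPlus (k + 1) F) A σ β) {r : ℕ} (hσ : orderOf σ = r) (hr : 1 ≤ r)
    (hβ : β ^ r = 1) (hι : ∀ x, σ x = x ↔ x ∈ Set.range emb) {ζ₀ : F₀} (hζ₀ : ∀ t : F₀, t ^ 2 + t + ζ₀ ≠ 0) :
    ∃ A' : GL (Fin (k + 1) ⊕ Fin (k + 1)) F, IsSemiInduced (Cfsg.quadFormPlus (k + 1) F) A' σ β ∧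
      (Nonempty (Desc (plusForm F (k + 1)) A' σ emb (plusForm F₀ (k + 1)) (plusForm F (k + 1))) ∨
        Nonempty (Desc (plusForm F (k + 1)) A' σ emb (minusForm F₀ k 1 ζ₀) (minusForm F k 1 (emb ζ₀)))) := by
  obtain ⟨A', P₀, P, hA', hnd, ⟨D⟩⟩ := exists_desc (plusForm F (k + 1)) (plusForm_apply (k + 1)) h hσ hr hβ hι
  have hσe : ∀ x, σ (emb x) = emb x := fun x => (hι _).2 ⟨x, rfl⟩
  have hfin : finrank F₀ (Fin (k + 1) ⊕ Fin (k + 1) → F₀) = 2 * (k + 1) := by
    rw [finrank_fintype_fun_eq_card, card_plus_index]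
  refine ⟨A', hA', ?_⟩
  rcases classify_even hnd hfin with ⟨e, he⟩ | ⟨-, e, ζ, hζ, he⟩
  · exact Or.inl (D.change (plusForm F (k + 1)) (plus_hP emb (k + 1)) hσe one_ne_zero e fun w => by rw [he, one_mul])
  · obtain ⟨e', he'⟩ := exists_minus_iso (m := k) hζ hζ₀
    exact Or.inr (D.change (plusForm F (k + 1)) (R₀ := minusForm F₀ k 1 ζ₀) (R := minusForm F k 1 (emb ζ₀))
      (minus_hP emb k ζ₀) hσe one_ne_zero (e'.trans e) (fun w => by
        rw [one_mul]
        exact (he (e' w)).trans (he' w)))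

/-- The trivial datum. -/
def plusDesc (m : ℕ) (emb : F₀ →+* F) (σ : F ≃+* F) :
    Desc (plusForm F m) 1 σ emb (plusForm F₀ m) (plusForm F m) where
  e := LinearEquiv.refl F _
  z := 1
  hz := one_ne_zero
  hQ v := (one_mul _).symm
  hfix v := by rw [Units.val_one, Matrix.one_mulVec]; rfl
  hemb := plus_hP emb m

/-- A minus datum forces a root of the anisotropic polynomial. -/
theorem exists_root_of_minus {k : ℕ} {A : GL (Fin (k + 1) ⊕ Fin (k + 1)) F} {σ : F ≃+* F} {ζ₀ : F₀}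
    (D : Desc (plusForm F (k + 1)) A σ emb (minusForm F₀ k 1 ζ₀) (minusForm F k 1 (emb ζ₀))) :
    ∃ ρ : F, ρ ^ 2 + ρ + emb ζ₀ = 0 := by
  by_contra h
  push Not at h
  obtain ⟨U, hU, hUm⟩ := FieldExt.exists_plus_singular (F := F) (k + 1)
  have := minus_singular_finrank_le (anisotropic_of_no_root h)
    (U.map (D.e.symm : (Fin (k + 1) ⊕ Fin (k + 1) → F) →ₗ[F] ((Fin k ⊕ Fin k) ⊕ Fin 2 → F))) (by
      rintro _ ⟨u, hu, rfl⟩
      show minusForm F k 1 (emb ζ₀) (D.e.symm u) = 0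
      have h1 := D.hQ (D.e.symm u)
      rw [LinearEquiv.apply_symm_apply, hU u hu] at h1
      exact (mul_eq_zero.1 h1.symm).resolve_left D.hz)
  rw [LinearEquiv.finrank_map_eq, hUm] at this
  omega

/-- The explicit minus datum of the graph-field element. -/
theorem exists_minus_datum (k : ℕ) {σ : F ≃+* F} (hι : ∀ x, σ x = x ↔ x ∈ Set.range emb) {ζ₀ : F₀}
    (hζ₀ : ∀ t : F₀, t ^ 2 + t + ζ₀ ≠ 0) {ρ : F} (hρ : ρ ^ 2 + ρ + emb ζ₀ = 0) :
    ∃ D : Desc (plusForm F (k + 1))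
      (ofOrth (Cfsg.quadFormPlus (k + 1) F) (plusForm F (k + 1)) (plusForm_apply (k + 1))
        (refl (plusForm F (k + 1)) (swapVec k))).1 σ emb (minusForm F₀ k 1 ζ₀) (minusForm F k 1 (emb ζ₀)),
      D.z = 1 ∧ (∀ v, D.e v = plusCoord k ρ v) ∧ σ ρ = -1 - ρ := by
  have hσρ : σ ρ = -1 - ρ := by
    have h1 : σ ρ ^ 2 + σ ρ + emb ζ₀ = 0 := by
      have := congrArg σ hρ
      rwa [map_add, map_add, map_pow, map_zero, (hι _).2 ⟨ζ₀, rfl⟩] at this
    have h2 : (σ ρ - ρ) * (σ ρ + ρ + 1) = 0 := by linear_combination h1 - hρ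
    rcases mul_eq_zero.1 h2 with h | h
    · obtain ⟨t, rfl⟩ := (hι ρ).1 (sub_eq_zero.1 h)
      exact absurd (emb.injective (by simpa using hρ)) (hζ₀ t)
    · linear_combination h
  have hne : 1 + 2 * ρ ≠ 0 := fun h => by
    obtain ⟨t, rfl⟩ := (hι ρ).1 (by rw [hσρ]; linear_combination -h)
    exact absurd (emb.injective (by simpa using hρ)) (hζ₀ t)
  have hQe : ∀ v, plusForm F (k + 1) (plusCoord k ρ v) = minusForm F k 1 (emb ζ₀) v := fun v => by
    rw [← plusForm_apply, ← minusForm_apply]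
    simp only [Cfsg.quadFormPlus, Cfsg.quadFormMinus, Fin.sum_univ_castSucc, plusCoord_il, plusCoord_ir, plusCoord_ll,
      plusCoord_lr]
    linear_combination -(v (Sum.inr 1) ^ 2) * hρ
  have hinj : Function.Injective (plusCoord k ρ) := by
    rw [← LinearMap.ker_eq_bot, LinearMap.ker_eq_bot']
    intro v hv
    have hl : v (Sum.inr 0) - ρ * v (Sum.inr 1) = 0 := by rw [← plusCoord_ll, hv]; rfl
    have hr : v (Sum.inr 0) + (1 + ρ) * v (Sum.inr 1) = 0 := by rw [← plusCoord_lr, hv]; rfl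
    have h1 : v (Sum.inr 1) = 0 := (mul_eq_zero.1 (show (1 + 2 * ρ) * v (Sum.inr 1) = 0 by
      linear_combination hr - hl)).resolve_left hne
    funext i
    rcases i with (i | i) | i
    · rw [← plusCoord_il (ρ := ρ) v i, hv]; rfl
    · rw [← plusCoord_ir (ρ := ρ) v i, hv]; rfl
    · fin_cases i
      · show v (Sum.inr 0) = 0
        rw [h1, mul_zero, sub_zero] at hl
        exact hl
      · exact h1
  let e : ((Fin k ⊕ Fin k) ⊕ Fin 2 → F) ≃ₗ[F] (Fin (k + 1) ⊕ Fin (k + 1) → F) :=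
    LinearEquiv.ofBijective (plusCoord k ρ) ⟨hinj, (LinearMap.injective_iff_surjective_of_finrank_eq_finrank (by
      rw [finrank_fintype_fun_eq_card, finrank_fintype_fun_eq_card, card_plus_index, card_minus_index])).1 hinj⟩
  refine ⟨⟨e, 1, one_ne_zero, fun v => (hQe v).trans (one_mul _).symm, fun v => ?_, minus_hP emb k ζ₀⟩, rfl,
    fun v => rfl, hσρ⟩
  show _ *ᵥ (⇑σ ∘ plusCoord k ρ v) = plusCoord k ρ (⇑σ ∘ v)
  rw [← lin_apply, lin_ofOrth, refl_apply, swapVec_value, swapVec,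
    (refl_pair_vec (k + 1) (Fin.last k) (1 : F)).2]
  funext j
  rcases j with j | j <;> induction j using Fin.lastCases with
  | last =>
    simp [plusCoord_ll, plusCoord_lr, hσρ]
    ring
  | cast i =>
    simp [plusCoord_il, plusCoord_ir, (Fin.castSucc_lt_last i).ne]

end Field

section Coset

variable {m : ℕ}

/-- Conjugating a standard field automorphism changes it by a proper similitude. -/
theorem plus_conj_mem [hQ : OCtx (plusForm F m)] {φ k : MulAut (Cfsg.POmega F (Cfsg.quadFormPlus m F))}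
    (hk : k ∈ Cfsg.pgoAut F (Cfsg.quadFormPlus m F)) {σ : F ≃+* F}
    (hφ : IsSemiInduced (Cfsg.quadFormPlus m F) (1 : GL (Fin m ⊕ Fin m) F) σ φ) :
    k * φ * k⁻¹ * φ⁻¹ ∈ (properSub (plusForm F m) (plusForm_apply m) m).map (Φ (Cfsg.quadFormPlus m F)) := by
  set H := (properSub (plusForm F m) (plusForm_apply m) m).map (Φ (Cfsg.quadFormPlus m F))
  have hN : H.Normal := proper_normal _ _ (card_plus_index m)
  rw [POmegaAut.pgoAut_eq] at hk
  obtain ⟨g, -, rfl⟩ := hk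
  obtain ⟨h, he, hdet, hsim⟩ := semi_conj_gs (plusForm F m) (plusForm_apply m) hφ g⁻¹
  rw [map_inv] at he
  have he' : Φ _ g * φ * (Φ _ g)⁻¹ * φ⁻¹ = Φ (Cfsg.quadFormPlus m F) (g * h) := by
    rw [map_mul, ← he]; group
  rw [he']
  refine ⟨g * h, ?_, rfl⟩
  by_cases hg : g ∈ properSub (plusForm F m) (plusForm_apply m) m
  · have h1 : (Φ (Cfsg.quadFormPlus m F) h) ∈ H := by
      rw [← he]; exact hN.conj_mem _ (inv_mem ⟨g, hg, rfl⟩) φ
    obtain ⟨h', hh', e⟩ := h1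
    have : h'⁻¹ * h ∈ properSub (plusForm F m) (plusForm_apply m) m :=
      ker_le_proper _ _ (card_plus_index m) (by rw [MonoidHom.mem_ker, map_mul, map_inv, e, inv_mul_cancel])
    exact mul_mem hg (by simpa using mul_mem hh' this)
  · refine proper_index_two _ _ (card_plus_index m) hg fun hh => hg ?_
    have h1 : (Φ (Cfsg.quadFormPlus m F) g⁻¹) ∈ H := by
      have h2 := hN.conj_mem _ ⟨h, hh, rfl⟩ φ⁻¹
      rw [← he] at h2
      simpa [map_inv, mul_assoc] using h2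
    obtain ⟨h', hh', e⟩ := h1
    have : h'⁻¹ * g⁻¹ ∈ properSub (plusForm F m) (plusForm_apply m) m :=
      ker_le_proper _ _ (card_plus_index m) (by rw [MonoidHom.mem_ker, map_mul, map_inv, e, inv_mul_cancel])
    simpa using mul_mem hh' this

end Coset

section Kinds

variable {F₀ : Type v} [Field F₀] [Fintype F₀] {emb : F₀ →+* F} {k : ℕ}

theorem plus_kind [hQ : OCtx (plusForm F (k + 1))] {A : GL (Fin (k + 1) ⊕ Fin (k + 1)) F} {σ : F ≃+* F}
    {β φ : MulAut (Cfsg.POmega F (Cfsg.quadFormPlus (k + 1) F))}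
    (hA : IsSemiInduced (Cfsg.quadFormPlus (k + 1) F) A σ β)
    (hφ : IsSemiInduced (Cfsg.quadFormPlus (k + 1) F) (1 : GL (Fin (k + 1) ⊕ Fin (k + 1)) F) σ φ)
    (D : Desc (plusForm F (k + 1)) A σ emb (plusForm F₀ (k + 1)) (plusForm F (k + 1))) :
    β * φ⁻¹ ∈ (properSub (plusForm F (k + 1)) (plusForm_apply (k + 1)) (k + 1)).map
      (Φ (Cfsg.quadFormPlus (k + 1) F)) := by
  obtain ⟨g, rfl, -⟩ := (plusDesc (k + 1) emb σ).conj (plusForm_apply (k + 1)) D hφ hA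
  exact plus_conj_mem (by rw [POmegaAut.pgoAut_eq]; exact ⟨g, trivial, rfl⟩) hφ

theorem minus_kind [hQ : OCtx (plusForm F (k + 1))] {A : GL (Fin (k + 1) ⊕ Fin (k + 1)) F} {σ : F ≃+* F}
    {β φ : MulAut (Cfsg.POmega F (Cfsg.quadFormPlus (k + 1) F))}
    (hA : IsSemiInduced (Cfsg.quadFormPlus (k + 1) F) A σ β)
    (hφ : IsSemiInduced (Cfsg.quadFormPlus (k + 1) F) (1 : GL (Fin (k + 1) ⊕ Fin (k + 1)) F) σ φ)
    (hι : ∀ x, σ x = x ↔ x ∈ Set.range emb) {ζ₀ : F₀} (hζ₀ : ∀ t : F₀, t ^ 2 + t + ζ₀ ≠ 0)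
    (D : Desc (plusForm F (k + 1)) A σ emb (minusForm F₀ k 1 ζ₀) (minusForm F k 1 (emb ζ₀))) :
    β * φ⁻¹ ∉ (properSub (plusForm F (k + 1)) (plusForm_apply (k + 1)) (k + 1)).map
      (Φ (Cfsg.quadFormPlus (k + 1) F)) := by
  set H := (properSub (plusForm F (k + 1)) (plusForm_apply (k + 1)) (k + 1)).map (Φ (Cfsg.quadFormPlus (k + 1) F))
  have hN : H.Normal := proper_normal _ _ (card_plus_index (k + 1))
  obtain ⟨ρ, hρ⟩ := exists_root_of_minus D
  obtain ⟨D₁, -⟩ := exists_minus_datum k hι hζ₀ hρ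
  set S := ofOrth (Cfsg.quadFormPlus (k + 1) F) (plusForm F (k + 1)) (plusForm_apply (k + 1))
    (refl (plusForm F (k + 1)) (swapVec k))
  have h1 : IsSemiInduced (Cfsg.quadFormPlus (k + 1) F) S.1 σ (Φ _ S * φ) := by
    have := semi_left S hφ
    rwa [mul_one] at this
  obtain ⟨g, rfl, -⟩ := D₁.conj (plusForm_apply (k + 1)) D h1 hA
  intro hm
  have h2 := plus_conj_mem (k := Φ _ g) (by rw [POmegaAut.pgoAut_eq]; exact ⟨g, trivial, rfl⟩) hφ
  have h3 : Φ (Cfsg.quadFormPlus (k + 1) F) g * Φ _ S * (Φ _ g)⁻¹ ∈ H := by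
    have := mul_mem hm (inv_mem h2)
    convert this using 1
    group
  have h4 : Φ (Cfsg.quadFormPlus (k + 1) F) S ∈ H := by
    have := hN.conj_mem _ h3 (Φ _ g)⁻¹
    convert this using 1
    group
  obtain ⟨h', hh', e⟩ := h4
  refine refl_not_proper (plusForm F (k + 1)) (plusForm_apply (k + 1)) (n := k + 1)
    (a := swapVec k) (by rw [swapVec_value]; exact neg_ne_zero.2 one_ne_zero) ?_
  have : h'⁻¹ * S ∈ properSub (plusForm F (k + 1)) (plusForm_apply (k + 1)) (k + 1) :=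
    ker_le_proper _ _ (card_plus_index (k + 1)) (by rw [MonoidHom.mem_ker, map_mul, map_inv, e, inv_mul_cancel])
  simpa using mul_mem hh' this

/-- Two elements of prime order in one coset of the proper classes are conjugate. -/
theorem plus_conj (hk : 4 ≤ k) {A A' : GL (Fin (k + 1) ⊕ Fin (k + 1)) F} {σ : F ≃+* F}
    {x y : MulAut (Cfsg.POmega F (Cfsg.quadFormPlus (k + 1) F))}
    (hx : IsSemiInduced (Cfsg.quadFormPlus (k + 1) F) A σ x) (hy : IsSemiInduced (Cfsg.quadFormPlus (k + 1) F) A' σ y)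
    {r : ℕ} (hσ : orderOf σ = r) (hr : 1 ≤ r) (hxr : x ^ r = 1) (hyr : y ^ r = 1)
    (hxy : y * x⁻¹ ∈ Cfsg.inndiagPOmegaPlus (k + 1) F) :
    Cfsg.IsConjUnder (Cfsg.inndiagPOmegaPlus (k + 1) F) x y := by
  haveI := octx_plus (F := F) (m := k + 1) (by omega)
  rw [inndiag_plus_eq (by omega)] at hxy ⊢
  let K := AutPSL.fixField σ
  letI : Fintype K := Fintype.ofFinite K
  have hι : ∀ y, σ y = y ↔ y ∈ Set.range K.subtype := fun y =>
    ⟨fun h => ⟨⟨y, h⟩, rfl⟩, by rintro ⟨z, rfl⟩; exact z.2⟩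
  have hσe : ∀ z, σ (K.subtype z) = K.subtype z := fun z => (hι _).2 ⟨z, rfl⟩
  obtain ⟨ζ₀, hζ₀⟩ := exists_zeta K
  haveI := octx_plus (F := K) (m := k + 1) (by omega)
  haveI := octx_minus (F := K) (m := k) (by omega) (anisotropic_of_no_root hζ₀)
  obtain ⟨φ, hφ⟩ := exists_induced (std_pair (Qf := Cfsg.quadFormPlus (k + 1) F) (plus_std (k + 1) σ))
  set H := (properSub (plusForm F (k + 1)) (plusForm_apply (k + 1)) (k + 1)).map (Φ (Cfsg.quadFormPlus (k + 1) F))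
  obtain ⟨B, hB, hDx⟩ := plus_desc hx hσ hr hxr hι hζ₀
  obtain ⟨B', hB', hDy⟩ := plus_desc hy hσ hr hyr hι hζ₀
  have hiff : y * φ⁻¹ ∈ H ↔ x * φ⁻¹ ∈ H := by
    rw [show y * φ⁻¹ = (y * x⁻¹) * (x * φ⁻¹) by group]
    exact H.mul_mem_cancel_left hxy
  rcases hDx with ⟨⟨D⟩⟩ | ⟨⟨D⟩⟩ <;> rcases hDy with ⟨⟨D'⟩⟩ | ⟨⟨D'⟩⟩
  · exact D.conj_proper (plusForm_apply (k + 1)) D' (card_plus_index (k + 1)) hσe hB hB'
  · exact absurd (hiff.2 (plus_kind hB hφ D)) (minus_kind hB' hφ hι hζ₀ D')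
  · exact absurd (hiff.1 (plus_kind hB' hφ D')) (minus_kind hB hφ hι hζ₀ D)
  · exact D.conj_proper (plusForm_apply (k + 1)) D' (card_plus_index (k + 1)) hσe hB hB'

end Kinds

/-- The field component of a field or graph-field automorphism of prime order. -/
theorem plus_class {m : ℕ} (hm : 5 ≤ m) {x : MulAut (Cfsg.POmega F (Cfsg.quadFormPlus m F))}
    (hx : Cfsg.IsFieldAutClassPOmega (Cfsg.quadFormPlus m F) x ∨ Cfsg.IsGraphFieldAutClassPOmegaPlus m x) {r : ℕ}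
    (hr : r.Prime) (hxr : orderOf x = r) :
    ∃ (σ : F ≃+* F) (A : GL (Fin m ⊕ Fin m) F), IsSemiInduced (Cfsg.quadFormPlus m F) A σ x ∧ orderOf σ = r := by
  haveI := octx_plus (F := F) (m := m) hm
  obtain ⟨π, hπ, hker⟩ := exists_field_hom (plusForm F m) (plusForm_apply m)
  obtain ⟨A, σ, hA⟩ := exists_semi (plusForm F m) (plusForm_apply m) x
  suffices hne : σ ≠ RingEquiv.refl F from
    ⟨σ, A, hA, orderOf_field (plusForm F m) (plusForm_apply m) hA hr hxr hne⟩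
  intro hσ
  have hx1 : π x = 1 := (hπ A σ x hA).trans hσ
  rcases hx with ⟨α, φ, τ, hτ, hφ, e⟩ | ⟨α, γ, φ, τ, v, g, hτ, hv, hvf, hg, hγ, hφ, e⟩
  · have := congrArg π e
    rw [map_mul, map_mul, map_inv, hx1, mul_one, mul_inv_cancel,
      hπ _ τ φ ⟨std_pair (plus_std m τ), (induced_std_iff τ _).2 hφ⟩] at this
    exact hτ this.symm
  · have hγ' : γ ∈ Cfsg.pgoAut F (Cfsg.quadFormPlus m F) := by
      refine Subgroup.subset_closure ⟨g, ?_, hγ⟩
      refine ⟨1, fun w => ?_⟩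
      rw [Units.val_one, one_mul, hg, show Cfsg.quadFormPlus m F = ⇑(plusForm F m) from funext (plusForm_apply m),
        ← matOf_refl, matOf_mulVec]
      exact apply_quad _ w
    have := congrArg π e
    rw [map_mul, map_mul, map_inv, hx1, mul_one, mul_inv_cancel, map_mul, (hker γ).2 hγ', one_mul,
      hπ _ τ φ ⟨std_pair (plus_std m τ), (induced_std_iff τ _).2 hφ⟩] at this
    exact hτ this.symm

theorem plus_coset_conj {m : ℕ} (hm : 5 ≤ m) {x δ : MulAut (Cfsg.POmega F (Cfsg.quadFormPlus m F))}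
    (hx : Cfsg.IsFieldAutClassPOmega (Cfsg.quadFormPlus m F) x ∨ Cfsg.IsGraphFieldAutClassPOmegaPlus m x) {r : ℕ}
    (hr : r.Prime) (hxr : orderOf x = r) (hδ : δ ∈ Cfsg.inndiagPOmegaPlus m F) (hord : orderOf (δ * x) = r) :
    Cfsg.IsConjUnder (Cfsg.inndiagPOmegaPlus m F) x (δ * x) := by
  obtain ⟨σ, A, hA, hσ⟩ := plus_class hm hx hr hxr
  obtain ⟨k, rfl⟩ : ∃ k, m = k + 1 := ⟨m - 1, by omega⟩
  haveI := octx_plus (F := F) (m := k + 1) hm
  obtain ⟨d, hd, e⟩ : δ ∈ (properSub (plusForm F (k + 1)) (plusForm_apply (k + 1)) (k + 1)).map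
      (Φ (Cfsg.quadFormPlus (k + 1) F)) := by rw [← inndiag_plus_eq hm]; exact hδ
  refine plus_conj (by omega) hA (A' := d.1 * A) (by rw [← e]; exact semi_left d hA) hσ hr.one_le
    (by rw [← hxr, pow_orderOf_eq_one]) (by rw [← hord, pow_orderOf_eq_one]) ?_
  rw [mul_inv_cancel_right]
  exact hδ

end CfsgLib.KnownC.AutPOmega
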