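import Cfsg.Agent.Lib.KnownC.AutPOmega.MinusFrob

/-!
# The outer group of the minus-type group
-/

set_option autoImplicit false
set_option linter.unusedSectionVars false
set_option linter.style.haveILetI false

open Module QuadraticMap
open scoped Matrix

namespace CfsgLib.KnownC.AutPOmega

open CfsgLib.Orth CfsgLib.Classical
open CfsgLib.KnownC.POmegaAut (GS Φ lin lin_apply ofOrth lin_ofOrth lin_injective exists_mult IsSemiInduced
  induced_iff semi_mul pgoAut_eq inn_eq psoAut_eq scalars_le_ker omegaSub soSub scalars map_mulVec'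
  mem_omegaSub_iff Setup minus_setup det_lin)

universe u

section General

variable {F : Type u} [Field F] [Fintype F] {ι : Type} [Fintype ι] [DecidableEq ι] {Qf : (ι → F) → F}

/-- Conjugating a similitude by a semisimilarity. -/
theorem semi_conj_gs (Q : QuadraticForm F (ι → F)) (hQf : ∀ v, Qf v = Q v) {g : GL ι F} {σ : F ≃+* F}
    {β : MulAut (Cfsg.POmega F Qf)} (hβ : IsSemiInduced Qf g σ β) (x : GS Qf) :
    ∃ h : GS Qf, β * Φ Qf x * β⁻¹ = Φ Qf h ∧
      (h.1 : Matrix ι ι F).det = σ (x.1 : Matrix ι ι F).det ∧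
      ∀ μ, IsSimil Q (lin Qf x) μ → IsSimil Q (lin Qf h) (σ μ) := by
  obtain ⟨c, hc⟩ := id hβ.1
  set X := Matrix.GeneralLinearGroup.map σ.toRingHom x.1
  have key : ∀ μ, (∀ v, Q ((x.1 : Matrix ι ι F) *ᵥ v) = μ * Q v) →
      ∀ v, Q (((g * X * g⁻¹ : GL ι F) : Matrix ι ι F) *ᵥ v) = σ μ * Q v := by
    intro μ hμ v
    obtain ⟨w, hw⟩ : ∃ w : ι → F, (fun i => σ (w i)) = ((g⁻¹ : GL ι F) : Matrix ι ι F) *ᵥ v :=
      ⟨fun i => σ.symm ((((g⁻¹ : GL ι F) : Matrix ι ι F) *ᵥ v) i), funext fun i => σ.apply_symm_apply _⟩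
    have e : (X : Matrix ι ι F) *ᵥ (fun i => σ (w i)) = fun i => σ (((x.1 : Matrix ι ι F) *ᵥ w) i) := map_mulVec' σ _ w
    rw [Units.val_mul, Units.val_mul, ← Matrix.mulVec_mulVec, ← Matrix.mulVec_mulVec, ← hw, e, ← hQf, hc, hQf, hμ,
      map_mul, mul_left_comm]
    congr 1
    rw [← hQf w, ← hc, hw, POmegaAut.mulVec_cancel, hQf]
  obtain ⟨μ, hμ0, hμ⟩ := exists_mult Qf Q hQf x
  have hμ' : ∀ v, Q ((x.1 : Matrix ι ι F) *ᵥ v) = μ * Q v := fun v => by rw [← lin_apply]; exact hμ v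
  let h : GS Qf := ⟨g * X * g⁻¹, Units.mk0 (σ μ) ((map_ne_zero σ).2 hμ0), fun v => by
    rw [hQf, hQf]; exact key μ hμ' v⟩
  refine ⟨h, ?_, ?_, fun ν hν v => ?_⟩
  · have hx : IsSemiInduced Qf x.1 (RingEquiv.refl F) (Φ Qf x) := by
      obtain ⟨d, hd⟩ := x.2
      exact ⟨⟨d, fun v => hd v⟩, (induced_iff Qf x _).2 rfl⟩
    have hh : IsSemiInduced Qf h.1 (RingEquiv.refl F) (Φ Qf h) :=
      ⟨⟨Units.mk0 (σ μ) ((map_ne_zero σ).2 hμ0), fun v => by
        show _ = _
        rw [hQf, hQf]; exact key μ hμ' v⟩, (induced_iff Qf h _).2 rfl⟩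
    have h1 := semi_mul Qf hβ hx
    have h2 := semi_mul Qf hh hβ
    have e2 : h.1 * Matrix.GeneralLinearGroup.map (RingEquiv.refl F).toRingHom g = g * X := by
      show g * X * g⁻¹ * _ = _
      rw [show Matrix.GeneralLinearGroup.map (RingEquiv.refl F).toRingHom g = g from Units.ext (by ext i j; rfl),
        inv_mul_cancel_right]
    rw [e2] at h2
    have e3 : (RingEquiv.refl F).trans σ = σ.trans (RingEquiv.refl F) := RingEquiv.ext fun _ => rfl
    rw [e3] at h1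
    rw [induced_unique h1 h2, mul_inv_cancel_right]
  · show ((g * X * g⁻¹ : GL ι F) : Matrix ι ι F).det = _
    rw [Units.val_mul, Units.val_mul, Matrix.det_mul, Matrix.det_mul, mul_right_comm, ← Matrix.det_mul,
      Units.mul_inv, Matrix.det_one, one_mul]
    exact (RingHom.map_det σ.toRingHom _).symm
  · rw [lin_apply]
    exact key ν (fun v => by rw [← lin_apply]; exact hν v) v

omit [Fintype F] in
theorem card_out_mul : Nat.card (MulAut (Cfsg.POmega F Qf)) =
    Nat.card (Cfsg.Out (Cfsg.POmega F Qf)) * Nat.card (Cfsg.Inn (Cfsg.POmega F Qf)) :=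
  Subgroup.card_eq_card_quotient_mul_card_subgroup _

end General

variable {F : Type u} [Field F] [Fintype F] (k : ℕ) {A B : F}
  (hab : ∀ z₁ z₂ : F, z₁ ^ 2 + A * z₁ * z₂ + B * z₂ ^ 2 = 0 → z₁ = 0 ∧ z₂ = 0)
include hab

/-- The Frobenius automorphism and its `f`-th power. -/
theorem exists_frob_aut [hQ : OCtx (minusForm F k A B)] {p f : ℕ} [Fact p.Prime] (hF : Fintype.card F = p ^ f) :
    ∃ (π : MulAut (Cfsg.POmega F (Cfsg.quadFormMinus k F A B)) →* (F ≃+* F))
      (τ : MulAut (Cfsg.POmega F (Cfsg.quadFormMinus k F A B))) (φ : F ≃+* F)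
      (g : GL ((Fin k ⊕ Fin k) ⊕ Fin 2) F) (v0 : (Fin k ⊕ Fin k) ⊕ Fin 2 → F),
      (∀ β, π β = 1 ↔ β ∈ Cfsg.pgoAut F (Cfsg.quadFormMinus k F A B)) ∧ π τ = φ ∧ orderOf φ = f ∧
      IsSemiInduced (Cfsg.quadFormMinus k F A B) g φ τ ∧ minusForm F k A B v0 ≠ 0 ∧
      τ ^ f = Φ (Cfsg.quadFormMinus k F A B)
        (ofOrth (Cfsg.quadFormMinus k F A B) (minusForm F k A B) (minusForm_apply k A B)
          (refl (minusForm F k A B) v0)) ∧
      Function.Surjective π ∧ (Nat.card (F ≃+* F) = f) := by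
  obtain ⟨φ, hφ, hord, hadd, hsmul, hQT, hinj, htop⟩ := frob_facts (m := k) hab hF
  obtain ⟨π, hπ, hker⟩ := exists_field_hom (minusForm F k A B) (minusForm_apply k A B)
  obtain ⟨g, hg⟩ := exists_matrix (minusForm F k A B) (minusForm_apply k A B) (frobMap k A B p 1) φ hadd hsmul hinj
  have hpair : Cfsg.IsSemisimilarityPair (Cfsg.quadFormMinus k F A B) g φ := ⟨1, fun v => by
    rw [hg, minusForm_apply, minusForm_apply, hQT, Units.val_one, one_mul]⟩
  obtain ⟨τ, hτ⟩ := exists_induced hpair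
  have hiter : ∀ j : ℕ, ∃ g' : GL ((Fin k ⊕ Fin k) ⊕ Fin 2) F,
      IsSemiInduced (Cfsg.quadFormMinus k F A B) g' (φ ^ j) (τ ^ j) ∧
      ∀ v, (g' : Matrix ((Fin k ⊕ Fin k) ⊕ Fin 2) ((Fin k ⊕ Fin k) ⊕ Fin 2) F) *ᵥ (fun i => (φ ^ j) (v i)) =
        frobMap k A B p j v := by
    intro j
    induction j with
    | zero =>
      refine ⟨1, by rw [pow_zero, pow_zero]; exact one_induced, fun v => ?_⟩
      funext i
      rcases i with i | i
      · simp [frobMap]
      · fin_cases i <;> simp [frobMap]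
    | succ j ih =>
      obtain ⟨g', hg', hgv⟩ := ih
      refine ⟨_, by rw [pow_succ', pow_succ']; exact semi_mul _ hτ hg', fun v => ?_⟩
      rw [frobMap_succ, ← hgv v, ← hg, Units.val_mul, ← Matrix.mulVec_mulVec]
      congr 1
      rw [pow_succ']
      exact map_mulVec' φ _ _
  obtain ⟨g', hg', hgv⟩ := hiter f
  haveI : CharP F p := by
    obtain ⟨c, hc⟩ := CharP.exists F
    obtain ⟨n, hcp, hcn⟩ := FiniteField.card F c
    rw [hcn] at hF
    have e : c = p := (Nat.prime_dvd_prime_iff_eq hcp Fact.out).1 (hcp.dvd_of_dvd_pow (hF ▸ dvd_pow_self c n.pos.ne'))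
    rwa [e] at hc
  set v0 : (Fin k ⊕ Fin k) ⊕ Fin 2 → F := Pi.single (Sum.inr 0) A + Pi.single (Sum.inr 1) (-2)
  have hv0 : minusForm F k A B v0 ≠ 0 := conj_vec_ne (m := k) hab (p := p)
  have hφf : φ ^ f = 1 := hord ▸ pow_orderOf_eq_one φ
  have hsurj : Function.Surjective π := by
    obtain ⟨e⟩ := AutPSL.ringAut_cyclic (F := F) hF
    intro σ
    haveI : Finite (F ≃+* F) := Finite.of_injective _ DFunLike.coe_injective
    have htop' : Subgroup.zpowers φ = ⊤ := Subgroup.eq_top_of_card_eq _ (by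
      rw [Nat.card_zpowers, hord, Nat.card_congr e.toEquiv, Nat.card_congr Multiplicative.toAdd, Nat.card_zmod])
    obtain ⟨j, rfl⟩ := Subgroup.mem_zpowers_iff.1 (htop' ▸ Subgroup.mem_top σ)
    exact ⟨τ ^ j, by rw [map_zpow, hπ g φ τ hτ]⟩
  refine ⟨π, τ, φ, g, v0, hker, hπ g φ τ hτ, hord, hτ, hv0, ?_, hsurj, ?_⟩
  · set w := ofOrth (Cfsg.quadFormMinus k F A B) (minusForm F k A B) (minusForm_apply k A B)
      (refl (minusForm F k A B) v0)
    refine (induced_iff _ w _).1 ?_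
    rw [hφf] at hg'
    have e : g' = w.1 := Units.ext (Matrix.ext_iff_mulVec.2 fun v => by
      have h1 := hgv v
      rw [hφf] at h1
      rw [← lin_apply _ w, show lin _ w = (refl (minusForm F k A B) v0).1 from lin_ofOrth _ _ _ _, conj_refl_eq v hv0,
        ← htop v]
      exact h1)
    rw [← e]
    exact hg'.2
  · obtain ⟨e⟩ := AutPSL.ringAut_cyclic (F := F) hF
    rw [Nat.card_congr e.toEquiv, Nat.card_congr Multiplicative.toAdd, Nat.card_zmod]

theorem card_out_minus [hQ : OCtx (minusForm F k A B)] {p f : ℕ} [Fact p.Prime] (hF : Fintype.card F = p ^ f) :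
    Nat.card (Cfsg.Out (Cfsg.POmega F (Cfsg.quadFormMinus k F A B))) =
      (Cfsg.Inn (Cfsg.POmega F (Cfsg.quadFormMinus k F A B))).relIndex
        (Cfsg.pgoAut F (Cfsg.quadFormMinus k F A B)) * f ∧
    Nat.card (MulAut (Cfsg.POmega F (Cfsg.quadFormMinus k F A B))) =
      (Cfsg.Inn (Cfsg.POmega F (Cfsg.quadFormMinus k F A B))).relIndex
        (Cfsg.pgoAut F (Cfsg.quadFormMinus k F A B)) * f *
        Nat.card (Cfsg.POmega F (Cfsg.quadFormMinus k F A B)) := by
  obtain ⟨π, -, -, -, -, -, -, -, -, -, -, hπs, hfc⟩ := exists_frob_aut k hab hF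
  have h := card_mulAut (minusForm F k A B) (minusForm_apply k A B) fun σ => by
    obtain ⟨π', hπ', -⟩ := exists_field_hom (minusForm F k A B) (minusForm_apply k A B)
    obtain ⟨π'', τ, φ, g, -, -, -, hord, hτ, -, -, -, hfc'⟩ := exists_frob_aut k hab hF
    haveI : Finite (F ≃+* F) := Finite.of_injective _ DFunLike.coe_injective
    have htop : Subgroup.zpowers φ = ⊤ := Subgroup.eq_top_of_card_eq _ (by rw [Nat.card_zpowers, hord, hfc'])
    obtain ⟨j, rfl⟩ := Subgroup.mem_zpowers_iff.1 (htop ▸ Subgroup.mem_top σ)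
    obtain ⟨g', σ', hg', hi'⟩ := exists_semi (minusForm F k A B) (minusForm_apply k A B) (τ ^ j)
    have e : σ' = φ ^ j := by rw [← hπ' g' σ' _ ⟨hg', hi'⟩, map_zpow, hπ' g φ τ hτ]
    exact ⟨g', e ▸ hg'⟩
  rw [hfc] at h
  refine ⟨?_, h⟩
  have hc := card_out_mul (Qf := Cfsg.quadFormMinus k F A B)
  rw [h, card_inn (minusForm F k A B) (minusForm_apply k A B)] at hc
  exact (Nat.eq_of_mul_eq_mul_right (Nat.card_pos) hc).symm

set_option maxHeartbeats 1000000 in
/-- Characteristic two. -/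
theorem minus_two [hQ : OCtx (minusForm F k A B)] [CharP F 2] :
    (Cfsg.Inn (Cfsg.POmega F (Cfsg.quadFormMinus k F A B))).relIndex
        (Cfsg.pgoAut F (Cfsg.quadFormMinus k F A B)) = 2 ∧
      ∀ a, minusForm F k A B a ≠ 0 →
        Φ (Cfsg.quadFormMinus k F A B) (ofOrth (Cfsg.quadFormMinus k F A B) (minusForm F k A B) (minusForm_apply k A B)
          (refl (minusForm F k A B) a)) ∉ Cfsg.Inn (Cfsg.POmega F (Cfsg.quadFormMinus k F A B)) := by
  classical
  set Qf := Cfsg.quadFormMinus k F A B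
  set Q := minusForm F k A B
  have hgood : Good F ((Fin k ⊕ Fin k) ⊕ Fin 2 → F) := good (Q := Q)
  obtain ⟨κ, hκ⟩ := exists_dickson Q hQ.nd
  have hnot : ∀ a, Q a ≠ 0 → Φ Qf ((ofOrth Qf Q (minusForm_apply k A B)) (refl Q a)) ∉ Cfsg.Inn (Cfsg.POmega F Qf) := by
    intro a ha hm
    rw [inn_eq] at hm
    obtain ⟨w, hw, e⟩ := hm
    obtain ⟨h, hh, rfl⟩ := (mem_omegaSub_iff Qf Q (minusForm_apply k A B) w).1 hw
    have hz : Φ Qf ((ofOrth Qf Q (minusForm_apply k A B)) (h⁻¹ * refl Q a)) = 1 := by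
      rw [map_mul (ofOrth Qf Q (minusForm_apply k A B)), map_mul (Φ Qf), map_inv (ofOrth Qf Q (minusForm_apply k A B)),
        map_inv (Φ Qf), e]
      exact inv_mul_cancel _
    set z := (ofOrth Qf Q (minusForm_apply k A B)) (h⁻¹ * refl Q a)
    obtain ⟨c, hc⟩ := z.2
    have hzp : Cfsg.IsSemisimilarityPair Qf z.1 (RingEquiv.refl F) := ⟨c, fun v => hc v⟩
    have hzi : Cfsg.IsInducedBySemilinearPOmega Qf z.1 (RingEquiv.refl F) 1 := (induced_iff Qf z 1).2 hz.symm
    obtain ⟨-, l, hl⟩ := scalar_of_induced_one (Qf := Qf) Q (minusForm_apply k A B) hzp hzi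
    have hlv : ∀ v, (h⁻¹ * refl Q a).1 v = l • v := fun v => by
      rw [← lin_ofOrth Qf Q (minusForm_apply k A B), lin_apply, hl, Matrix.smul_mulVec, Matrix.one_mulVec]
    have hll := apply_quad (h⁻¹ * refl Q a) a
    rw [hlv, quad_smul'] at hll
    have hl1 : l = 1 := by
      have : l * l = 1 := mul_right_cancel₀ ha (hll.trans (one_mul _).symm)
      rcases mul_self_eq_one_iff.1 this with h1 | h1
      · exact h1
      · rw [h1, CharTwo.neg_eq]
    have e1 : h⁻¹ * refl Q a = 1 := Subtype.ext (LinearEquiv.ext fun v => by rw [hlv, hl1, one_smul]; rfl)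
    rw [inv_mul_eq_one] at e1
    rw [e1, mem_commutator_two hQ.nd hgood κ hκ, hκ a ha, ofAdd_eq_one] at hh
    exact one_ne_zero hh
  refine ⟨?_, hnot⟩
  obtain ⟨hp⟩ := hyp (Q := Q)
  set a0 := hp.e₀ + hp.f₀
  have ha0 : Q a0 ≠ 0 := by rw [quad_add', hp.he₀, hp.hf₀, hp.h00]; simp
  have hmem : Φ Qf ((ofOrth Qf Q (minusForm_apply k A B)) (refl Q a0)) ∈ Cfsg.pgoAut F Qf := by rw [pgoAut_eq]; exact ⟨_, trivial, rfl⟩
  rw [Subgroup.relIndex, Subgroup.index_eq_two_iff]
  refine ⟨⟨_, hmem⟩, fun b => ?_⟩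
  obtain ⟨x, -, hx⟩ : b.1 ∈ (⊤ : Subgroup (GS Qf)).map (Φ Qf) := by rw [← pgoAut_eq]; exact b.2
  obtain ⟨μ, hμ0, hμ⟩ := exists_mult Qf Q (minusForm_apply k A B) x
  obtain ⟨c, hc⟩ := FiniteField.isSquare_of_char_two (ringChar.eq F 2) μ
  have hc0 : c ≠ 0 := fun h => hμ0 (by rw [hc, h, mul_zero])
  let h : orthGroup Q := ⟨(lin Qf x).trans (LinearEquiv.smulOfUnit (Units.mk0 c hc0)⁻¹), fun v => by
    show Q (c⁻¹ • lin Qf x v) = _
    rw [quad_smul', hμ v, hc]; field_simp⟩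
  have hxh : Φ Qf x = Φ Qf ((ofOrth Qf Q (minusForm_apply k A B)) h) := by
    rw [← inv_mul_eq_one, ← map_inv, ← map_mul]
    refine MonoidHom.mem_ker.1 (scalars_le_ker Qf ⟨c⁻¹, Matrix.ext_iff_mulVec.2 fun v => ?_⟩)
    rw [← lin_apply, Matrix.smul_mulVec, Matrix.one_mulVec]
    apply (lin Qf x).injective
    rw [map_smul, ← LinearEquiv.mul_apply, ← map_mul, mul_inv_cancel_left]
    show lin Qf ((ofOrth Qf Q (minusForm_apply k A B)) h) v = c⁻¹ • lin Qf x v
    rw [lin_ofOrth]; rfl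
  obtain ⟨s, hs, hse⟩ := exists_mem_ab_eq hQ.nd hgood (Subgroup.closure {refl Q a0}) (fun a ha =>
    ⟨refl Q a0, Subgroup.subset_closure rfl, ab_refl_eq hQ.nd hgood ha0 ha
      (FiniteField.isSquare_of_char_two (ringChar.eq F 2) _)⟩) h
  have hs2 : s = 1 ∨ s = refl Q a0 := by
    clear hse
    induction hs using Subgroup.closure_induction with
    | mem y hy => exact Or.inr hy
    | one => exact Or.inl rfl
    | mul y z _ _ hy hz =>
      rcases hy with rfl | rfl <;> rcases hz with rfl | rfl <;> simp [refl_mul_self]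
    | inv y _ hy => rcases hy with rfl | rfl <;> simp [refl_inv]
  have hin : ∀ y, y ∈ commutator (orthGroup Q) → Φ Qf ((ofOrth Qf Q (minusForm_apply k A B)) y) ∈ Cfsg.Inn (Cfsg.POmega F Qf) := fun y hy => by
    rw [inn_eq]; exact ⟨_, (mem_omegaSub_iff Qf Q (minusForm_apply k A B) _).2 ⟨y, hy, rfl⟩, rfl⟩
  simp only [Subgroup.mem_subgroupOf, Subgroup.coe_mul]
  rw [← hx, hxh, ← map_mul (Φ Qf), ← map_mul (ofOrth Qf Q (minusForm_apply k A B))]
  rcases hs2 with rfl | rfl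
  · have hh : h ∈ commutator (orthGroup Q) := (mem_commutator_iff h).2 (by rw [← hse, map_one])
    refine Or.inr ⟨hin h hh, fun h' => hnot a0 ha0 ?_⟩
    rw [map_mul (ofOrth Qf Q (minusForm_apply k A B)), map_mul (Φ Qf)] at h'
    exact (Subgroup.mul_mem_cancel_left _ (hin h hh)).1 h'
  · have hh : h * refl Q a0 ∈ commutator (orthGroup Q) := (mem_commutator_iff _).2 (by
      rw [map_mul, ← hse, ← map_mul, refl_mul_self, map_one])
    refine Or.inl ⟨hin _ hh, fun h' => hnot a0 ha0 ?_⟩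
    have h2 := hin _ hh
    rw [map_mul (ofOrth Qf Q (minusForm_apply k A B)), map_mul (Φ Qf)] at h2
    exact (Subgroup.mul_mem_cancel_left _ h').1 h2

theorem out_two [hQ : OCtx (minusForm F k A B)] {f : ℕ} (hF : Fintype.card F = 2 ^ f) :
    IsCyclic (Cfsg.Out (Cfsg.POmega F (Cfsg.quadFormMinus k F A B))) ∧
      Nat.card (Cfsg.Out (Cfsg.POmega F (Cfsg.quadFormMinus k F A B))) = 2 * f := by
  haveI : Fact (Nat.Prime 2) := ⟨Nat.prime_two⟩
  haveI : CharP F 2 := by
    obtain ⟨c, hc⟩ := CharP.exists F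
    obtain ⟨n, hcp, hcn⟩ := FiniteField.card F c
    rw [hcn] at hF
    rwa [← (Nat.prime_dvd_prime_iff_eq hcp Nat.prime_two).1 (hcp.dvd_of_dvd_pow (hF ▸ dvd_pow_self c n.pos.ne'))]
  obtain ⟨hrel, hnot⟩ := minus_two k hab (F := F)
  obtain ⟨hcard, -⟩ := card_out_minus k hab hF
  rw [hrel] at hcard
  refine ⟨?_, hcard⟩
  obtain ⟨π, τ, φ, g, v0, hker, hπτ, hord, -, hv0, hpow, -, -⟩ := exists_frob_aut k hab hF
  set X := Cfsg.POmega F (Cfsg.quadFormMinus k F A B)
  let q := QuotientGroup.mk' (Cfsg.Inn X)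
  have hf0 : f ≠ 0 := fun h => by
    rw [h] at hF
    have := Fintype.one_lt_card (α := F)
    simp [hF] at this
  have hne : q τ ^ f ≠ 1 := by
    rw [← map_pow, hpow]
    intro h
    exact hnot v0 hv0 ((QuotientGroup.eq_one_iff _).1 h)
  have hordq : orderOf (q τ) = 2 * f := by
    have h1 : orderOf (q τ) ∣ Nat.card (Cfsg.Out X) := orderOf_dvd_natCard _
    rw [hcard] at h1
    have h2 : f ∣ orderOf (q τ) := by
      have hI : τ ^ orderOf (q τ) ∈ Cfsg.Inn X := by
        rw [← QuotientGroup.eq_one_iff, QuotientGroup.mk_pow]; exact pow_orderOf_eq_one _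
      have hI' : τ ^ orderOf (q τ) ∈ Cfsg.pgoAut F (Cfsg.quadFormMinus k F A B) :=
        ((inn_eq _).trans_le ((Subgroup.map_mono le_top).trans (pgoAut_eq _).symm.le)) hI
      rw [← hord]
      refine orderOf_dvd_of_pow_eq_one ?_
      rw [← hπτ, ← map_pow]
      exact (hker _).2 hI'
    obtain ⟨j, hj⟩ := h2
    rw [hj, mul_comm 2 f] at h1
    have hj2 := Nat.dvd_of_mul_dvd_mul_left (Nat.pos_of_ne_zero hf0) h1
    rcases (Nat.dvd_prime Nat.prime_two).1 hj2 with rfl | rfl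
    · rw [mul_one] at hj
      exact absurd (hj ▸ pow_orderOf_eq_one (q τ)) hne
    · rw [hj, mul_comm]
  exact isCyclic_of_orderOf_eq_card _ (hordq.trans hcard.symm)

/-- Odd characteristic: the order of `PGO / Inn`. -/
theorem minus_odd_relIndex (hodd : Odd (Fintype.card F)) (hk : 3 ≤ k) :
    (Cfsg.Inn (Cfsg.POmega F (Cfsg.quadFormMinus k F A B))).relIndex
        (Cfsg.pgoAut F (Cfsg.quadFormMinus k F A B)) =
      if Even k ∧ Fintype.card F % 4 = 3 then 8 else 4 := by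
  classical
  obtain ⟨D, hneg, -, -⟩ := minus_setup k hodd (by omega) A B hab
  split_ifs with h
  · obtain ⟨φ, hs, hk'⟩ := D.pgo_inn_dihedral (hneg.2 h)
    rw [relIndex_of_hom φ hs hk', DihedralGroup.nat_card]
  · obtain ⟨φ, hs, hk'⟩ := D.pgo_inn_klein (fun h' => h (hneg.1 h'))
    rw [relIndex_of_hom φ hs hk', Nat.card_congr Multiplicative.toAdd, Nat.card_prod, Nat.card_zmod]

set_option maxHeartbeats 3000000 in
/-- The data in odd characteristic: a Frobenius element whose square centralises `PGO / Inn`. -/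
theorem odd_frob [hQ : OCtx (minusForm F k A B)] (hodd : Odd (Fintype.card F)) (hk : 3 ≤ k) {p f : ℕ} [Fact p.Prime]
    (hF : Fintype.card F = p ^ f) :
    ∃ (π : MulAut (Cfsg.POmega F (Cfsg.quadFormMinus k F A B)) →* (F ≃+* F))
      (τ : MulAut (Cfsg.POmega F (Cfsg.quadFormMinus k F A B))) (φ : F ≃+* F)
      (a r : MulAut (Cfsg.POmega F (Cfsg.quadFormMinus k F A B))),
      (∀ β, π β = 1 ↔ β ∈ Cfsg.pgoAut F (Cfsg.quadFormMinus k F A B)) ∧ π τ = φ ∧ orderOf φ = f ∧ τ ^ f = r ∧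
      a ∈ Cfsg.pgoAut F (Cfsg.quadFormMinus k F A B) ∧ r ∈ Cfsg.pgoAut F (Cfsg.quadFormMinus k F A B) ∧
      a * a ∈ Cfsg.Inn (Cfsg.POmega F (Cfsg.quadFormMinus k F A B)) ∧
      r * r ∈ Cfsg.Inn (Cfsg.POmega F (Cfsg.quadFormMinus k F A B)) ∧
      a ∉ Cfsg.Inn (Cfsg.POmega F (Cfsg.quadFormMinus k F A B)) ∧
      r ∉ Cfsg.Inn (Cfsg.POmega F (Cfsg.quadFormMinus k F A B)) ∧
      a * r ∉ Cfsg.Inn (Cfsg.POmega F (Cfsg.quadFormMinus k F A B)) ∧
      (∀ x ∈ Cfsg.pgoAut F (Cfsg.quadFormMinus k F A B),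
        (τ * τ) * x * (τ * τ)⁻¹ * x⁻¹ ∈ Cfsg.Inn (Cfsg.POmega F (Cfsg.quadFormMinus k F A B))) ∧
      (¬ (Even k ∧ Fintype.card F % 4 = 3) → ∀ x ∈ Cfsg.pgoAut F (Cfsg.quadFormMinus k F A B),
        τ * x * τ⁻¹ * x⁻¹ ∈ Cfsg.Inn (Cfsg.POmega F (Cfsg.quadFormMinus k F A B))) := by
  classical
  obtain ⟨D, hneg, -, -⟩ := minus_setup k hodd (by omega) A B hab
  have hfr := exists_frob_aut k hab hF
  obtain ⟨π, τ, φ, g, v0, hker, hπτ, hord, hτ, hv0, hpow, -, -⟩ := hfr
  set I := Cfsg.Inn (Cfsg.POmega F (Cfsg.quadFormMinus k F A B)) with hI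
  haveI hIn : I.Normal := POmegaAut.inn_normal _
  have hpgo : ∀ x : GS (Cfsg.quadFormMinus k F A B), Φ (Cfsg.quadFormMinus k F A B) x ∈ Cfsg.pgoAut F (Cfsg.quadFormMinus k F A B) := fun x => by rw [pgoAut_eq]; exact ⟨x, trivial, rfl⟩
  have hN : ∀ x : GS (Cfsg.quadFormMinus k F A B), Φ (Cfsg.quadFormMinus k F A B) x ∈ I ↔ x ∈ D.N := fun x => by rw [D.N_eq]; rfl
  have hchi : ∀ x : GS (Cfsg.quadFormMinus k F A B), Φ (Cfsg.quadFormMinus k F A B) x ∈ I → D.chi x = 1 := fun x hx =>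
    MonoidHom.mem_ker.1 (D.N_le_chi ((hN x).1 hx))
  have hR2 : (-1 : F) ≠ 1 := D.neg_one_ne
  set R := ofOrth (Cfsg.quadFormMinus k F A B) (minusForm F k A B) (minusForm_apply k A B) (refl (minusForm F k A B) v0)
  have hepsR : D.eps R = -1 := (D.eps_iso (refl (minusForm F k A B) v0)).trans (det_refl (minusForm F k A B) hv0)
  have hchiR : (Multiplicative.toAdd (D.chi R)).2 ≠ 0 := fun h => hR2 (hepsR ▸ (D.chi_snd R).1 h)
  have hmultR : D.mult R = 1 := D.mult_iso (refl (minusForm F k A B) v0)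
  have hchiR1 : (Multiplicative.toAdd (D.chi R)).1 = 0 := (D.chi_fst R).2 (by rw [hmultR]; exact IsSquare.one)
  have hchis : (Multiplicative.toAdd (D.chi D.s)).1 ≠ 0 := fun h => D.hν ((D.chi_fst D.s).1 h)
  refine ⟨π, τ, φ, Φ (Cfsg.quadFormMinus k F A B) D.s, Φ (Cfsg.quadFormMinus k F A B) R, hker, hπτ, hord, hpow, hpgo _, hpgo _, ?_, ?_, fun h => hchis ?_,
    fun h => hchiR ?_, fun h => hchis ?_, ?_⟩
  · rw [← map_mul (Φ (Cfsg.quadFormMinus k F A B)), hN]
    exact Subgroup.mem_sup_right D.hs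
  · rw [← map_mul (Φ (Cfsg.quadFormMinus k F A B)), ← map_mul (ofOrth (Cfsg.quadFormMinus k F A B) (minusForm F k A B) (minusForm_apply k A B)), refl_mul_self,
      map_one (ofOrth (Cfsg.quadFormMinus k F A B) (minusForm F k A B) (minusForm_apply k A B)), map_one (Φ (Cfsg.quadFormMinus k F A B))]
    exact I.one_mem
  · rw [hchi _ h]; rfl
  · rw [hchi _ h]; rfl
  · rw [← map_mul (Φ (Cfsg.quadFormMinus k F A B))] at h
    have := congrArg (fun z => (Multiplicative.toAdd z).1) (hchi _ h)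
    rw [map_mul D.chi, toAdd_mul] at this
    simp only [Prod.fst_add, hchiR1, add_zero, toAdd_one, Prod.fst_zero] at this
    exact this
  -- the Frobenius preserves the characters
  have hinv : ∀ x : GS (Cfsg.quadFormMinus k F A B), ∃ h : GS (Cfsg.quadFormMinus k F A B), τ * Φ (Cfsg.quadFormMinus k F A B) x * τ⁻¹ = Φ (Cfsg.quadFormMinus k F A B) h ∧ D.chi h = D.chi x := by
    intro x
    obtain ⟨h, he, hdet, hsim⟩ := semi_conj_gs (minusForm F k A B) (minusForm_apply k A B) hτ x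
    refine ⟨h, he, ?_⟩
    have hm : D.mult h = φ (D.mult x) := D.mult_of h (hsim _ (D.isSimil x))
    have hsq : IsSquare (D.mult h) ↔ IsSquare (D.mult x) := by
      rw [hm]
      exact ⟨fun hh => by simpa using hh.map φ.symm, fun hh => hh.map φ⟩
    have heps : D.eps h = D.eps x := by
      have : D.eps h = φ (D.eps x) := by
        show (h.1 : Matrix ((Fin k ⊕ Fin k) ⊕ Fin 2) ((Fin k ⊕ Fin k) ⊕ Fin 2) F).det / _ =
          φ ((x.1 : Matrix ((Fin k ⊕ Fin k) ⊕ Fin 2) ((Fin k ⊕ Fin k) ⊕ Fin 2) F).det / _)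
        rw [hdet, hm, map_div₀, map_pow]
      rw [this]
      rcases D.eps_cases x with e | e <;> rw [e] <;> simp
    rw [D.chi_eq, D.chi_eq, heps]
    have hq : quadraticChar F (D.mult h) = quadraticChar F (D.mult x) := by
      by_cases hx : IsSquare (D.mult x)
      · rw [(quadraticChar_one_iff_isSquare (D.mult_ne x)).2 hx,
          (quadraticChar_one_iff_isSquare (D.mult_ne h)).2 (hsq.2 hx)]
      · rw [quadraticChar_neg_one_iff_not_isSquare.2 hx,
          quadraticChar_neg_one_iff_not_isSquare.2 (mt hsq.1 hx)]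
    rw [hq]
  -- the image of the kernel of the characters
  set q := QuotientGroup.mk' I with hq
  set K := (Cfsg.psoAut F (Cfsg.quadFormMinus k F A B)).map q with hK
  have hKmem : ∀ x : GS (Cfsg.quadFormMinus k F A B), D.chi x = 1 → q (Φ (Cfsg.quadFormMinus k F A B) x) ∈ K := fun x hx => by
    refine Subgroup.mem_map_of_mem q ?_
    rw [psoAut_eq]
    have hx' : x ∈ soSub (Cfsg.quadFormMinus k F A B) ⊔ scalars (Cfsg.quadFormMinus k F A B) := D.soSub_le_chi ▸ MonoidHom.mem_ker.2 hx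
    have hsup := Subgroup.mem_map_of_mem (Φ (Cfsg.quadFormMinus k F A B)) hx'
    rwa [Subgroup.map_sup, (Subgroup.map_eq_bot_iff _).2 (scalars_le_ker (Cfsg.quadFormMinus k F A B)), sup_bot_eq] at hsup
  have hKcard : Nat.card K = I.relIndex (Cfsg.psoAut F (Cfsg.quadFormMinus k F A B)) := by
    rw [hK, ← Subgroup.relIndex_ker, hq, QuotientGroup.ker_mk']
  have hK2 : Nat.card K ≤ 2 := by
    rw [hKcard]
    by_cases h : D.negOne ∈ commutator (orthGroup (minusForm F k A B))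
    · exact (D.relIndex_so_two h).le
    · exact (D.relIndex_so.2 h).le.trans one_le_two
  have hKeq : ∀ x ∈ K, ∀ y ∈ K, x ≠ 1 → y ≠ 1 → x = y := by
    intro x hx y hy hx1 hy1
    by_contra hxy
    haveI : Fintype K := Fintype.ofFinite _
    have : ({⟨1, K.one_mem⟩, ⟨x, hx⟩, ⟨y, hy⟩} : Finset K).card = 3 :=
      Finset.card_eq_three.2 ⟨_, _, _, fun e => hx1 (congrArg Subtype.val e).symm,
        fun e => hy1 (congrArg Subtype.val e).symm, fun e => hxy (congrArg Subtype.val e), rfl⟩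
    have h3 := Finset.card_le_univ ({⟨1, K.one_mem⟩, ⟨x, hx⟩, ⟨y, hy⟩} : Finset K)
    rw [Nat.card_eq_fintype_card] at hK2
    omega
  -- conjugation changes a class by an element of `K`
  have hmove : ∀ x : GS (Cfsg.quadFormMinus k F A B), ∃ c ∈ K, q τ * q (Φ (Cfsg.quadFormMinus k F A B) x) * (q τ)⁻¹ = c * q (Φ (Cfsg.quadFormMinus k F A B) x) := by
    intro x
    obtain ⟨h, he, hc⟩ := hinv x
    refine ⟨q (Φ (Cfsg.quadFormMinus k F A B) (h * x⁻¹)), hKmem _ (by rw [map_mul D.chi, map_inv D.chi, hc, mul_inv_cancel]), ?_⟩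
    rw [← map_inv q, ← map_mul q, ← map_mul q, ← map_mul q, map_mul (Φ (Cfsg.quadFormMinus k F A B)), map_inv (Φ (Cfsg.quadFormMinus k F A B)), he, inv_mul_cancel_right]
  have hKfix : ∀ c ∈ K, q τ * c * (q τ)⁻¹ = c := by
    rintro c ⟨y, hy, rfl⟩
    rw [SetLike.mem_coe, psoAut_eq] at hy
    obtain ⟨x, hx, rfl⟩ := hy
    obtain ⟨h, he, hc⟩ := hinv x
    have hx1 : D.chi x = 1 := MonoidHom.mem_ker.1 (D.soSub_le_chi ▸ Subgroup.mem_sup_left hx)
    rcases eq_or_ne (q (Φ (Cfsg.quadFormMinus k F A B) x)) 1 with e | e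
    · rw [e, mul_one, mul_inv_cancel]
    · refine hKeq _ ?_ _ (hKmem x hx1) (fun e' => e ?_) e
      · rw [← map_inv q, ← map_mul q, ← map_mul q, he]
        exact hKmem h (hc.trans hx1)
      · rwa [mul_inv_eq_one, mul_eq_left] at e'
  have hKsq : ∀ c ∈ K, c * c = 1 := by
    intro c hc
    by_contra h
    have hc1 : c ≠ 1 := fun e => h (by rw [e, one_mul])
    exact hc1 (mul_eq_left.1 (hKeq _ (K.mul_mem hc hc) _ hc h hc1))
  have hlift : ∀ y, y ∈ Cfsg.pgoAut F (Cfsg.quadFormMinus k F A B) → ∃ x : GS (Cfsg.quadFormMinus k F A B), Φ (Cfsg.quadFormMinus k F A B) x = y := fun y hy => by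
    rw [pgoAut_eq] at hy
    obtain ⟨x, -, e⟩ := hy
    exact ⟨x, e⟩
  refine ⟨fun y hy => ?_, fun hne y hy => ?_⟩
  · obtain ⟨x, rfl⟩ := hlift y hy
    obtain ⟨c, hc, he⟩ := hmove x
    rw [← QuotientGroup.eq_one_iff]
    show q (τ * τ * Φ (Cfsg.quadFormMinus k F A B) x * (τ * τ)⁻¹ * (Φ (Cfsg.quadFormMinus k F A B) x)⁻¹) = 1
    simp only [map_mul q, map_inv q]
    calc q τ * q τ * q (Φ (Cfsg.quadFormMinus k F A B) x) * (q τ * q τ)⁻¹ * (q (Φ (Cfsg.quadFormMinus k F A B) x))⁻¹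
        = q τ * (q τ * q (Φ (Cfsg.quadFormMinus k F A B) x) * (q τ)⁻¹) * (q τ)⁻¹ * (q (Φ (Cfsg.quadFormMinus k F A B) x))⁻¹ := by group
      _ = q τ * (c * q (Φ (Cfsg.quadFormMinus k F A B) x)) * (q τ)⁻¹ * (q (Φ (Cfsg.quadFormMinus k F A B) x))⁻¹ := by rw [he]
      _ = (q τ * c * (q τ)⁻¹) * (q τ * q (Φ (Cfsg.quadFormMinus k F A B) x) * (q τ)⁻¹) * (q (Φ (Cfsg.quadFormMinus k F A B) x))⁻¹ := by group
      _ = 1 := by rw [hKfix c hc, he, ← mul_assoc, mul_inv_cancel_right, hKsq c hc]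
  · obtain ⟨x, rfl⟩ := hlift y hy
    obtain ⟨c, hc, he⟩ := hmove x
    have h1 : Nat.card K = 1 := by
      rw [hKcard]
      exact D.relIndex_so.2 (fun h => hne (hneg.1 h))
    haveI : Subsingleton K := (Nat.card_eq_one_iff_unique.1 h1).1
    have hc1 : c = 1 := congrArg Subtype.val (Subsingleton.elim (⟨c, hc⟩ : K) 1)
    rw [← QuotientGroup.eq_one_iff]
    show q (τ * Φ (Cfsg.quadFormMinus k F A B) x * τ⁻¹ * (Φ (Cfsg.quadFormMinus k F A B) x)⁻¹) = 1
    rw [map_mul q, map_mul q, map_mul q, map_inv q, map_inv q, he, hc1, one_mul, mul_inv_cancel]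

section Abstract

variable {O C : Type*} [Group O] [Finite O] [Group C]

omit hab in
theorem klein_prod (π : O →* C) {x t r : O} {f : ℕ} [NeZero f] (hxx : x * x = 1) (hx1 : x ≠ 1) (hπx : π x = 1)
    (hxt : Commute x t) (htf : t ^ f = r) (hrr : r * r = 1) (hr1 : r ≠ 1) (hxr : x * r ≠ 1)
    (hπt : orderOf (π t) = f) (hcard : Nat.card O = 4 * f) :
    Nonempty (O ≃* Multiplicative (ZMod 2 × ZMod (2 * f))) := by
  have hf0 : f ≠ 0 := NeZero.ne f
  have ht2f : t ^ (2 * f) = 1 := by rw [mul_comm, pow_mul, htf, pow_two, hrr]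
  have hordt : orderOf t = 2 * f := by
    have h2 : f ∣ orderOf t := hπt ▸ orderOf_map_dvd π t
    obtain ⟨j, hj⟩ := h2
    have h1 := orderOf_dvd_of_pow_eq_one ht2f
    rw [hj, mul_comm 2 f] at h1
    rcases (Nat.dvd_prime Nat.prime_two).1 (Nat.dvd_of_mul_dvd_mul_left (Nat.pos_of_ne_zero hf0) h1) with rfl | rfl
    · rw [mul_one] at hj
      exact absurd (htf.symm.trans (hj ▸ pow_orderOf_eq_one t)) hr1
    · rw [hj, mul_comm]
  have hordx : orderOf x = 2 := orderOf_eq_prime (by rw [pow_two, hxx]) hx1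
  let Ψ : Subgroup.zpowers x × Subgroup.zpowers t →* O :=
    MonoidHom.noncommCoprod (Subgroup.zpowers x).subtype (Subgroup.zpowers t).subtype fun y z => by
      obtain ⟨i, hi⟩ := Subgroup.mem_zpowers_iff.1 y.2
      obtain ⟨l, hl⟩ := Subgroup.mem_zpowers_iff.1 z.2
      show Commute (y : O) (z : O)
      rw [← hi, ← hl]
      exact hxt.zpow_zpow i l
  have hΨ : Function.Injective Ψ := by
    rw [injective_iff_map_eq_one]
    rintro ⟨⟨y, hy⟩, ⟨z, hz⟩⟩ h
    change y * z = 1 at h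
    obtain ⟨i, rfl⟩ := Subgroup.mem_zpowers_iff.1 hz
    obtain ⟨l', rfl⟩ := Subgroup.mem_zpowers_iff.1 hy
    have h1 := congrArg π h
    rw [map_mul, map_zpow, hπx, one_zpow, one_mul, map_one, map_zpow, ← orderOf_dvd_iff_zpow_eq_one, hπt] at h1
    obtain ⟨l, rfl⟩ := h1
    rw [zpow_mul, zpow_natCast, htf] at h
    have hcases : ∀ (w : O), w * w = 1 → ∀ n : ℤ, w ^ n = 1 ∨ w ^ n = w := fun w hw n => by
      rcases Int.even_or_odd n with ⟨j, rfl⟩ | ⟨j, rfl⟩
      · left; rw [← two_mul, zpow_mul, zpow_two, hw, one_zpow]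
      · right; rw [zpow_add_one, zpow_mul, zpow_two, hw, one_zpow, one_mul]
    have key : x ^ l' = 1 ∧ r ^ l = 1 := by
      rcases hcases x hxx l' with d | d <;> rcases hcases r hrr l with e | e <;> rw [d, e] at h
      · exact ⟨d, e⟩
      · exact absurd (by rwa [one_mul] at h) hr1
      · exact absurd (by rwa [mul_one] at h) hx1
      · exact absurd h hxr
    exact Prod.ext (Subtype.ext key.1) (Subtype.ext (by
      show t ^ ((f : ℤ) * l) = 1
      rw [zpow_mul, zpow_natCast, htf, key.2]))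
  have hbij : Function.Bijective Ψ := hΨ.bijective_of_nat_card_le (by
    rw [hcard, Nat.card_prod, Nat.card_zpowers, Nat.card_zpowers, hordx, hordt]; omega)
  haveI : NeZero (2 * f) := ⟨by omega⟩
  have e1 : Subgroup.zpowers x ≃* Multiplicative (ZMod 2) := mulEquivOfCyclicCardEq (by
    rw [Nat.card_zpowers, hordx, Nat.card_congr Multiplicative.toAdd, Nat.card_zmod])
  have e2 : Subgroup.zpowers t ≃* Multiplicative (ZMod (2 * f)) := mulEquivOfCyclicCardEq (by
    rw [Nat.card_zpowers, hordt, Nat.card_congr Multiplicative.toAdd, Nat.card_zmod])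
  exact ⟨(MulEquiv.ofBijective Ψ hbij).symm.trans ((MulEquiv.prodCongr e1 e2).trans
    (MulEquiv.prodMultiplicative _ _).symm)⟩

omit hab in
theorem dihedral_prod (π : O →* C) {u : O} {f : ℕ} [NeZero f] (huf : u ^ f = 1) (hπu : orderOf (π u) = f)
    {H : Type*} [Group H] (j : H →* O) (hjinj : Function.Injective j) (hπj : ∀ x, π (j x) = 1)
    (hcom : ∀ x, Commute (j x) u) (hcard : Nat.card O = Nat.card H * f) :
    Nonempty (O ≃* H × Multiplicative (ZMod f)) := by
  have hordu : orderOf u = f :=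
    Nat.dvd_antisymm (orderOf_dvd_of_pow_eq_one huf) (hπu ▸ orderOf_map_dvd π u)
  let Ψ : H × Subgroup.zpowers u →* O :=
    MonoidHom.noncommCoprod j (Subgroup.zpowers u).subtype fun x y => by
      obtain ⟨i, hi⟩ := Subgroup.mem_zpowers_iff.1 y.2
      show Commute (j x) (y : O)
      rw [← hi]
      exact (hcom x).zpow_right i
  have hΨ : Function.Injective Ψ := by
    rw [injective_iff_map_eq_one]
    rintro ⟨x, ⟨y, hy⟩⟩ h
    change j x * y = 1 at h
    obtain ⟨i, rfl⟩ := Subgroup.mem_zpowers_iff.1 hy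
    have h1 := congrArg π h
    rw [map_mul, hπj, one_mul, map_zpow, map_one, ← orderOf_dvd_iff_zpow_eq_one, hπu, ← hordu,
      orderOf_dvd_iff_zpow_eq_one] at h1
    rw [h1, mul_one] at h
    exact Prod.ext (hjinj (h.trans (map_one j).symm)) (Subtype.ext h1)
  have hbij : Function.Bijective Ψ := hΨ.bijective_of_nat_card_le (by
    rw [hcard, Nat.card_prod, Nat.card_zpowers, hordu])
  have e : Subgroup.zpowers u ≃* Multiplicative (ZMod f) := mulEquivOfCyclicCardEq (by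
    rw [Nat.card_zpowers, hordu, Nat.card_congr Multiplicative.toAdd, Nat.card_zmod])
  exact ⟨(MulEquiv.ofBijective Ψ hbij).symm.trans (MulEquiv.prodCongr (MulEquiv.refl _) e)⟩

end Abstract

set_option maxHeartbeats 1000000 in
/-- The outer group in odd characteristic. -/
theorem out_odd [hQ : OCtx (minusForm F k A B)] (hodd : Odd (Fintype.card F)) (hk : 3 ≤ k) {p f : ℕ} [Fact p.Prime]
    (hF : Fintype.card F = p ^ f) :
    if Even k ∧ Fintype.card F % 4 = 3 then
      Nonempty (Cfsg.Out (Cfsg.POmega F (Cfsg.quadFormMinus k F A B)) ≃* DihedralGroup 4 × Multiplicative (ZMod f))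
    else Nonempty (Cfsg.Out (Cfsg.POmega F (Cfsg.quadFormMinus k F A B)) ≃* Multiplicative (ZMod 2 × ZMod (2 * f))) := by
  classical
  obtain ⟨π, τ, φ, a, r, hker, hπτ, hord, hpow, ha, hr, haa, hrr, hna, hnr, hnar, hsq, hcomm⟩ :=
    odd_frob k hab hodd hk hF
  obtain ⟨hcard, -⟩ := card_out_minus k hab hF
  rw [minus_odd_relIndex k hab hodd hk] at hcard
  haveI : Finite (F ≃+* F) := Finite.of_injective _ DFunLike.coe_injective
  have hf0 : f ≠ 0 := fun h => by
    rw [h] at hF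
    have := Fintype.one_lt_card (α := F)
    simp [hF] at this
  haveI : NeZero f := ⟨hf0⟩
  haveI : Finite (MulAut (Cfsg.POmega F (Cfsg.quadFormMinus k F A B))) := Finite.of_injective _ DFunLike.coe_injective
  let P := Cfsg.pgoAut F (Cfsg.quadFormMinus k F A B)
  let I := Cfsg.Inn (Cfsg.POmega F (Cfsg.quadFormMinus k F A B))
  haveI : I.Normal := POmegaAut.inn_normal _
  let q := QuotientGroup.mk' I
  have hle : I ≤ π.ker := fun x hx => MonoidHom.mem_ker.2 ((hker x).2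
    (((inn_eq _).trans_le ((Subgroup.map_mono le_top).trans (pgoAut_eq _).symm.le)) hx))
  let π' := QuotientGroup.lift I π hle
  have hπ' : ∀ x, π' (q x) = π x := fun x => rfl
  have hP1 : ∀ x ∈ P, π' (q x) = 1 := fun x hx => (hπ' x).trans ((hker x).2 hx)
  have hq1 : ∀ x, q x = 1 ↔ x ∈ I := fun x => QuotientGroup.eq_one_iff x
  have hqτ : q τ ^ f = q r := by rw [← map_pow q, hpow]
  have hqr : q r * q r = 1 := by rw [← map_mul q, hq1]; exact hrr
  split_ifs with hc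
  · rw [if_pos hc] at hcard
    have hfodd : Odd f := by
      rw [← Nat.not_even_iff_odd]
      rintro ⟨j, rfl⟩
      have h4 := hc.2
      rw [hF, pow_add, Nat.mul_mod] at h4
      have : p ^ j % 4 < 4 := Nat.mod_lt _ (by norm_num)
      interval_cases h : p ^ j % 4 <;> omega
    obtain ⟨D, hneg, -, -⟩ := minus_setup k hodd (by omega) A B hab
    obtain ⟨θ, hθs, hθk⟩ := D.pgo_inn_dihedral (hneg.2 hc)
    let ρ := q.comp P.subtype
    have hρk : ρ.ker = θ.ker := by
      rw [hθk]; ext x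
      exact hq1 _
    let e := (QuotientGroup.quotientKerEquivOfSurjective θ hθs).symm.trans
      (QuotientGroup.quotientMulEquivOfEq hρk.symm)
    let j : DihedralGroup 4 →* _ := (QuotientGroup.kerLift ρ).comp e.toMonoidHom
    have hj : ∀ x, ∃ y : P, j x = q y.1 := by
      intro x
      obtain ⟨y, hy⟩ := QuotientGroup.mk_surjective (e x)
      exact ⟨y, by
        show QuotientGroup.kerLift ρ (e x) = _
        rw [← hy]; rfl⟩
    refine dihedral_prod π' (u := q τ * q τ) ?_ ?_ j ?_ ?_ ?_ (hcard.trans (by rw [DihedralGroup.nat_card]))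
    · rw [(Commute.refl (q τ)).mul_pow, hqτ, hqr]
    · rw [map_mul π', hπ', hπτ, ← pow_two, orderOf_pow, hord,
        Nat.Coprime.gcd_eq_one (Nat.coprime_two_right.2 hfodd), Nat.div_one]
    · exact (QuotientGroup.kerLift_injective ρ).comp e.injective
    · intro x
      obtain ⟨y, hy⟩ := hj x
      rw [hy]; exact hP1 _ y.2
    · intro x
      obtain ⟨y, hy⟩ := hj x
      rw [hy]
      have h := (hq1 _).2 (hsq y.1 y.2)
      simp only [map_mul q, map_inv q] at h
      rw [mul_inv_eq_one, mul_inv_eq_iff_eq_mul] at h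
      exact h.symm
  · rw [if_neg hc] at hcard
    refine klein_prod π' (x := q a) (t := q τ) (r := q r) ?_ ?_ (hP1 a ha) ?_ hqτ hqr ?_ ?_ (by rw [hπ', hπτ, hord]) hcard
    · rw [← map_mul q, hq1]; exact haa
    · exact fun h => hna ((hq1 a).1 h)
    · have h := (hq1 _).2 (hcomm hc a ha)
      simp only [map_mul q, map_inv q] at h
      rw [mul_inv_eq_one, mul_inv_eq_iff_eq_mul] at h
      exact h.symm
    · exact fun h => hnr ((hq1 r).1 h)
    · rw [← map_mul q]; exact fun h => hnar ((hq1 _).1 h)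

end CfsgLib.KnownC.AutPOmega
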