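import Cfsg.Agent.Lib.KnownC.AutPOmega.PlusOutTwo
import Cfsg.Agent.Lib.KnownC.AutPOmega.MinusOut
import Cfsg.Agent.Lib.KnownC.AutPOmega.FieldPlus
import Cfsg.Agent.Lib.KnownC.POmegaStd

/-!
# The outer automorphisms of the plus-type groups in odd characteristic

A generator of the field automorphisms fixes a reflection and either fixes the class of the multiplier swap or sends
it to its conjugate by that reflection; in the second case the field group has even order and the product with the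
reflection is used instead.
-/

set_option autoImplicit false
set_option linter.unusedSectionVars false
set_option linter.style.haveILetI false

open Module QuadraticMap
open scoped Matrix

namespace CfsgLib.KnownC.AutPOmega

open CfsgLib.Orth CfsgLib.Classical
open CfsgLib.KnownC.POmegaAut (GS Φ lin lin_apply ofOrth lin_ofOrth IsSemiInduced induced_iff pgoAut_eq)
open CfsgLib.KnownC.POmegaAut.Setup (e4)

universe u

variable {F : Type u} [Field F] [Fintype F]

section General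

variable {ι : Type} [Fintype ι] [DecidableEq ι] {Qf : (ι → F) → F}

theorem exists_pgo_hom {A : Type*} [Group A] (ψ : GS Qf →* A) (hs : Function.Surjective ψ)
    (hk : ψ.ker = (Cfsg.Inn (Cfsg.POmega F Qf)).comap (Φ Qf)) :
    ∃ φ : ↥(Cfsg.pgoAut F Qf) →* A, Function.Surjective φ ∧
      φ.ker = (Cfsg.Inn (Cfsg.POmega F Qf)).subgroupOf (Cfsg.pgoAut F Qf) ∧ ∀ g h, φ ⟨Φ Qf g, h⟩ = ψ g := by
  have hr : Cfsg.pgoAut F Qf = (Φ Qf).range := by rw [pgoAut_eq, MonoidHom.range_eq_map]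
  have hle : (Φ Qf).rangeRestrict.ker ≤ ψ.ker := fun x hx => by
    rw [MonoidHom.ker_rangeRestrict, MonoidHom.mem_ker] at hx
    rw [hk, Subgroup.mem_comap, hx]
    exact one_mem _
  let φ₀ := MonoidHom.liftOfSurjective _ (Φ Qf).rangeRestrict_surjective ⟨ψ, hle⟩
  have h₀ : ∀ g, φ₀ ((Φ Qf).rangeRestrict g) = ψ g := fun g =>
    MonoidHom.liftOfRightInverse_comp_apply _ _ (Function.rightInverse_surjInv (Φ Qf).rangeRestrict_surjective) _ g
  have hval : ∀ g h, φ₀ (MulEquiv.subgroupCongr hr ⟨Φ Qf g, h⟩) = ψ g := fun g h => h₀ g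
  refine ⟨φ₀.comp (MulEquiv.subgroupCongr hr).toMonoidHom, fun a => ?_, ?_, hval⟩
  · obtain ⟨g, rfl⟩ := hs a
    exact ⟨⟨Φ Qf g, hr ▸ ⟨g, rfl⟩⟩, hval g _⟩
  · ext ⟨y, hy⟩
    obtain ⟨g, rfl⟩ : ∃ g, Φ Qf g = y := by rw [hr] at hy; exact hy
    rw [MonoidHom.mem_ker, Subgroup.mem_subgroupOf, ← Subgroup.mem_comap (f := Φ Qf), ← hk, MonoidHom.mem_ker]
    show φ₀ (MulEquiv.subgroupCongr hr ⟨Φ Qf g, hy⟩) = 1 ↔ _
    rw [hval]

variable {Q : QuadraticForm F (ι → F)} {n : ℕ}

theorem conj_std_chi (S : POmegaAut.Setup Qf Q n) {σ : F ≃+* F} {β : MulAut (Cfsg.POmega F Qf)}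
    (hβ : IsSemiInduced Qf (1 : GL ι F) σ β) (x : GS Qf) :
    ∃ h : GS Qf, β * Φ Qf x * β⁻¹ = Φ Qf h ∧ S.chi h = S.chi x := by
  classical
  obtain ⟨h, he, hdet, hμ⟩ := semi_conj_gs Q S.hQf hβ x
  have hm : S.mult h = σ (S.mult x) := S.mult_of h (hμ _ (S.isSimil x))
  have hε : S.eps h = σ (S.eps x) := by
    show (h.1 : Matrix ι ι F).det / S.mult h ^ n = σ ((x.1 : Matrix ι ι F).det / S.mult x ^ n)
    rw [hdet, hm, map_div₀, map_pow]
  have hsq : IsSquare (S.mult h) ↔ IsSquare (S.mult x) := by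
    rw [hm]
    exact ⟨fun h => by simpa using h.map σ.symm, fun h => h.map σ⟩
  have key : ∀ a b : ZMod 2, (a = 0 ↔ b = 0) → a = b := by decide
  refine ⟨h, he, Multiplicative.toAdd.injective (Prod.ext (key _ _ ?_) (key _ _ ?_))⟩
  · rw [S.chi_fst, S.chi_fst, hsq]
  · rw [S.chi_snd, S.chi_snd, hε]
    exact map_eq_one_iff σ σ.injective

end General

/-- The reflection vector of value one in one pair. -/
def unitPair (m : ℕ) (i : Fin m) : Fin m ⊕ Fin m → F := Pi.single (Sum.inl i) 1 + Pi.single (Sum.inr i) 1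

theorem unitPair_value (m : ℕ) (i : Fin m) : plusForm F m (unitPair m i) = 1 := by
  rw [← plusForm_apply]
  simp [Cfsg.quadFormPlus, unitPair, Pi.single_apply]

/-- Its reflection commutes with the standard field automorphisms. -/
theorem std_commute_refl (m : ℕ) (i : Fin m) {σ : F ≃+* F}
    {β : MulAut (Cfsg.POmega F (Cfsg.quadFormPlus m F))}
    (hβ : IsSemiInduced (Cfsg.quadFormPlus m F) (1 : GL (Fin m ⊕ Fin m) F) σ β) :
    Commute β (Φ (Cfsg.quadFormPlus m F) (ofOrth (Cfsg.quadFormPlus m F) (plusForm F m) (plusForm_apply m)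
      (refl (plusForm F m) (unitPair m i)))) := by
  set R := ofOrth (Cfsg.quadFormPlus m F) (plusForm F m) (plusForm_apply m) (refl (plusForm F m) (unitPair m i))
  have hR : Matrix.GeneralLinearGroup.map σ.toRingHom R.1 = R.1 := by
    refine Units.ext (Matrix.ext fun a b => ?_)
    show σ ((R.1 : Matrix (Fin m ⊕ Fin m) (Fin m ⊕ Fin m) F) a b) = (R.1 : Matrix (Fin m ⊕ Fin m) (Fin m ⊕ Fin m) F) a b
    have e : (R.1 : Matrix (Fin m ⊕ Fin m) (Fin m ⊕ Fin m) F) a b =
        (Pi.single b 1 : Fin m ⊕ Fin m → F) a - polar (plusForm F m) (unitPair m i) (Pi.single b 1) * unitPair (F := F) m i a := by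
      have h := congrFun (lin_apply _ R (Pi.single b 1)) a
      rw [show lin _ R = (refl (plusForm F m) (unitPair m i)).1 from lin_ofOrth _ _ _ _, refl_apply, unitPair_value,
        inv_one, one_mul] at h
      rw [Matrix.mulVec_single_one] at h
      exact h.symm
    rw [e, plusForm_polar]
    simp [unitPair, Pi.single_apply, map_sum, apply_ite (σ : F → F)]
  have h1 := semi_right hβ R
  rw [hR, one_mul] at h1
  have h2 := semi_left R hβ
  rw [mul_one] at h2
  exact induced_unique h1 h2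

theorem plus_out_klein {p f m : ℕ} [Fact p.Prime] (hm : 5 ≤ m) (hF : Fintype.card F = p ^ f)
    (hodd : Odd (Fintype.card F)) (hc : Odd m ∧ Fintype.card F % 4 = 3) :
    Nonempty (Cfsg.Out (Cfsg.POmega F (Cfsg.quadFormPlus m F)) ≃* Multiplicative (ZMod 2 × ZMod 2 × ZMod f)) := by
  classical
  haveI := octx_plus (F := F) (m := m) hm
  obtain ⟨D, hneg, -, -⟩ := POmegaAut.plus_setup (F := F) (m := m) hodd (by omega)
  have hN : D.negOne ∉ commutator (orthGroup (plusForm F m)) := fun h => hneg.1 h hc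
  obtain ⟨φ, hs, hk, hval⟩ := exists_pgo_hom D.chi D.chi_surjective (by rw [← D.N_eq, D.N_eq_chi hN])
  obtain ⟨π, hπ, hker⟩ := exists_field_hom (plusForm F m) (plusForm_apply m)
  obtain ⟨sec, hsec⟩ := exists_std_section (Qf := Cfsg.quadFormPlus m F) (plus_std m)
  obtain ⟨e⟩ := out_prod (plusForm F m) (plusForm_apply m) φ hs hk π hker sec (fun σ => hπ _ σ _ (hsec σ))
    (fun σ x h => by
      obtain ⟨g, -, hg⟩ : x.1 ∈ (⊤ : Subgroup _).map (Φ (Cfsg.quadFormPlus m F)) := by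
        rw [← pgoAut_eq]; exact x.2
      obtain ⟨g', hg', hchi⟩ := conj_std_chi D (hsec σ) g
      have h1 : φ x = D.chi g := by
        rw [← hval g (by rw [hg]; exact x.2)]
        exact congrArg φ (Subtype.ext hg.symm)
      rw [h1, ← hchi, ← hval g' (by rw [← hg', hg]; exact h)]
      exact congrArg φ (Subtype.ext (by show sec σ * x.1 * (sec σ)⁻¹ = Φ (Cfsg.quadFormPlus m F) g'; rw [← hg', hg])))
  obtain ⟨ef⟩ := AutPSL.ringAut_cyclic (F := F) hF
  exact ⟨e.trans (((MulEquiv.prodCongr (MulEquiv.refl _) ef).trans (MulEquiv.prodMultiplicative _ _).symm).trans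
    (AddEquiv.toMultiplicative AddEquiv.prodAssoc))⟩

theorem dihedral_two_classes : ∀ (b : ZMod 2) (u v w : DihedralGroup 4), e4 b u = (0, 1) → e4 b v = (1, b) →
    e4 b w = e4 b v → w = v ∨ w = u * v * u⁻¹ := by decide +kernel

theorem dihedral_noncomm : ∀ (b : ZMod 2) (u v : DihedralGroup 4), e4 b u = (0, 1) → e4 b v = (1, b) →
    u * v * u⁻¹ ≠ v ∧ u * u = 1 := by decide +kernel

theorem plus_out_dihedral {p f m : ℕ} [Fact p.Prime] (hm : 5 ≤ m) (hf : 1 ≤ f) (hF : Fintype.card F = p ^ f)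
    (hodd : Odd (Fintype.card F)) (hc : ¬ (Odd m ∧ Fintype.card F % 4 = 3)) :
    Nonempty (Cfsg.Out (Cfsg.POmega F (Cfsg.quadFormPlus m F)) ≃* DihedralGroup 4 × Multiplicative (ZMod f)) := by
  classical
  haveI : NeZero f := ⟨by omega⟩
  haveI := octx_plus (F := F) (m := m) hm
  obtain ⟨D, hneg, -, -⟩ := POmegaAut.plus_setup (F := F) (m := m) hodd (by omega)
  have hN : D.negOne ∈ commutator (orthGroup (plusForm F m)) := hneg.2 hc
  haveI := D.N_normal
  haveI hInn := POmegaAut.inn_normal (Cfsg.POmega F (Cfsg.quadFormPlus m F))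
  obtain ⟨ψ, hψs, hψk, hψe⟩ := D.exists_dihedral hN
  obtain ⟨φ, hs, hk, hval⟩ := exists_pgo_hom ψ hψs (by rw [hψk, D.N_eq])
  obtain ⟨π, hπ, hker⟩ := exists_field_hom (plusForm F m) (plusForm_apply m)
  obtain ⟨sec, hsec⟩ := exists_std_section (Qf := Cfsg.quadFormPlus m F) (plus_std m)
  obtain ⟨ef⟩ := AutPSL.ringAut_cyclic (F := F) hF
  -- the reflection
  let i : Fin m := ⟨0, by omega⟩
  set R := ofOrth (Cfsg.quadFormPlus m F) (plusForm F m) (plusForm_apply m) (refl (plusForm F m) (unitPair m i)) with hRdef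
  set r := Φ (Cfsg.quadFormPlus m F) R with hrdef
  have hRR : R * R = 1 := by rw [hRdef, ← map_mul, refl_mul_self, map_one]
  have hr2 : r * r = 1 := by rw [hrdef, ← map_mul, hRR, map_one]
  have hψR : ψ R = ψ D.R := by
    rw [← mul_inv_eq_one, ← map_inv, ← map_mul, ← MonoidHom.mem_ker, hψk]
    show ofOrth _ _ D.hQf _ * (D.iso _)⁻¹ ∈ D.N
    rw [show ofOrth _ _ D.hQf = D.iso from rfl, ← map_inv, ← map_mul]
    refine D.omega_le_N ?_
    rw [mem_commutator_iff, map_mul, map_inv, ab_refl_eq D.hQ D.good (a := unitPair m i) (b := D.a)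
      (by rw [unitPair_value]; exact one_ne_zero) (by rw [D.ha]; exact one_ne_zero)
      (by rw [unitPair_value, D.ha, one_mul]; exact IsSquare.one), mul_inv_cancel]
  set b := POmegaAut.bit (D.eps D.s)
  have hu : e4 b (ψ R) = (0, 1) := by rw [hψR, ← hψe, D.chi_R]; rfl
  have hv : e4 b (ψ D.s) = (1, b) := by rw [← hψe, D.chi_s]; rfl
  -- conjugation preserves the projective similitudes
  have hmem : ∀ (β : MulAut (Cfsg.POmega F (Cfsg.quadFormPlus m F))) (g : GS (Cfsg.quadFormPlus m F)),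
      β * Φ (Cfsg.quadFormPlus m F) g * β⁻¹ ∈ Cfsg.pgoAut F (Cfsg.quadFormPlus m F) := fun β g => (hker _).1 (by
    rw [map_mul, map_mul, (hker (Φ _ g)).2 (by rw [pgoAut_eq]; exact ⟨g, trivial, rfl⟩), mul_one, ← map_mul, mul_inv_cancel,
      map_one])
  let Θ : MulAut (Cfsg.POmega F (Cfsg.quadFormPlus m F)) → GS (Cfsg.quadFormPlus m F) →* DihedralGroup 4 :=
    fun β => MonoidHom.mk' (fun g => φ ⟨_, hmem β g⟩) fun x y => by
      rw [← map_mul φ]
      refine congrArg φ (Subtype.ext ?_)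
      show β * Φ _ (x * y) * β⁻¹ = β * Φ _ x * β⁻¹ * (β * Φ _ y * β⁻¹)
      rw [map_mul]; group
  have hΘ : ∀ β g g', β * Φ (Cfsg.quadFormPlus m F) g * β⁻¹ = Φ (Cfsg.quadFormPlus m F) g' → Θ β g = ψ g' :=
    fun β g g' h => by
      show φ _ = _
      rw [← hval g' (by rw [← h]; exact hmem β g)]
      exact congrArg φ (Subtype.ext h)
  have hlift : ∀ β g, ∃ g', β * Φ (Cfsg.quadFormPlus m F) g * β⁻¹ = Φ (Cfsg.quadFormPlus m F) g' := fun β g => by
    have h := hmem β g
    rw [pgoAut_eq] at h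
    obtain ⟨g', -, e⟩ := h
    exact ⟨g', e.symm⟩
  have hext : ∀ β, Θ β R = ψ R → Θ β D.s = ψ D.s → ∀ g, Θ β g = ψ g := by
    intro β h1 h2 g
    have hNle : ∀ y ∈ D.N, y ∈ MonoidHom.eqLocus (Θ β) ψ := fun y hy => by
      obtain ⟨g', hg'⟩ := hlift β y
      show Θ β y = ψ y
      rw [hΘ β y g' hg', MonoidHom.mem_ker.1 (hψk.symm ▸ hy : y ∈ ψ.ker), ← MonoidHom.mem_ker, hψk, D.N_eq,
        Subgroup.mem_comap, ← hg']
      rw [D.N_eq, Subgroup.mem_comap] at hy
      exact hInn.conj_mem _ hy β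
    have hR' : D.R ∈ MonoidHom.eqLocus (Θ β) ψ := by
      have e : D.R = R * (R⁻¹ * D.R) := by group
      rw [e]
      refine mul_mem h1 (hNle _ ?_)
      rw [← hψk, MonoidHom.mem_ker, map_mul, map_inv, hψR, inv_mul_cancel]
    have hle : Subgroup.closure ({QuotientGroup.mk (D.s * D.R), QuotientGroup.mk D.R} :
        Set (GS (Cfsg.quadFormPlus m F) ⧸ D.N)) ≤ (MonoidHom.eqLocus (Θ β) ψ).map (QuotientGroup.mk' D.N) := by
      rw [Subgroup.closure_le]
      rintro y (rfl | rfl)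
      · exact ⟨_, mul_mem h2 hR', rfl⟩
      · exact ⟨_, hR', rfl⟩
    obtain ⟨y, hy, e⟩ := hle (D.generate (QuotientGroup.mk g))
    obtain ⟨z, hz, rfl⟩ := (QuotientGroup.mk'_eq_mk' D.N).1 (e : QuotientGroup.mk' D.N y = QuotientGroup.mk' D.N g)
    exact mul_mem hy (hNle z hz)
  -- a generator of the field automorphisms
  set g₀ : F ≃+* F := ef.symm (Multiplicative.ofAdd 1) with hg₀
  have hpow : ∀ σ : F ≃+* F, σ = g₀ ^ (Multiplicative.toAdd (ef σ)).val := fun σ => ef.injective (by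
    rw [map_pow, hg₀, MulEquiv.apply_symm_apply, ← ofAdd_nsmul, nsmul_one, ZMod.natCast_zmod_val, ofAdd_toAdd])
  set τ := sec g₀ with hτdef
  have hτf : τ ^ f = 1 := by
    rw [hτdef, ← map_pow, show g₀ ^ f = 1 from ef.injective (by
      rw [map_pow, map_one, hg₀, MulEquiv.apply_symm_apply, ← ofAdd_nsmul, nsmul_one, ZMod.natCast_self, ofAdd_zero]),
      map_one]
  have hcomm : Commute τ r := std_commute_refl m i (hsec g₀)
  have hτR : Θ τ R = ψ R := hΘ _ _ _ (by rw [← hrdef, hcomm.eq, mul_inv_cancel_right])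
  obtain ⟨s', hs', hchi⟩ := conj_std_chi D (hsec g₀) D.s
  have hτs : Θ τ D.s = ψ s' := hΘ _ _ _ hs'
  have hrs : Θ r D.s = ψ R * ψ D.s * (ψ R)⁻¹ := by
    rw [hΘ r D.s (R * D.s * R⁻¹) (by rw [map_mul, map_mul, map_inv]), map_mul, map_mul, map_inv]
  -- acting trivially on the similitudes modulo the inner automorphisms
  let T : Submonoid (MulAut (Cfsg.POmega F (Cfsg.quadFormPlus m F))) :=
    { carrier := {β | ∀ g, Θ β g = ψ g}
      one_mem' := fun g => hΘ _ _ _ (by rw [one_mul, inv_one, mul_one])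
      mul_mem' := fun {a c} ha hc g => by
        obtain ⟨g', hg'⟩ := hlift c g
        obtain ⟨g'', hg''⟩ := hlift a g'
        rw [hΘ (a * c) g g'' (by rw [← hg'', ← hg']; group), ← hΘ a g' g'' hg'', ha g', ← hΘ c g g' hg', hc g] }
  -- the section
  obtain ⟨sec', hsec', hT⟩ : ∃ sec' : (F ≃+* F) →* MulAut (Cfsg.POmega F (Cfsg.quadFormPlus m F)),
      (∀ σ, π (sec' σ) = σ) ∧ ∀ σ, sec' σ ∈ T := by
    rcases dihedral_two_classes b (ψ R) (ψ D.s) (ψ s') hu hv (by rw [← hψe, ← hψe, hchi]) with h | h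
    · refine ⟨sec, fun σ => hπ _ σ _ (hsec σ), fun σ => ?_⟩
      rw [hpow σ, map_pow]
      exact pow_mem (show τ ∈ T from hext τ hτR (by rw [hτs, h])) _
    · have hT1 : τ * r ∈ T := by
        refine hext _ (hΘ _ _ _ ?_) ?_
        · rw [← hrdef, mul_inv_rev, mul_assoc τ r r, hr2, mul_one, ← mul_assoc, inv_eq_of_mul_eq_one_right hr2,
            hcomm.eq, mul_inv_cancel_right]
        · obtain ⟨g', hg'⟩ := hlift τ (R * D.s * R⁻¹)
          rw [hΘ (τ * r) D.s g' (by rw [← hg', map_mul, map_mul, map_inv, ← hrdef]; group), ← hΘ τ _ g' hg', map_mul,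
            map_mul, map_inv, hτR, hτs, h]
          have hu2 := (dihedral_noncomm b _ _ hu hv).2
          rw [inv_eq_of_mul_eq_one_right hu2]
          simp only [← mul_assoc, hu2, one_mul]
          rw [mul_assoc, hu2, mul_one]
      have hfe : Even f := by
        by_contra hfo
        obtain ⟨j, hj⟩ := Nat.not_even_iff_odd.1 hfo
        have h1 := pow_mem hT1 f
        rw [hcomm.mul_pow, hτf, one_mul, show r ^ f = r by rw [hj, pow_succ, pow_mul, pow_two, hr2, one_pow, one_mul]] at h1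
        have h2 := h1 D.s
        rw [hrs] at h2
        exact (dihedral_noncomm b _ _ hu hv).1 h2
      have hrf : r ^ f = 1 := by
        obtain ⟨j, hj⟩ := hfe
        rw [hj, ← two_mul, pow_mul, pow_two, hr2, one_pow]
      refine ⟨MonoidHom.mk' (fun σ => (τ * r) ^ (Multiplicative.toAdd (ef σ)).val) fun x y => ?_, fun σ => ?_,
        fun σ => pow_mem hT1 _⟩
      · rw [map_mul, toAdd_mul, ZMod.val_add, ← pow_add]
        exact (pow_eq_pow_mod _ (by rw [hcomm.mul_pow, hτf, hrf, one_mul])).symm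
      · show π ((τ * r) ^ _) = σ
        rw [map_pow, map_mul, (hker r).2 (by rw [pgoAut_eq]; exact ⟨R, trivial, rfl⟩), mul_one, hτdef,
          hπ _ g₀ _ (hsec g₀), ← hpow σ]
  obtain ⟨e⟩ := out_prod (plusForm F m) (plusForm_apply m) φ hs hk π hker sec' hsec' (fun σ x h => by
    obtain ⟨g, -, hg⟩ : x.1 ∈ (⊤ : Subgroup _).map (Φ (Cfsg.quadFormPlus m F)) := by
      rw [← pgoAut_eq]; exact x.2
    have h1 : φ x = ψ g := by rw [← hval g (by rw [hg]; exact x.2)]; exact congrArg φ (Subtype.ext hg.symm)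
    rw [h1, ← hT σ g]
    exact congrArg φ (Subtype.ext (by show _ = sec' σ * Φ _ g * (sec' σ)⁻¹; rw [hg])))
  exact ⟨e.trans (MulEquiv.prodCongr (MulEquiv.refl _) ef)⟩

theorem plus_out_odd_four {p f : ℕ} [Fact p.Prime] (hp : p ≠ 2) (hF : Fintype.card F = p ^ f) :
    Nonempty (Cfsg.Out (Cfsg.POmega F (Cfsg.quadFormPlus 4 F)) ≃* Equiv.Perm (Fin 4) × Multiplicative (ZMod f)) := by
  haveI := charP_of_card hF
  obtain ⟨e⟩ := CfsgLib.Chevalley.Natural.pomega_D4 (F := F)
  obtain ⟨e1⟩ := out_congr e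
  obtain ⟨-, -, ⟨e2⟩⟩ := CfsgLib.KnownB.Aut.D4Out.out_odd (F := F) p hF hp
  obtain ⟨ef⟩ := AutPSL.ringAut_cyclic (F := F) hF
  exact ⟨(e1.symm.trans e2).trans (MulEquiv.prodCongr (MulEquiv.refl _) ef)⟩

end CfsgLib.KnownC.AutPOmega
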