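import Cfsg.Agent.Lib.KnownC.AutPOmega.FieldPlusMain
import Cfsg.Agent.Lib.KnownC.AutPOmega.PlusOutOdd

/-!
# The standard field automorphisms of prime order of the plus-type groups

The centraliser comes from the fixed field; a class splits according to the image of that centraliser in the
inner-diagonal classes.  Nothing here needs the dimension to differ from eight.
-/

set_option autoImplicit false
set_option linter.unusedSectionVars false
set_option linter.style.haveILetI false

open Module QuadraticMap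
open scoped Matrix

namespace CfsgLib.KnownC.AutPOmega

open CfsgLib.Orth CfsgLib.Classical
open CfsgLib.KnownC.POmegaAut (GS Φ lin lin_apply lin_injective ofOrth lin_ofOrth IsSemiInduced inn_eq induced_iff
  swapMat swapMat_inl swapMat_inr det_swapMat)

universe u v

variable {F : Type u} [Field F] [Fintype F]

theorem octx0_plus {m : ℕ} (hm : 4 ≤ m) : OCtx0 (plusForm F m) where
  fin := inferInstance
  nd := plusForm_nondeg m
  seven := by simp; omega

/-- A product of an even number of reflections with square spinor product is inner. -/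
theorem refl_prod_inn {ι : Type} [Fintype ι] [DecidableEq ι] {Qf : (ι → F) → F} (Q : QuadraticForm F (ι → F))
    (hQf : ∀ v, Qf v = Q v) [hQ : OCtx0 Q] (h2 : (2 : F) ≠ 0) {L : List (ι → F)} (hL : ∀ a ∈ L, Q a ≠ 0)
    (hev : Even L.length) (hsq : IsSquare (L.map fun a => Q a).prod) :
    Φ Qf (ofOrth Qf Q hQf (L.map (refl Q)).prod) ∈ Cfsg.Inn (Cfsg.POmega F Qf) :=
  phi_mem_inn ((POmegaAut.mem_omegaSub_iff Qf Q hQf _).2
    ⟨_, (prod_refl_mem_commutator_iff hQ.nd h2 L hL).2 ⟨hev, hsq⟩, rfl⟩)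

/-- A proper similitude with square multiplier is an even product of reflections, up to scalars. -/
theorem proper_sq_list {ι : Type} [Fintype ι] [DecidableEq ι] {Qf : (ι → F) → F} {Q : QuadraticForm F (ι → F)}
    {n : ℕ} (S : POmegaAut.Setup Qf Q n) [hQ : OCtx0 Q] (hn : Fintype.card ι = 2 * n) {g : GS Qf}
    (hg : g ∈ properSub Q S.hQf n) (hsq : IsSquare (S.mult g)) :
    ∃ L : List (ι → F), (∀ a ∈ L, Q a ≠ 0) ∧ Even L.length ∧
      Φ Qf g = Φ Qf (ofOrth Qf Q S.hQf (L.map (refl Q)).prod) := by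
  obtain ⟨z, hz, h, rfl⟩ := S.exists_decomp g hsq
  have hz1 : Φ Qf z = 1 := MonoidHom.mem_ker.1 (POmegaAut.scalars_le_ker _ hz)
  obtain ⟨L, hL, rfl⟩ := exists_refl_list hQ.nd (good (Q := Q)) h
  have e : Φ Qf (z * S.iso (L.map (refl Q)).prod) = Φ Qf (ofOrth Qf Q S.hQf (L.map (refl Q)).prod) := by
    rw [map_mul, hz1, one_mul]; rfl
  exact ⟨L, hL, (prod_refl_proper Q S.hQf hn L hL).1 ((proper_congr Q S.hQf hn e).1 hg), e⟩

/-- A field automorphism of prime order has a field component of that order. -/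
theorem std_orderOf {m : ℕ} [hQ : OCtx0 (plusForm F m)] {σ : F ≃+* F}
    {φ : MulAut (Cfsg.POmega F (Cfsg.quadFormPlus m F))}
    (hφ : IsSemiInduced (Cfsg.quadFormPlus m F) (1 : GL (Fin m ⊕ Fin m) F) σ φ) (hne : σ ≠ RingEquiv.refl F) {r : ℕ}
    (hr : r.Prime) (hφr : orderOf φ = r) : orderOf σ = r := by
  haveI : Fact r.Prime := ⟨hr⟩
  refine orderOf_eq_prime ?_ hne
  have h := semi_iterate hφ r
  rw [show φ ^ r = 1 from hφr ▸ pow_orderOf_eq_one φ] at h
  exact (scalar_of_induced_one (plusForm F m) (plusForm_apply m) h.1 h.2).1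

/-- The swap of the pairs with multiplier `ν`. -/
theorem exists_plus_swap (m : ℕ) {ν : F} (hν : ν ≠ 0) :
    ∃ B : GS (Cfsg.quadFormPlus m F), (B.1 : Matrix (Fin m ⊕ Fin m) (Fin m ⊕ Fin m) F) = swapMat m ν ∧
      IsSimil (plusForm F m) (lin (Cfsg.quadFormPlus m F) B) ν := by
  have hdet : (swapMat m ν).det ≠ 0 := by
    rw [det_swapMat]; exact mul_ne_zero (pow_ne_zero _ hν) (pow_ne_zero _ (neg_ne_zero.2 one_ne_zero))
  have hsim : ∀ v, Cfsg.quadFormPlus m F (swapMat m ν *ᵥ v) = ν * Cfsg.quadFormPlus m F v := fun v => by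
    simp only [Cfsg.quadFormPlus, swapMat_inl, swapMat_inr, Finset.mul_sum]
    exact Finset.sum_congr rfl fun i _ => by ring
  refine ⟨⟨Matrix.GeneralLinearGroup.mkOfDetNeZero (swapMat m ν) hdet, Units.mk0 ν hν, hsim⟩, rfl, fun v => ?_⟩
  rw [lin_apply, ← plusForm_apply, ← plusForm_apply]
  exact hsim v

variable {F₀ : Type v} [Field F₀] [Fintype F₀] {emb : F₀ →+* F} {m : ℕ} {σ : F ≃+* F}
  {φ : MulAut (Cfsg.POmega F (Cfsg.quadFormPlus m F))}

/-- The centraliser of a standard field automorphism. -/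
theorem std_centralizer (hm : 4 ≤ m) (hι : ∀ x, σ x = x ↔ x ∈ Set.range emb)
    (hφ : IsSemiInduced (Cfsg.quadFormPlus m F) (1 : GL (Fin m ⊕ Fin m) F) σ φ) :
    Nonempty (↥(Cfsg.inndiagPOmegaPlus m F ⊓ Subgroup.centralizer {φ}) ≃* ↥(Cfsg.inndiagPOmegaPlus m F₀)) := by
  haveI := octx0_plus (F := F) hm
  haveI := octx0_plus (F := F₀) hm
  rw [inndiag_plus_eq', inndiag_plus_eq']
  exact (plusDesc m emb σ).centralizer_proper (plusForm_apply m) (plusForm_apply m) (card_plus_index m)
    (card_plus_index m) hι hφ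

theorem two_ne_fixed (emb : F₀ →+* F) (h2 : (2 : F) ≠ 0) : (2 : F₀) ≠ 0 := fun h =>
  h2 (by rw [← map_ofNat emb 2, h, map_zero])

/-- In characteristic two and for odd order the class does not split. -/
theorem std_split_one (hm : 4 ≤ m) (hι : ∀ x, σ x = x ↔ x ∈ Set.range emb) {r : ℕ} (hσ : orderOf σ = r)
    (hφ : IsSemiInduced (Cfsg.quadFormPlus m F) (1 : GL (Fin m ⊕ Fin m) F) σ φ) (hcase : Odd r ∨ (2 : F) = 0) :
    Cfsg.splitClassCount (Cfsg.inndiagPOmegaPlus m F) (Cfsg.Inn (Cfsg.POmega F (Cfsg.quadFormPlus m F))) φ = 1 := by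
  classical
  haveI := octx0_plus (F := F) hm
  haveI := octx0_plus (F := F₀) hm
  have hn := card_plus_index m
  haveI hInn := POmegaAut.inn_normal (Cfsg.POmega F (Cfsg.quadFormPlus m F))
  have hle : Cfsg.Inn (Cfsg.POmega F (Cfsg.quadFormPlus m F)) ≤ Cfsg.inndiagPOmegaPlus m F := by
    rw [inndiag_plus_eq']; exact inn_le_proper _ _ hn
  rw [POmegaAut.splitClassCount_eq _ _ hle, Subgroup.relIndex_eq_one, inndiag_plus_eq']
  set I := Cfsg.Inn (Cfsg.POmega F (Cfsg.quadFormPlus m F))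
  set H := (properSub (plusForm F m) (plusForm_apply m) m).map (Φ (Cfsg.quadFormPlus m F))
  by_cases h2 : (2 : F) = 0
  · rintro _ ⟨g, hg, rfl⟩
    exact Subgroup.mem_sup_left ((mem_proper_two _ _ h2 g).1 hg)
  have hr := hcase.resolve_right h2
  have h20 := two_ne_fixed emb h2
  obtain ⟨S, -, -, -⟩ := POmegaAut.plus_setup (F := F) (m := m) (odd_of_two_ne h2) (by omega)
  obtain ⟨S₀, -, -, -⟩ := POmegaAut.plus_setup (F := F₀) (m := m) (odd_of_two_ne h20) (by omega)
  set D := plusDesc m emb σ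
  set ν := S₀.mult S₀.s
  have hν : ¬ IsSquare ν := S₀.hν
  have hν' : ¬ IsSquare (emb ν) := not_square_of_odd hι hσ hr hν
  have hbc : ∀ B ∈ properSub (plusForm F₀ m) (plusForm_apply m) m,
      Φ (Cfsg.quadFormPlus m F) (D.bc (plusForm_apply m) (plusForm_apply m) B) ∈
        I ⊔ (H ⊓ Subgroup.centralizer {φ}) := fun B hB =>
    Subgroup.mem_sup_right ⟨⟨_, (D.bc_proper _ _ hn hn B).2 hB, rfl⟩, Subgroup.mem_centralizer_singleton_iff.2
      (D.bc_commute _ _ (fun y => (hι _).2 ⟨y, rfl⟩) hφ B)⟩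
  -- square multiplier
  have key : ∀ g ∈ properSub (plusForm F m) (plusForm_apply m) m, IsSquare (S.mult g) →
      Φ (Cfsg.quadFormPlus m F) g ∈ I ⊔ (H ⊓ Subgroup.centralizer {φ}) := by
    intro g hg hsq
    obtain ⟨L, hL, hev, e⟩ := proper_sq_list S hn hg hsq
    rw [e]
    by_cases hp : IsSquare (L.map fun a => plusForm F m a).prod
    · exact Subgroup.mem_sup_left (refl_prod_inn _ _ h2 hL hev hp)
    let i : Fin m := ⟨0, by omega⟩
    set a : Fin m ⊕ Fin m → F₀ := unitPair m i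
    set b : Fin m ⊕ Fin m → F₀ := Pi.single (Sum.inl i) ν + Pi.single (Sum.inr i) 1
    have hb : plusForm F₀ m b = ν := by
      rw [← plusForm_apply]; simp [Cfsg.quadFormPlus, b, Pi.single_apply]
    have hν0 : ν ≠ 0 := S₀.mult_ne _
    have hL₀ : ∀ x ∈ [a, b], plusForm F₀ m x ≠ 0 := by
      simp [a, unitPair_value, hb, hν0]
    have hB : ofOrth (Cfsg.quadFormPlus m F₀) (plusForm F₀ m) (plusForm_apply m)
        (([a, b] : List _).map (refl (plusForm F₀ m))).prod ∈ properSub (plusForm F₀ m) (plusForm_apply m) m :=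
      (prod_refl_proper _ _ hn _ hL₀).2 (by simp)
    have h1 := hbc _ hB
    rw [D.bc_prod_refl] at h1
    refine (Subgroup.mul_mem_cancel_right _ h1).1 (Subgroup.mem_sup_left ?_)
    rw [← map_mul, show ofOrth (Cfsg.quadFormPlus m F) (plusForm F m) S.hQf =
        ofOrth (Cfsg.quadFormPlus m F) (plusForm F m) (plusForm_apply m) from rfl, ← map_mul, ← List.prod_append,
      ← List.map_append]
    have hQD : ∀ x : Fin m ⊕ Fin m → F₀, plusForm F m (D.e (⇑emb ∘ x)) = emb (plusForm F₀ m x) := fun x => by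
      rw [D.hQ, D.hemb]; exact one_mul _
    refine refl_prod_inn _ _ h2 ?_ ?_ ?_
    · intro x hx
      rcases List.mem_append.1 hx with hx | hx
      · exact hL x hx
      · obtain ⟨y, hy, rfl⟩ := List.mem_map.1 hx
        rw [hQD]; exact (map_ne_zero emb).2 (hL₀ y hy)
    · simpa [Nat.even_add] using hev
    · have hq : ringChar F ≠ 2 := fun hc => by
        haveI : CharP F 2 := ringChar.eq_iff.1 hc
        exact h2 CharTwo.two_eq_zero
      simp only [List.map_append, List.prod_append, List.map_cons, List.map_nil, List.prod_cons, List.prod_nil,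
        mul_one, hQD, a, unitPair_value, hb, map_one, one_mul]
      refine (Discr.isSquare_mul_nonsquare hq ?_ hν').2 hp
      exact List.prod_ne_zero fun h0 => by
        obtain ⟨x, hx, e0⟩ := List.mem_map.1 h0
        exact hL x hx e0
  rintro _ ⟨g, hg, rfl⟩
  by_cases hsq : IsSquare (S.mult g)
  · exact key g hg hsq
  obtain ⟨B, hB, hBν⟩ : ∃ B ∈ properSub (plusForm F₀ m) (plusForm_apply m) m, S₀.mult B = ν := by
    by_cases hs : S₀.s ∈ properSub (plusForm F₀ m) (plusForm_apply m) m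
    · exact ⟨_, hs, rfl⟩
    · refine ⟨_, proper_index_two _ _ hn hs (refl_not_proper _ (plusForm_apply m) (n := m) (a := S₀.a)
        (by rw [S₀.ha]; exact one_ne_zero)), ?_⟩
      rw [map_mul]
      show _ * S₀.mult (S₀.iso _) = _
      rw [S₀.mult_iso, mul_one]
  refine (Subgroup.mul_mem_cancel_right _ (hbc B hB)).1 ?_
  rw [← map_mul]
  refine key _ (mul_mem hg ((D.bc_proper _ _ hn hn B).2 hB)) ?_
  have hq : ringChar F ≠ 2 := fun hc => by
    haveI : CharP F 2 := ringChar.eq_iff.1 hc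
    exact h2 CharTwo.two_eq_zero
  rw [map_mul, S.mult_of _ (D.bc_simil (plusForm_apply m) (plusForm_apply m) B (hBν ▸ S₀.isSimil B))]
  exact (Discr.isSquare_mul_nonsquare hq (S.mult_ne g) hν').2 hsq

set_option maxHeartbeats 1000000 in
/-- The classes inside the class of an involutory field automorphism in odd characteristic. -/
theorem std_split_two (hm : 4 ≤ m) (hι : ∀ x, σ x = x ↔ x ∈ Set.range emb) (hσ : orderOf σ = 2)
    (hφ : IsSemiInduced (Cfsg.quadFormPlus m F) (1 : GL (Fin m ⊕ Fin m) F) σ φ) (h2 : (2 : F) ≠ 0) :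
    Cfsg.splitClassCount (Cfsg.inndiagPOmegaPlus m F) (Cfsg.Inn (Cfsg.POmega F (Cfsg.quadFormPlus m F))) φ =
      if Odd m ∧ Fintype.card F₀ % 4 = 1 then 2 else 4 := by
  classical
  haveI := octx0_plus (F := F) hm
  haveI := octx0_plus (F := F₀) hm
  have hn := card_plus_index m
  have h20 := two_ne_fixed emb h2
  have hq0 : ringChar F₀ ≠ 2 := fun hc => by
    haveI : CharP F₀ 2 := ringChar.eq_iff.1 hc
    exact h20 CharTwo.two_eq_zero
  haveI hInn := POmegaAut.inn_normal (Cfsg.POmega F (Cfsg.quadFormPlus m F))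
  obtain ⟨S, hneg, -, heq⟩ := POmegaAut.plus_setup (F := F) (m := m) (odd_of_two_ne h2) (by omega)
  obtain ⟨S₀, -, -, -⟩ := POmegaAut.plus_setup (F := F₀) (m := m) (odd_of_two_ne h20) (by omega)
  have hσσ : ∀ y, σ (σ y) = y := fun y => by
    have h := pow_orderOf_eq_one σ
    rw [hσ, pow_two] at h
    exact RingEquiv.congr_fun h y
  have hσne : σ ≠ RingEquiv.refl F := fun h => by
    rw [h, show (RingEquiv.refl F : F ≃+* F) = 1 from rfl, orderOf_one] at hσ
    omega
  have hq1 := (POmegaAut.fixed_isSquare hσσ hσne h2).2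
  have hN : S.negOne ∈ commutator (orthGroup (plusForm F m)) := hneg.2 fun h => by omega
  have h4 : (Cfsg.Inn (Cfsg.POmega F (Cfsg.quadFormPlus m F))).relIndex (Cfsg.inndiagPOmegaPlus m F) = 4 := by
    rw [heq]
    rcases S.eps_cases S.s with h | h
    · rw [S.relIndex_of_exists (S.inndiag_klein hN h), Nat.card_eq_fintype_card, Fintype.card_multiplicative,
        Fintype.card_prod, ZMod.card]
    · rw [S.relIndex_of_exists (S.inndiag_four hN h), Nat.card_eq_fintype_card, Fintype.card_multiplicative,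
        ZMod.card]
  have hle : Cfsg.Inn (Cfsg.POmega F (Cfsg.quadFormPlus m F)) ≤ Cfsg.inndiagPOmegaPlus m F := by
    rw [inndiag_plus_eq']; exact inn_le_proper _ _ hn
  set D := plusDesc m emb σ
  have hQD : ∀ x : Fin m ⊕ Fin m → F₀, plusForm F m (D.e (⇑emb ∘ x)) = emb (plusForm F₀ m x) := fun x => by
    rw [D.hQ, D.hemb]; exact one_mul _
  obtain ⟨ν, hν⟩ := FiniteField.exists_nonsquare (F := F₀) hq0
  have hν0 : ν ≠ 0 := fun h => hν (h ▸ IsSquare.zero)
  obtain ⟨c, hc⟩ := square_of_two hι hσ h2 ν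
  have hc0 : c ≠ 0 := fun h => hν0 (emb.injective (by rw [map_zero, hc, h, mul_zero]))
  have hm1 : IsSquare (-1 : F) := FiniteField.isSquare_neg_one_iff.2 (by omega)
  have hcs : IsSquare c ↔ ¬ Fintype.card F₀ % 4 = 1 := by
    have hσc : σ c = -c := by
      have h1 : σ c * σ c = c * c := by rw [← map_mul, ← hc]; exact (hι _).2 ⟨ν, rfl⟩
      rcases mul_self_eq_mul_self_iff.1 h1 with h | h
      · obtain ⟨d, rfl⟩ := (hι c).1 h
        exact absurd ⟨d, emb.injective (by rw [hc, map_mul])⟩ hν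
      · exact h
    rw [square_iff_norm hι hσ h2 hc0 (n := -ν) (by rw [map_neg, hc, hσc]; ring), show -ν = (-1) * ν by ring,
      Discr.isSquare_mul_nonsquare hq0 (neg_ne_zero.2 one_ne_zero) hν, FiniteField.isSquare_neg_one_iff, not_not]
    have := Nat.odd_iff.1 (odd_of_two_ne (F := F₀) h20)
    omega
  obtain ⟨B, hB, hBν⟩ := exists_plus_swap m hν0
  -- the base change of the swap is a product of pair reflections
  set L := (List.finRange m).map fun i => (Pi.single (Sum.inl i) c - Pi.single (Sum.inr i) 1 : Fin m ⊕ Fin m → F)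
    with hLdef
  have hLQ : ∀ a ∈ L, plusForm F m a ≠ 0 := by
    intro a ha
    obtain ⟨i, -, rfl⟩ := List.mem_map.1 ha
    rw [(refl_pair_vec m i c).1]
    exact neg_ne_zero.2 hc0
  have hbc : Φ (Cfsg.quadFormPlus m F) (D.bc (plusForm_apply m) (plusForm_apply m) B) =
      Φ (Cfsg.quadFormPlus m F) (ofOrth (Cfsg.quadFormPlus m F) (plusForm F m) (plusForm_apply m)
        (L.map (refl (plusForm F m))).prod) := by
    have key : ∀ v, lin (Cfsg.quadFormPlus m F) (D.bc (plusForm_apply m) (plusForm_apply m) B) v =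
        c • lin (Cfsg.quadFormPlus m F) (ofOrth (Cfsg.quadFormPlus m F) (plusForm F m) (plusForm_apply m)
          (L.map (refl (plusForm F m))).prod) v := by
      intro v
      have h := D.bc_apply (plusForm_apply m) (plusForm_apply m) B v
      rw [show D.e v = v from rfl] at h
      rw [h, lin_ofOrth, hLdef, prod_refl_pairs m (fun _ => c) (fun _ => hc0) _ (List.nodup_finRange _), hB]
      show (swapMat m ν).map emb *ᵥ v = _
      funext j
      rcases j with i | i
      · simp [swapMat, Matrix.fromBlocks_map, Matrix.fromBlocks_mulVec, Matrix.mulVec, dotProduct, Matrix.one_apply,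
          apply_ite emb, hc, mul_assoc]
      · simp [swapMat, Matrix.fromBlocks_map, Matrix.fromBlocks_mulVec, Matrix.mulVec, dotProduct, Matrix.one_apply,
          apply_ite emb, hc0]
    rw [← inv_mul_eq_one, ← map_inv, ← map_mul]
    refine MonoidHom.mem_ker.1 (POmegaAut.scalars_le_ker _ ⟨c⁻¹, Matrix.ext_iff_mulVec.2 fun v => ?_⟩)
    rw [← lin_apply, Matrix.smul_mulVec, Matrix.one_mulVec]
    apply (lin (Cfsg.quadFormPlus m F) (D.bc (plusForm_apply m) (plusForm_apply m) B)).injective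
    rw [map_smul, ← LinearEquiv.mul_apply, ← map_mul, mul_inv_cancel_left, key, inv_smul_smul₀ hc0]
  -- correct the parity
  let i : Fin m := ⟨0, by omega⟩
  obtain ⟨B₁, hB₁ν, M, hMQ, hMev, hM, hMsq⟩ : ∃ B₁ : GS (Cfsg.quadFormPlus m F₀),
      IsSimil (plusForm F₀ m) (lin (Cfsg.quadFormPlus m F₀) B₁) ν ∧ ∃ M : List (Fin m ⊕ Fin m → F),
      (∀ a ∈ M, plusForm F m a ≠ 0) ∧ Even M.length ∧
      Φ (Cfsg.quadFormPlus m F) (D.bc (plusForm_apply m) (plusForm_apply m) B₁) =
        Φ (Cfsg.quadFormPlus m F) (ofOrth (Cfsg.quadFormPlus m F) (plusForm F m) (plusForm_apply m)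
          (M.map (refl (plusForm F m))).prod) ∧
      (IsSquare (M.map fun a => plusForm F m a).prod ↔ ¬ (Odd m ∧ Fintype.card F₀ % 4 = 1)) := by
    have hval : (L.map fun a => plusForm F m a).prod = (-c) ^ m := by
      rw [hLdef, List.map_map, show ((fun a => plusForm F m a) ∘ fun i =>
          (Pi.single (Sum.inl i) c - Pi.single (Sum.inr i) 1 : Fin m ⊕ Fin m → F)) = fun _ => -c from
          funext fun i => (refl_pair_vec m i c).1, List.map_const', List.prod_replicate, List.length_finRange]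
    rcases Nat.even_or_odd m with he | ho
    · refine ⟨B, hBν, L, hLQ, by simpa [hLdef] using he, hbc, ?_⟩
      rw [hval, iff_true_right fun h => Nat.not_even_iff_odd.2 h.1 he]
      exact he.isSquare_pow _
    · refine ⟨B * ofOrth (Cfsg.quadFormPlus m F₀) (plusForm F₀ m) (plusForm_apply m)
        (refl (plusForm F₀ m) (unitPair m i)), fun v => ?_, L ++ [D.e (⇑emb ∘ unitPair m i)], ?_, ?_, ?_, ?_⟩
      · rw [map_mul, LinearEquiv.mul_apply, hBν, lin_ofOrth, apply_quad]
      · intro x hx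
        rcases List.mem_append.1 hx with hx | hx
        · exact hLQ x hx
        · rw [List.mem_singleton.1 hx, hQD, unitPair_value, map_one]; exact one_ne_zero
      · simpa [hLdef, Nat.even_add_one] using ho
      · rw [map_mul (D.bc _ _), map_mul, hbc, D.bc_refl, ← map_mul, ← map_mul]
        simp
      · have hv : ((L ++ [D.e (⇑emb ∘ unitPair m i)]).map fun a => plusForm F m a).prod = (-c) ^ m := by
          simp only [List.map_append, List.prod_append, List.map_cons, List.map_nil, List.prod_cons, List.prod_nil,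
            hQD, unitPair_value, map_one, mul_one, hval]
        rw [hv, and_iff_right ho, ← hcs]
        obtain ⟨j, rfl⟩ := ho
        obtain ⟨w, hw⟩ := hm1
        have hw0 : w ≠ 0 := fun h => by rw [h, mul_zero] at hw; exact one_ne_zero (neg_eq_zero.1 hw)
        rw [show (-c) ^ (2 * j + 1) = (w * c ^ j) * (w * c ^ j) * c by
          rw [pow_succ, pow_mul, neg_sq, ← pow_mul, two_mul, pow_add, neg_eq_neg_one_mul c, hw]; ring]
        exact square_cancel (mul_ne_zero hw0 (pow_ne_zero _ hc0))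
  have hB₁p : B₁ ∈ properSub (plusForm F₀ m) (plusForm_apply m) m :=
    (D.bc_proper (plusForm_apply m) (plusForm_apply m) hn hn B₁).1
      ((proper_congr _ _ hn hM).2 ((prod_refl_proper _ _ hn M hMQ).2 hMev))
  set g₁ := Φ (Cfsg.quadFormPlus m F) (D.bc (plusForm_apply m) (plusForm_apply m) B₁) with hg₁
  have key : ∀ B : GS (Cfsg.quadFormPlus m F₀), B ∈ properSub (plusForm F₀ m) (plusForm_apply m) m →
      IsSquare (S₀.mult B) → Φ (Cfsg.quadFormPlus m F) (D.bc (plusForm_apply m) (plusForm_apply m) B) ∈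
        Cfsg.Inn (Cfsg.POmega F (Cfsg.quadFormPlus m F)) := by
    intro B hB hsq
    obtain ⟨L₀, hL₀, hev, e⟩ := proper_sq_list S₀ hn hB hsq
    have e' : Φ (Cfsg.quadFormPlus m F) (D.bc (plusForm_apply m) (plusForm_apply m) B) =
        Φ (Cfsg.quadFormPlus m F) (D.bc (plusForm_apply m) (plusForm_apply m)
          (ofOrth (Cfsg.quadFormPlus m F₀) (plusForm F₀ m) (plusForm_apply m) (L₀.map (refl (plusForm F₀ m))).prod)) := by
      rw [← inv_mul_eq_one, ← map_inv, ← map_mul, ← map_inv, ← map_mul, D.bc_phi_one, map_mul, map_inv, e]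
      exact inv_mul_cancel _
    rw [e', D.bc_prod_refl]
    refine refl_prod_inn _ _ h2 ?_ (by simpa using hev) (isSquare_list_prod _ ?_)
    · intro a ha
      obtain ⟨b, hb, rfl⟩ := List.mem_map.1 ha
      rw [hQD]; exact (map_ne_zero emb).2 (hL₀ b hb)
    · intro a ha
      rw [List.map_map] at ha
      obtain ⟨b, hb, rfl⟩ := List.mem_map.1 ha
      show IsSquare (plusForm F m (D.e (⇑emb ∘ b)))
      rw [hQD]; exact square_of_two hι hσ h2 _
  set C := Cfsg.inndiagPOmegaPlus m F ⊓ Subgroup.centralizer {φ} with hCdef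
  have hg₁C : g₁ ∈ C := by
    rw [hCdef, inndiag_plus_eq']
    exact ⟨⟨_, (D.bc_proper _ _ hn hn B₁).2 hB₁p, rfl⟩, Subgroup.mem_centralizer_singleton_iff.2
      (D.bc_commute _ _ (fun y => (hι _).2 ⟨y, rfl⟩) hφ B₁)⟩
  have hC : ∀ y ∈ C, y ∈ Cfsg.Inn (Cfsg.POmega F (Cfsg.quadFormPlus m F)) ∨
      y * g₁ ∈ Cfsg.Inn (Cfsg.POmega F (Cfsg.quadFormPlus m F)) := by
    intro y hy
    rw [hCdef, inndiag_plus_eq'] at hy
    obtain ⟨⟨g, hg, rfl⟩, hyc⟩ := hy
    obtain ⟨B, hB⟩ := D.exists_bc (plusForm_apply m) (plusForm_apply m) hι hφ g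
      (Subgroup.mem_centralizer_singleton_iff.1 hyc)
    have hBp := (D.bc_proper (plusForm_apply m) (plusForm_apply m) hn hn B).1 ((proper_congr _ _ hn hB).2 hg)
    rw [← hB]
    by_cases hsqB : IsSquare (S₀.mult B)
    · exact Or.inl (key B hBp hsqB)
    refine Or.inr ?_
    rw [hg₁, ← map_mul, ← map_mul]
    refine key _ (mul_mem hBp hB₁p) ?_
    rw [map_mul, S₀.mult_of B₁ hB₁ν]
    exact (Discr.isSquare_mul_nonsquare hq0 (S₀.mult_ne B) hν).2 hsqB
  have hiff : g₁ ∈ Cfsg.Inn (Cfsg.POmega F (Cfsg.quadFormPlus m F)) ↔ ¬ (Odd m ∧ Fintype.card F₀ % 4 = 1) := by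
    rw [hM]
    exact (refl_prod_mem_inn S hN M hMQ).trans ((and_iff_right hMev).trans hMsq)
  rw [POmegaAut.splitClassCount_eq _ _ hle]
  split_ifs with hcond
  · have hmul := Subgroup.relIndex_mul_relIndex (Cfsg.Inn (Cfsg.POmega F (Cfsg.quadFormPlus m F)))
      (Cfsg.Inn (Cfsg.POmega F (Cfsg.quadFormPlus m F)) ⊔ C) (Cfsg.inndiagPOmegaPlus m F) le_sup_left
      (sup_le hle inf_le_left)
    rw [h4, relIndex_sup_two hg₁C (fun h => hiff.1 h hcond) hC] at hmul
    exact Nat.eq_of_mul_eq_mul_left two_pos hmul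
  · have hle' : C ≤ Cfsg.Inn (Cfsg.POmega F (Cfsg.quadFormPlus m F)) := fun y hy =>
      (hC y hy).elim id fun h => (Subgroup.mul_mem_cancel_right _ (hiff.2 hcond)).1 h
    rw [sup_eq_left.2 hle']
    exact h4

end CfsgLib.KnownC.AutPOmega
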