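import Cfsg.Agent.Lib.KnownC.AutPOmega.FieldPlusStd

/-!
# The inner-diagonal group in dimension eight is normal

A diagonal similitude multiplies the root elements of the fundamental roots by scalars, so the diagonal classes of
the Chevalley group land in the inner-diagonal group; they form a normal subgroup of the same index.
-/

set_option autoImplicit false
set_option linter.unusedSectionVars false
set_option linter.style.haveILetI false

open Module QuadraticMap
open scoped Matrix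

namespace CfsgLib.Chevalley.Natural

variable {D : RepData} {ι : Type} [Fintype ι] [DecidableEq ι] (e : Fin D.n ≃ ι) {F : Type*} [Field F]

/-- A diagonal matrix moving a linear root matrix to another parameter. -/
theorem diagonal_mul_xM (d : ι → F) (χ : F) (r : ℕ) (t : F)
    (hrow : ∀ x ∈ D.dat r, x.1 = 1 ∧ ∀ (ha : x.2.1 < D.n) (hb : x.2.2.1 < D.n),
      d (e ⟨x.2.1, ha⟩) = χ * d (e ⟨x.2.2.1, hb⟩)) :
    Matrix.diagonal d * xM e r t = xM e r (χ * t) * Matrix.diagonal d := by
  rw [xM, xM, RepData.xP, ev_append, ev_append, ev_pid, ev_pid, mul_add, add_mul, mul_one, one_mul]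
  congr 1
  rw [ev, ev, List.map_map, List.map_map, ← List.sum_map_mul_left, ← List.sum_map_mul_right]
  refine congrArg List.sum (List.map_congr_left fun x hx => ?_)
  obtain ⟨h1, hd⟩ := hrow x hx
  simp only [Function.comp_apply, evT, h1, mul_one, mul_zero, pow_zero, pow_one, one_pow, Matrix.mul_smul,
    Matrix.smul_mul]
  unfold unitM
  split_ifs with h
  · ext i j
    rw [Matrix.smul_apply, Matrix.smul_apply, Matrix.diagonal_mul, Matrix.mul_diagonal, Matrix.single_apply]
    split_ifs with hij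
    · obtain ⟨rfl, rfl⟩ := hij
      rw [hd h.1 h.2, smul_eq_mul, smul_eq_mul]
      ring
    · simp
  · simp

end CfsgLib.Chevalley.Natural

namespace CfsgLib.KnownC.AutPOmega

open CfsgLib.Orth CfsgLib.Classical CfsgLib.Chevalley CfsgLib.Chevalley.Natural
open CfsgLib.KnownB.Aut CfsgLib.KnownB.Aut.D4Out
open CfsgLib.KnownC.POmegaAut (GS Φ lin lin_apply IsSemiInduced inn_eq induced_iff)

universe u

/-- The exponents of the node values in the diagonal similitude, coordinate by coordinate. -/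
def dexp (a k : ℕ) : ℤ :=
  (([[1, 1, 1, 0], [0, 1, 1, 0], [0, 0, 1, 0], [0, 0, 0, 0],
    [-1, -1, 0, -1], [0, -1, 0, -1], [0, 0, 0, -1], [0, 0, 1, -1]] : List (List ℤ)).getD a []).getD k 0

/-- The exponents of its multiplier. -/
def wexp (k : ℕ) : ℤ := ([0, 0, 1, -1] : List ℤ).getD k 0

theorem dexp_simple : ∀ i : Node,
    ((natD4.dat (Data.D4.tbl.simple i.val)).all fun x => decide (x.1 = 1 ∧ ∀ k : Node,
      dexp x.2.1 k.val = dexp x.2.2.1 k.val + if k = i then 1 else 0)) = true ∧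
    ((natD4.dat (Data.D4.tbl.neg (Data.D4.tbl.simple i.val))).all fun x => decide (x.1 = 1 ∧ ∀ k : Node,
      dexp x.2.1 k.val = dexp x.2.2.1 k.val + if k = i then -1 else 0)) = true := by decide +kernel

theorem dexp_pair : ∀ (j : Fin 4) (k : Node),
    dexp (eD4.symm (Sum.inl j)).val k.val + dexp (eD4.symm (Sum.inr j)).val k.val = wexp k.val := by decide +kernel

variable {F : Type u} [Field F] [Fintype F]

/-- The value of an exponent vector. -/
def nodeProd (c : Node → Fˣ) (E : ℕ → ℤ) : Fˣ := ∏ k : Node, c k ^ E k.val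

theorem nodeProd_shift (c : Node → Fˣ) {E E' : ℕ → ℤ} {i : Node} {ε : ℤ}
    (h : ∀ k : Node, E k.val = E' k.val + if k = i then ε else 0) :
    nodeProd c E = c i ^ ε * nodeProd c E' := by
  simp only [nodeProd]
  rw [Finset.prod_congr rfl fun k _ => show c k ^ E k.val = c k ^ (if k = i then ε else 0) * c k ^ E' k.val by
      rw [← zpow_add, h k, add_comm],
    Finset.prod_mul_distrib, Finset.prod_eq_single i (fun k _ hk => by rw [if_neg hk, zpow_zero]) (by simp),
    if_pos rfl]

/-- The diagonal similitude with given node values. -/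
theorem exists_diag_similitude (c : Node → Fˣ) :
    ∃ (g : GS (Cfsg.quadFormPlus 4 F)) (μ : F),
      IsSimil (plusForm F 4) (lin (Cfsg.quadFormPlus 4 F) g) μ ∧
      (g.1 : Matrix (Fin 4 ⊕ Fin 4) (Fin 4 ⊕ Fin 4) F).det = μ ^ 4 ∧
      ∀ (i : Node) (t : F),
        ((g.1 : Matrix (Fin 4 ⊕ Fin 4) (Fin 4 ⊕ Fin 4) F) * xM eD4 (Data.D4.tbl.simple i.val) t =
          xM eD4 (Data.D4.tbl.simple i.val) ((c i : F) * t) * g.1) ∧
        ((g.1 : Matrix (Fin 4 ⊕ Fin 4) (Fin 4 ⊕ Fin 4) F) * xM eD4 (Data.D4.tbl.neg (Data.D4.tbl.simple i.val)) t =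
          xM eD4 (Data.D4.tbl.neg (Data.D4.tbl.simple i.val)) (((c i)⁻¹ : Fˣ) * t) * g.1) := by
  set d : Fin 4 ⊕ Fin 4 → F := fun x => (nodeProd c (dexp (eD4.symm x).val) : F) with hddef
  set ν : Fˣ := nodeProd c wexp
  have hpair : ∀ j : Fin 4, d (Sum.inl j) * d (Sum.inr j) = ν := fun j => by
    simp only [hddef, ← Units.val_mul, nodeProd, ν, ← Finset.prod_mul_distrib, ← zpow_add, dexp_pair]
  have hd0 : ∀ x, d x ≠ 0 := fun x => Units.ne_zero _
  have hdet : (Matrix.diagonal d).det = (ν : F) ^ 4 := by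
    rw [Matrix.det_diagonal, Fintype.prod_sum_type, ← Finset.prod_mul_distrib,
      Finset.prod_congr rfl fun j _ => hpair j, Finset.prod_const, Finset.card_univ, Fintype.card_fin]
  have hsim : ∀ v, Cfsg.quadFormPlus 4 F (Matrix.diagonal d *ᵥ v) = (ν : F) * Cfsg.quadFormPlus 4 F v := fun v => by
    simp only [Cfsg.quadFormPlus, Matrix.mulVec_diagonal, Finset.mul_sum]
    refine Finset.sum_congr rfl fun j _ => ?_
    rw [← hpair j]; ring
  refine ⟨⟨Matrix.GeneralLinearGroup.mkOfDetNeZero (Matrix.diagonal d)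
    (by rw [hdet]; exact pow_ne_zero _ ν.ne_zero), ν, hsim⟩, ν, fun v => ?_, hdet, fun i t => ?_⟩
  · rw [lin_apply, ← plusForm_apply, ← plusForm_apply]
    exact hsim v
  have key : ∀ (r : ℕ) (ε : ℤ), ((natD4.dat r).all fun x => decide (x.1 = 1 ∧ ∀ k : Node,
      dexp x.2.1 k.val = dexp x.2.2.1 k.val + if k = i then ε else 0)) = true →
      Matrix.diagonal d * xM eD4 r t = xM eD4 r (((c i ^ ε : Fˣ) : F) * t) * Matrix.diagonal d := by
    intro r ε hall
    refine diagonal_mul_xM eD4 d _ r t fun x hx => ?_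
    obtain ⟨h1, h2⟩ := of_decide_eq_true (List.all_eq_true.1 hall x hx)
    refine ⟨h1, fun ha hb => ?_⟩
    show ((nodeProd c (dexp (eD4.symm (eD4 ⟨x.2.1, ha⟩)).val) : Fˣ) : F) =
      _ * ((nodeProd c (dexp (eD4.symm (eD4 ⟨x.2.2.1, hb⟩)).val) : Fˣ) : F)
    rw [Equiv.symm_apply_apply, Equiv.symm_apply_apply, ← Units.val_mul,
      nodeProd_shift c (E' := dexp x.2.2.1) (i := i) (ε := ε) h2]
  refine ⟨?_, ?_⟩
  · have h := key _ 1 (dexp_simple i).1
    rw [zpow_one] at h
    exact h
  · have h := key _ (-1) (dexp_simple i).2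
    rw [zpow_neg_one] at h
    exact h

/-- An automorphism of an isomorphic group acting on the fundamental root elements as a diagonal automorphism. -/
theorem congr_eq_of_root {T : Tbl} (hT : T.Valid) {H : Type*} [Group H] (E : ↥(T.datum.group F) ≃* H)
    (c : Fin T.rank → Fˣ) (Ψ : MulAut H)
    (h : ∀ i t, Ψ (E (xG hT (T.simpF hT i) t)) = E (xG hT (T.simpF hT i) ((c i : F) * t)) ∧
      Ψ (E (xG hT (T.negF (T.simpF hT i)) t)) = E (xG hT (T.negF (T.simpF hT i)) (((c i)⁻¹ : Fˣ) * t))) :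
    MulAut.congr E (diagHom hT c) = Ψ := by
  let θ : MulAut ↥(T.datum.group F) := (E.trans Ψ).trans E.symm
  have hval : ∀ x, θ x = E.symm (Ψ (E x)) := fun _ => rfl
  have hθ : θ = diagHom hT c := by
    refine aut_ext hT fun i t => ?_
    rw [(diagHom_x hT c i t).1, (diagHom_x hT c i t).2, hval, hval, (h i t).1, (h i t).2, E.symm_apply_apply,
      E.symm_apply_apply]
    exact ⟨rfl, rfl⟩
  refine MulEquiv.ext fun y => ?_
  show E (diagHom hT c (E.symm y)) = Ψ y
  rw [← hθ, hval, E.apply_symm_apply, E.apply_symm_apply]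

theorem congr_inn {G H : Type*} [Group G] [Group H] (e : G ≃* H) :
    (Cfsg.Inn G).map (MulAut.congr e).toMonoidHom = Cfsg.Inn H := by
  have h : ∀ x, MulAut.congr e (MulAut.conj x) = MulAut.conj (e x) := fun x => MulEquiv.ext fun y => by
    show e (MulAut.conj x (e.symm y)) = _
    simp [MulAut.conj_apply]
  ext α
  constructor
  · rintro ⟨_, ⟨x, rfl⟩, rfl⟩
    exact ⟨e x, (h x).symm⟩
  · rintro ⟨y, rfl⟩
    exact ⟨_, ⟨e.symm y, rfl⟩, (h _).trans (by rw [MulEquiv.apply_symm_apply])⟩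

/-- A diagonal automorphism of the Chevalley group is, on `PΩ⁺₈`, induced by a proper similitude. -/
theorem diag_transport (h2 : (2 : F) ≠ 0)
    {E : ↥(Data.D4.tbl.datum.group F) ≃* Cfsg.POmega F (Cfsg.quadFormPlus 4 F)}
    (hE : ∀ r < Data.D4.tbl.n, ∀ (t : F) (g : ↥(Data.D4.tbl.datum.group F)),
      (g : GL Data.D4.tbl.I F) = Data.D4.tbl.xU F r t → ∃ s : ↥(Cfsg.Omega F (Cfsg.quadFormPlus 4 F)),
        ((s.1 : GL (Fin 4 ⊕ Fin 4) F) : Matrix (Fin 4 ⊕ Fin 4) (Fin 4 ⊕ Fin 4) F) = xM eD4 r t ∧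
          E g = QuotientGroup.mk s) (c : Node → Fˣ) :
    MulAut.congr E (diagHom Data.D4.valid c) ∈ Cfsg.inndiagPOmegaPlus 4 F := by
  haveI := octx0_plus (F := F) (m := 4) le_rfl
  obtain ⟨g, μ, hμ, hdet, hconj⟩ := exists_diag_similitude c
  rw [inndiag_plus_eq']
  refine ⟨g, (mem_proper_odd _ _ h2 g hμ).2 hdet, ?_⟩
  -- compare on the root elements of the fundamental roots
  have key : ∀ (r : Fin Data.D4.tbl.n) (t t' : F),
      ((g.1 : Matrix (Fin 4 ⊕ Fin 4) (Fin 4 ⊕ Fin 4) F) * xM eD4 r.val t = xM eD4 r.val t' * g.1) →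
      Φ (Cfsg.quadFormPlus 4 F) g (E (xG Data.D4.valid r t)) = E (xG Data.D4.valid r t') := by
    intro r t t' h
    obtain ⟨s, hs, es⟩ := hE r.val r.2 t (xG Data.D4.valid r t) rfl
    obtain ⟨s', hs', es'⟩ := hE r.val r.2 t' (xG Data.D4.valid r t') rfl
    rw [es, es']
    refine (gs_induced g).2 s s' ?_
    rw [hs', show (((s.1 : GL (Fin 4 ⊕ Fin 4) F) : Matrix (Fin 4 ⊕ Fin 4) (Fin 4 ⊕ Fin 4) F)).map
        (RingEquiv.refl F) = xM eD4 r.val t from (Matrix.ext fun _ _ => rfl).trans hs, h, mul_assoc, Units.mul_inv,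
      mul_one]
  exact (congr_eq_of_root Data.D4.valid E c _ fun i t =>
    ⟨key _ t _ (hconj i t).1, key _ t _ (hconj i t).2⟩).symm

/-- The inner-diagonal group of `PΩ⁺₈` is normal in the automorphism group. -/
theorem inndiag_four_normal : (Cfsg.inndiagPOmegaPlus 4 F).Normal := by
  classical
  haveI := octx0_plus (F := F) (m := 4) le_rfl
  have hn := card_plus_index 4
  haveI hI := POmegaAut.inn_normal (Cfsg.POmega F (Cfsg.quadFormPlus 4 F))
  have hle : Cfsg.Inn (Cfsg.POmega F (Cfsg.quadFormPlus 4 F)) ≤ Cfsg.inndiagPOmegaPlus 4 F := by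
    rw [inndiag_plus_eq']; exact inn_le_proper _ _ hn
  by_cases h2 : (2 : F) = 0
  · have e : Cfsg.inndiagPOmegaPlus 4 F = Cfsg.Inn (Cfsg.POmega F (Cfsg.quadFormPlus 4 F)) := by
      refine le_antisymm ?_ hle
      rw [inndiag_plus_eq']
      rintro _ ⟨g, hg, rfl⟩
      exact (mem_proper_two _ _ h2 g).1 hg
    rw [e]
    exact hI
  obtain ⟨p, hcp⟩ := CharP.exists F
  haveI : Fact p.Prime := ⟨CharP.char_is_prime F p⟩
  have hp2 : p ≠ 2 := fun h => h2 (by subst h; exact CharTwo.two_eq_zero)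
  obtain ⟨f, -, hF⟩ := FiniteField.card F p
  obtain ⟨E, hE⟩ := pomega_D4_spec (F := F)
  obtain ⟨-, hker, -⟩ := D4Out.out_odd (F := F) p hF hp2
  haveI := diagNS_normal (F := F) Data.D4.valid Data.D4.chkComm diagD4
  set X := (diagNS (F := F) Data.D4.valid).range.map (toOut Data.D4.tbl F) with hXdef
  haveI hXn : X.Normal := Subgroup.Normal.map inferInstance _ (toOut_surjective Data.D4.valid Data.D4.chkComm)
  set q := QuotientGroup.mk' (Cfsg.Inn ↥(Data.D4.tbl.datum.group F))
  set S := (X.comap q).map (MulAut.congr E).toMonoidHom with hSdef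
  have hSn : S.Normal := Subgroup.Normal.map (Subgroup.Normal.comap hXn q) _ (MulAut.congr E).surjective
  have hSG : S ≤ Cfsg.inndiagPOmegaPlus 4 F := by
    rintro _ ⟨θ, ⟨d, ⟨c, rfl⟩, hd⟩, rfl⟩
    have hi : (diagHom Data.D4.valid c)⁻¹ * θ ∈ Cfsg.Inn ↥(Data.D4.tbl.datum.group F) := QuotientGroup.eq.1 hd
    have hi' := Subgroup.mem_map_of_mem (MulAut.congr E).toMonoidHom hi
    rw [congr_inn] at hi'
    have h := mul_mem (diag_transport h2 hE c) (hle hi')
    rw [MulEquiv.coe_toMonoidHom, map_mul, map_inv, mul_inv_cancel_left] at h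
    exact h
  have hIS : Cfsg.Inn (Cfsg.POmega F (Cfsg.quadFormPlus 4 F)) ≤ S := by
    rw [← congr_inn E, hSdef]
    exact Subgroup.map_mono fun x hx => by
      rw [Subgroup.mem_comap, show q x = 1 from (QuotientGroup.eq_one_iff x).2 hx]
      exact one_mem _
  have h4S : 4 ≤ (Cfsg.Inn (Cfsg.POmega F (Cfsg.quadFormPlus 4 F))).relIndex S := by
    rw [← congr_inn E, hSdef, Subgroup.relIndex_map_map_of_injective _ _ (MulAut.congr E).injective,
      show (Cfsg.Inn ↥(Data.D4.tbl.datum.group F)).relIndex (X.comap q) = q.ker.relIndex (X.comap q) by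
        rw [QuotientGroup.ker_mk'],
      Subgroup.relIndex_ker,
      Subgroup.map_comap_eq_self_of_surjective (QuotientGroup.mk'_surjective _)]
    have hodd : Odd (Fintype.card F) := odd_of_two_ne h2
    choose cl hcl using fun k : Node => exists_class (F := F) hodd k
    let f4 : Node → X := fun k => ⟨toOut Data.D4.tbl F (diagNS Data.D4.valid (cl k)), _, ⟨cl k, rfl⟩, rfl⟩
    have hinj : Function.Injective f4 := by
      intro k k' h
      have hk : (diagNS Data.D4.valid (cl k))⁻¹ * diagNS Data.D4.valid (cl k') ∈ (psi (F := F) p).ker := by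
        rw [hker, MonoidHom.mem_ker, map_mul, map_inv,
          show toOut Data.D4.tbl F (diagNS Data.D4.valid (cl k)) = toOut Data.D4.tbl F (diagNS Data.D4.valid (cl k'))
            from congrArg Subtype.val h, inv_mul_cancel]
      rw [MonoidHom.mem_ker, map_mul, map_inv, inv_mul_eq_one,
        psi_eq p (θ := diagNS Data.D4.valid (cl k)) (acts_diag Data.D4.valid diagD4 p (cl k)),
        psi_eq p (θ := diagNS Data.D4.valid (cl k')) (acts_diag Data.D4.valid diagD4 p (cl k')), hcl, hcl, one_mul,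
        one_mul] at hk
      have h1 := congrArg (fun π : Equiv.Perm Node => π n1) (congrArg Prod.fst hk)
      have key : ∀ a : Node, kadd a n1 = a := by decide +kernel
      simpa [tr, key] using h1
    have := Nat.card_le_card_of_injective f4 hinj
    rw [Nat.card_eq_fintype_card (α := Node), node_card] at this
    exact this
  obtain ⟨D, hneg, hε, heq⟩ := POmegaAut.plus_setup (F := F) (m := 4) (odd_of_two_ne h2) (by omega)
  have hN : D.negOne ∈ commutator (orthGroup (plusForm F 4)) := hneg.2 fun h => by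
    exact absurd h.1 (by decide)
  have h4 : (Cfsg.Inn (Cfsg.POmega F (Cfsg.quadFormPlus 4 F))).relIndex (Cfsg.inndiagPOmegaPlus 4 F) = 4 := by
    rw [heq, D.relIndex_of_exists (D.inndiag_klein hN (by rw [hε]; norm_num)), Nat.card_eq_fintype_card,
      Fintype.card_multiplicative, Fintype.card_prod, ZMod.card]
  have hmul := Subgroup.relIndex_mul_relIndex _ S (Cfsg.inndiagPOmegaPlus 4 F) hIS hSG
  rw [h4] at hmul
  have h1 : S.relIndex (Cfsg.inndiagPOmegaPlus 4 F) = 1 := by
    have hle4 : S.relIndex (Cfsg.inndiagPOmegaPlus 4 F) * 4 ≤ 4 := by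
      calc _ ≤ S.relIndex (Cfsg.inndiagPOmegaPlus 4 F) *
            (Cfsg.Inn (Cfsg.POmega F (Cfsg.quadFormPlus 4 F))).relIndex S := Nat.mul_le_mul_left _ h4S
        _ = 4 := by rw [mul_comm]; exact hmul
    rcases Nat.eq_zero_or_pos (S.relIndex (Cfsg.inndiagPOmegaPlus 4 F)) with h | h
    · rw [h, mul_zero] at hmul; omega
    · omega
  rw [← le_antisymm hSG (Subgroup.relIndex_eq_one.1 h1)]
  exact hSn

end CfsgLib.KnownC.AutPOmega
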