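import Cfsg.Agent.Lib.KnownC.AutPOmega.Parity
import Cfsg.Agent.Lib.KnownC.POmegaStd
import Cfsg.Agent.Lib.KnownC.PlusTools

/-!
# The inner-diagonal groups of the even-dimensional groups are the proper similitudes
-/

set_option autoImplicit false
set_option linter.unusedSectionVars false
set_option linter.style.haveILetI false

open Module QuadraticMap
open scoped Matrix

namespace CfsgLib.KnownC.AutPOmega

open CfsgLib.Orth CfsgLib.Classical
open CfsgLib.KnownC.POmegaAut (GS Φ lin lin_apply ofOrth lin_ofOrth induced_iff closure_eq_map two_ne_of_odd)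

universe u

/-- The parity classes in characteristic two, for a hyperbolic form. -/
theorem preserves_iff_two {K : Type*} [Field K] [Fintype K] [CharP K 2] {ι : Type} [Fintype ι] [DecidableEq ι]
    {Q : QuadraticForm K (ι → K)} {Qf : (ι → K) → K} (hQf : ∀ v, Qf v = Q v)
    (hQ : (QuadraticMap.polarBilin Q).Nondegenerate) (h4 : Good K (ι → K)) {U₀ : Submodule K (ι → K)}
    (hU₀ : IsLagrangian Q U₀) {c : K} (hc : c ≠ 0) (L : List (ι → K)) (hL : ∀ a ∈ L, Q a ≠ 0) :
    Cfsg.PreservesSingularClasses Qf (c • matOf Q (L.map (refl Q)).prod) ↔ Even L.length := by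
  classical
  set g := (L.map (refl Q)).prod with hg
  have hmax : ∀ U, Cfsg.IsMaxTotallySingular Qf U ↔ IsLagrangian Q U := fun U => by
    rw [← max_singular_iff hQ h4 hU₀ U, funext hQf |> fun h => h]
    rfl
  have himg : ∀ U : Submodule K (ι → K), Cfsg.imageSubmodule (c • matOf Q g) U = U.map (g.1 : (ι → K) →ₗ[K] (ι → K)) := by
    intro U
    rw [Cfsg.imageSubmodule, map_smul, Submodule.map_smul _ _ c hc]
    congr 1
    exact LinearMap.ext fun v => matOf_mulVec Q g v
  obtain ⟨κ, hκ⟩ := exists_dickson Q hQ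
  have hlen : κ g = Multiplicative.ofAdd 1 ^ L.length := by
    rw [hg]
    clear hg g himg
    induction L with
    | nil => simp
    | cons a L ih =>
      rw [List.map_cons, List.prod_cons, map_mul, hκ a (hL a List.mem_cons_self),
        ih (fun b hb => hL b (List.mem_cons_of_mem a hb)), List.length_cons, pow_succ']
  have hpar : ∀ i : ℕ, (Multiplicative.ofAdd (1 : K)) ^ i = 1 ↔ Even i := fun i => by
    rw [← ofAdd_nsmul, nsmul_one, ofAdd_eq_one, CharP.cast_eq_zero_iff K 2, even_iff_two_dvd]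
  have key : ∀ U, IsLagrangian Q U → (Even (lagDist U (U.map (g.1 : (ι → K) →ₗ[K] (ι → K)))) ↔ Even L.length) := by
    intro U hU
    have h := char_eq_pow_lagDist hQ h4 κ (ε := Multiplicative.ofAdd 1)
      (by rw [← ofAdd_add, CharTwo.add_self_eq_zero]; rfl) hκ hU g
    rw [hlen] at h
    rw [← hpar, ← hpar, h]
  constructor
  · intro h
    have h' := h U₀ ((hmax U₀).2 hU₀)
    rw [Cfsg.SameParityClass, himg] at h'
    exact (key U₀ hU₀).1 h'
  · intro h U hU
    rw [Cfsg.SameParityClass, himg]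
    exact (key U ((hmax U).1 hU)).2 h

variable {F : Type u} [Field F] [Fintype F]

theorem card_plus_index (m : ℕ) : Fintype.card (Fin m ⊕ Fin m) = 2 * m := by simp; omega

theorem card_minus_index (m : ℕ) : Fintype.card ((Fin m ⊕ Fin m) ⊕ Fin 2) = 2 * (m + 1) := by simp; omega

theorem odd_of_two_ne (h : (2 : F) ≠ 0) : Odd (Fintype.card F) :=
  Nat.odd_iff.2 (FiniteField.odd_card_of_char_ne_two fun hc => by
    haveI : CharP F 2 := ringChar.eq_iff.1 hc
    exact h CharTwo.two_eq_zero)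

theorem proper_two_list {ι : Type} [Fintype ι] [DecidableEq ι] {Qf : (ι → F) → F} (Q : QuadraticForm F (ι → F))
    (hQf : ∀ v, Qf v = Q v) [hQ : OCtx0 Q] {n : ℕ} (hn : Fintype.card ι = 2 * n) (h2 : (2 : F) = 0) (g : GS Qf) :
    ∃ (c : F) (L : List (ι → F)), c ≠ 0 ∧ (∀ a ∈ L, Q a ≠ 0) ∧
      (g.1 : Matrix ι ι F) = c • matOf Q (L.map (refl Q)).prod ∧ (g ∈ properSub Q hQf n ↔ Even L.length) := by
  obtain ⟨k, hk, c, hc, hgk⟩ := exists_orth_of_two Q hQf h2 g
  obtain ⟨L, hL, rfl⟩ := exists_refl_list hQ.nd (good (Q := Q)) k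
  refine ⟨c, L, hc, hL, hgk, ?_⟩
  rw [mem_proper_two Q hQf h2, hk, ← mem_proper_two Q hQf h2 (n := n), prod_refl_proper Q hQf hn L hL]

theorem preserves_plus' {m : ℕ} [hQ : OCtx0 (plusForm F m)] (g : GS (Cfsg.quadFormPlus m F)) :
    Cfsg.PreservesSingularClasses (Cfsg.quadFormPlus m F) (g.1 : Matrix (Fin m ⊕ Fin m) (Fin m ⊕ Fin m) F) ↔
      g ∈ properSub (plusForm F m) (plusForm_apply m) m := by
  by_cases h2 : (2 : F) = 0
  swap
  · obtain ⟨μ, hμ0, hμ⟩ := POmegaAut.exists_mult (Cfsg.quadFormPlus m F) (plusForm F m) (plusForm_apply m) g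
    rw [mem_proper_odd _ _ h2 g hμ]
    exact POmegaAut.preserves_iff h2 (plusForm_apply m) (LinearEquiv.refl F _) (fun v => rfl) hμ0 _
      (fun v => by rw [← lin_apply]; exact hμ v) ((Matrix.isUnit_iff_isUnit_det _).1 g.1.isUnit).ne_zero
  haveI := charTwo_of_zero h2
  obtain ⟨c, L, hc, hL, e, hiff⟩ := proper_two_list (plusForm F m) (plusForm_apply m) (card_plus_index m) h2 g
  rw [hiff, e]
  exact preserves_iff_two (plusForm_apply m) hQ.nd (good (Q := plusForm F m)) (POmegaAut.exists_adapted (LinearEquiv.refl F _) (fun _ => rfl) one_ne_zero (Q := plusForm F m) (n := m)).choose_spec.choose_spec.1 hc L hL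

theorem preserves_plus {m : ℕ} (_hm : 5 ≤ m) [hQ : OCtx0 (plusForm F m)] (g : GS (Cfsg.quadFormPlus m F)) :
    Cfsg.PreservesSingularClasses (Cfsg.quadFormPlus m F) (g.1 : Matrix (Fin m ⊕ Fin m) (Fin m ⊕ Fin m) F) ↔
      g ∈ properSub (plusForm F m) (plusForm_apply m) m := preserves_plus' g

theorem inndiag_plus_eq' {m : ℕ} [hQ : OCtx0 (plusForm F m)] :
    Cfsg.inndiagPOmegaPlus m F = (properSub (plusForm F m) (plusForm_apply m) m).map (Φ (Cfsg.quadFormPlus m F)) := by
  refine closure_eq_map _ _ _ fun β => ?_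
  exact ⟨fun ⟨g, hg, hP', hi⟩ => ⟨⟨g, hg⟩, (preserves_plus' ⟨g, hg⟩).1 hP', (induced_iff _ ⟨g, hg⟩ β).1 hi⟩,
    fun ⟨g, hg, hi⟩ => ⟨g.1, g.2, (preserves_plus' g).2 hg, (induced_iff _ g β).2 hi⟩⟩

theorem inndiag_plus_eq {m : ℕ} (_hm : 5 ≤ m) [hQ : OCtx0 (plusForm F m)] :
    Cfsg.inndiagPOmegaPlus m F = (properSub (plusForm F m) (plusForm_apply m) m).map (Φ (Cfsg.quadFormPlus m F)) :=
  inndiag_plus_eq'

section Minus

variable {k : ℕ} {a b : F}

/-- In characteristic two the minus form becomes hyperbolic over a quadratic extension. -/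
theorem minus_lagrangian_two [CharP F 2] (hab : ∀ z₁ z₂ : F, z₁ ^ 2 + a * z₁ * z₂ + b * z₂ ^ 2 = 0 → z₁ = 0 ∧ z₂ = 0)
    {K : Type u} [Field K] [Fintype K] [Algebra F K] (hK : finrank F K = 2) :
    (QuadraticMap.polarBilin (minusForm K k (algebraMap F K a) (algebraMap F K b))).Nondegenerate ∧
      ∃ U, IsLagrangian (minusForm K k (algebraMap F K a) (algebraMap F K b)) U := by
  set φ := algebraMap F K
  have ha : φ a ≠ 0 := by
    refine (map_ne_zero φ).2 fun h0 => ?_
    obtain ⟨d, hd⟩ := FiniteField.isSquare_of_char_two (ringChar.eq F 2) b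
    exact one_ne_zero (hab d 1 (by rw [h0, hd, pow_two, zero_mul, zero_mul, add_zero, one_pow, mul_one,
      CharTwo.add_self_eq_zero])).2
  haveI : CharP K 2 := (Algebra.charP_iff F K 2).1 inferInstance
  have hnd : (QuadraticMap.polarBilin (minusForm K k (φ a) (φ b))).Nondegenerate := by
    refine nondegenerate_of_left fun v hv => ?_
    have h0 : φ a * v (.inr 1) = 0 := by
      simpa [minusForm_polar, Pi.single_apply, CharTwo.two_eq_zero] using hv (Pi.single (Sum.inr 0) 1)
    have h1 : φ a * v (.inr 0) = 0 := by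
      simpa [minusForm_polar, Pi.single_apply, CharTwo.two_eq_zero] using hv (Pi.single (Sum.inr 1) 1)
    funext i
    rcases i with (i | i) | i
    · simpa [minusForm_polar, Pi.single_apply] using hv (Pi.single (Sum.inl (Sum.inr i)) 1)
    · simpa [minusForm_polar, Pi.single_apply] using hv (Pi.single (Sum.inl (Sum.inl i)) 1)
    · fin_cases i
      · exact (mul_eq_zero.1 h1).resolve_left ha
      · exact (mul_eq_zero.1 h0).resolve_left ha
  obtain ⟨r, hr⟩ := POmegaAut.minus_root hK a b hab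
  let s : (Fin k ⊕ Unit → K) →ₗ[K] ((Fin k ⊕ Fin k) ⊕ Fin 2 → K) :=
    LinearMap.pi (Sum.elim (Sum.elim (fun i => LinearMap.proj (Sum.inl i)) (fun _ => 0))
      ![r • LinearMap.proj (Sum.inr ()), LinearMap.proj (Sum.inr ())])
  have hs : Function.Injective s := fun x y h => by
    funext i
    rcases i with i | i
    · exact congrFun h (Sum.inl (Sum.inl i))
    · exact congrFun h (Sum.inr 1)
  refine ⟨hnd, LinearMap.range s, isLagrangian_of_finrank hnd ?_ ?_⟩
  · rintro _ ⟨x, rfl⟩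
    rw [← minusForm_apply]
    simp [Cfsg.quadFormMinus, s]
    linear_combination (x (Sum.inr ()) ^ 2) * hr
  · rw [LinearMap.finrank_range_of_inj hs, finrank_fintype_fun_eq_card, finrank_fintype_fun_eq_card]
    simp; omega

theorem matOf_refl_map {K : Type u} [Field K] (φ : F →+* K) (L : List ((Fin k ⊕ Fin k) ⊕ Fin 2 → F)) :
    (matOf (minusForm F k a b) (L.map (refl (minusForm F k a b))).prod).map φ =
      matOf (minusForm K k (φ a) (φ b)) ((L.map fun v => ⇑φ ∘ v).map (refl (minusForm K k (φ a) (φ b)))).prod := by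
  induction L with
  | nil => simp [matOf_one, Matrix.map_one _ (map_zero φ) (map_one φ)]
  | cons v L ih =>
    simp only [List.map_cons, List.prod_cons, matOf_mul]
    rw [Matrix.map_mul, ih]
    congr 1
    refine Matrix.ext_of_mulVec_single fun j => ?_
    rw [show (Pi.single j 1 : _ → K) = ⇑φ ∘ Pi.single j 1 from by ext l; simp [Pi.single_apply, apply_ite φ],
      mulVec_comp, matOf_mulVec, matOf_mulVec, refl_apply, refl_apply]
    have hval : ∀ u : (Fin k ⊕ Fin k) ⊕ Fin 2 → F, minusForm K k (φ a) (φ b) (⇑φ ∘ u) = φ (minusForm F k a b u) :=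
      fun u => by simp [← minusForm_apply, Cfsg.quadFormMinus, map_sum]
    have hpol : polar (minusForm K k (φ a) (φ b)) (⇑φ ∘ v) (⇑φ ∘ Pi.single j 1) =
        φ (polar (minusForm F k a b) v (Pi.single j 1)) := by
      simp only [polar, map_sub, ← hval]
      rw [show ⇑φ ∘ (v + Pi.single j 1) = ⇑φ ∘ v + ⇑φ ∘ Pi.single j 1 from funext fun l => map_add φ _ _]
    rw [hpol, hval, ← map_inv₀ φ, ← map_mul φ]
    funext l
    simp

theorem preserves_minus (hk : 3 ≤ k) (hab : ∀ z₁ z₂ : F, z₁ ^ 2 + a * z₁ * z₂ + b * z₂ ^ 2 = 0 → z₁ = 0 ∧ z₂ = 0)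
    [hQ : OCtx0 (minusForm F k a b)] (g : GS (Cfsg.quadFormMinus k F a b)) :
    Cfsg.PreservesSingularClassesMinus k a b (g.1 : Matrix ((Fin k ⊕ Fin k) ⊕ Fin 2) ((Fin k ⊕ Fin k) ⊕ Fin 2) F) ↔
      g ∈ properSub (minusForm F k a b) (minusForm_apply k a b) (k + 1) := by
  suffices H : ∀ (K : Type u) [Field K] [Algebra F K], finrank F K = 2 →
      (Cfsg.PreservesSingularClasses (Cfsg.quadFormMinus k K (algebraMap F K a) (algebraMap F K b))
        ((g.1 : Matrix ((Fin k ⊕ Fin k) ⊕ Fin 2) ((Fin k ⊕ Fin k) ⊕ Fin 2) F).map (algebraMap F K)) ↔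
          g ∈ properSub (minusForm F k a b) (minusForm_apply k a b) (k + 1)) by
    constructor
    · rintro ⟨K, iK, iA, hK, hP⟩
      exact (H K hK).1 hP
    · intro hg
      obtain ⟨K, iK, iA, hK⟩ := POmegaAut.exists_quadratic_ext a b hab
      exact ⟨K, iK, iA, hK, (H K hK).2 hg⟩
  intro K _ _ hK
  by_cases h2 : (2 : F) = 0
  swap
  · obtain ⟨μ, hμ0, hμ⟩ := POmegaAut.exists_mult (Cfsg.quadFormMinus k F a b) (minusForm F k a b) (minusForm_apply k a b) g
    rw [mem_proper_odd _ _ h2 g hμ]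
    exact POmegaAut.minus_preserves_iff k h2 a b hab hK _ hμ0 ((Matrix.isUnit_iff_isUnit_det _).1 g.1.isUnit).ne_zero
      (fun v => by rw [← lin_apply]; exact hμ v)
  haveI := charTwo_of_zero h2
  haveI : FiniteDimensional F K := Module.finite_of_finrank_pos (by omega)
  haveI : Finite K := Module.finite_of_finite F
  letI : Fintype K := Fintype.ofFinite K
  haveI : CharP K 2 := (Algebra.charP_iff F K 2).1 inferInstance
  obtain ⟨c, L, hc, hL, e, hiff⟩ := proper_two_list (minusForm F k a b) (minusForm_apply k a b) (card_minus_index k) h2 g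
  obtain ⟨hnd, U, hU⟩ := minus_lagrangian_two (k := k) hab hK
  have h4 : Good K ((Fin k ⊕ Fin k) ⊕ Fin 2 → K) := Or.inr (by
    rw [finrank_fintype_fun_eq_card, card_minus_index]; omega)
  rw [hiff, e, show (c • matOf (minusForm F k a b) (L.map (refl (minusForm F k a b))).prod).map (algebraMap F K) =
    algebraMap F K c • (matOf (minusForm F k a b) (L.map (refl (minusForm F k a b))).prod).map (algebraMap F K) from
      Matrix.ext fun i j => map_mul (algebraMap F K) _ _, matOf_refl_map, ← List.length_map (f := fun v => ⇑(algebraMap F K) ∘ v) (as := L)]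
  refine preserves_iff_two (minusForm_apply k _ _) hnd h4 hU ((map_ne_zero _).2 hc) _ fun v hv => ?_
  obtain ⟨w, hw, rfl⟩ := List.mem_map.1 hv
  rw [show minusForm K k (algebraMap F K a) (algebraMap F K b) (⇑(algebraMap F K) ∘ w) =
    algebraMap F K (minusForm F k a b w) by simp [← minusForm_apply, Cfsg.quadFormMinus, map_sum]]
  exact (map_ne_zero _).2 (hL w hw)

theorem inndiag_minus_eq (hk : 3 ≤ k) (hab : ∀ z₁ z₂ : F, z₁ ^ 2 + a * z₁ * z₂ + b * z₂ ^ 2 = 0 → z₁ = 0 ∧ z₂ = 0)
    [hQ : OCtx0 (minusForm F k a b)] : Cfsg.inndiagPOmegaMinus k F a b =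
      (properSub (minusForm F k a b) (minusForm_apply k a b) (k + 1)).map (Φ (Cfsg.quadFormMinus k F a b)) := by
  refine closure_eq_map _ _ _ fun β => ?_
  exact ⟨fun ⟨g, hg, hP', hi⟩ => ⟨⟨g, hg⟩, (preserves_minus hk hab ⟨g, hg⟩).1 hP', (induced_iff _ ⟨g, hg⟩ β).1 hi⟩,
    fun ⟨g, hg, hi⟩ => ⟨g.1, g.2, (preserves_minus hk hab g).2 hg, (induced_iff _ g β).2 hi⟩⟩

end Minus

end CfsgLib.KnownC.AutPOmega
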