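import Cfsg.Agent.Lib.Classical.OrthSimple

/-!
# The projective group `PΩ(Q)` on its singular points

`sg r u` is the Siegel transformation with parameters `r`, `u` inside `Ω(Q)`, and `EE r u` is its class.
-/

set_option autoImplicit false
set_option linter.unusedSectionVars false
set_option linter.style.haveILetI false

open Module QuadraticMap MulAction
open scoped LinearAlgebra.Projectivization

namespace CfsgLib.KnownC.AutPOmega

open CfsgLib.Orth CfsgLib.Classical

variable {F : Type*} [Field F] {V : Type*} [AddCommGroup V] [Module F V] {Q : QuadraticForm F V}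

/-- Standing assumptions: a non-degenerate form of dimension at least seven. -/
class OCtx0 (Q : QuadraticForm F V) : Prop where
  fin : Finite F
  nd : (QuadraticMap.polarBilin Q).Nondegenerate
  seven : 7 ≤ finrank F V

/-- The standing assumptions, without the hyperbolic forms of dimension eight (which have triality). -/
class OCtx (Q : QuadraticForm F V) : Prop extends OCtx0 Q where
  eight : finrank F V = 8 → ∀ U : Submodule F V, (∀ u ∈ U, Q u = 0) → finrank F U ≠ 4

/-- `Ω(Q)`. -/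
abbrev Om (Q : QuadraticForm F V) : Type _ := ↥(commutator (orthGroup Q))

/-- `PΩ(Q)`. -/
abbrev PG (Q : QuadraticForm F V) : Type _ := Om Q ⧸ Subgroup.center (Om Q)

/-- The orthogonal space of a subspace. -/
def perp (Q : QuadraticForm F V) (W : Submodule F V) : Submodule F V :=
  LinearMap.BilinForm.orthogonal (QuadraticMap.polarBilin Q) W

theorem mem_perp {W : Submodule F V} {x : V} : x ∈ perp Q W ↔ ∀ w ∈ W, polar Q w x = 0 := Iff.rfl

theorem mem_perp_span {S : Set V} {x : V} : x ∈ perp Q (Submodule.span F S) ↔ ∀ w ∈ S, polar Q w x = 0 := by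
  refine ⟨fun h w hw => h w (Submodule.subset_span hw), fun h w hw => ?_⟩
  induction hw using Submodule.span_induction with
  | mem y hy => exact h y hy
  | zero => simp
  | add y z _ _ hy hz =>
    show polar Q (y + z) x = 0
    rw [polar_add_left, show polar Q y x = 0 from hy, show polar Q z x = 0 from hz, add_zero]
  | smul a y _ hy =>
    show polar Q (a • y) x = 0
    rw [polar_smul_l', show polar Q y x = 0 from hy, mul_zero]

/-- The span of the singular vectors of a subspace containing a hyperbolic pair. -/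
theorem mem_span_sing {X : Submodule F V} {d e : V} (hd : d ∈ X) (he : e ∈ X) (hd0 : Q d = 0) (he0 : Q e = 0)
    (hde : polar Q d e = 1) {x : V} (hx : x ∈ X) : x ∈ Submodule.span F {v | v ∈ X ∧ Q v = 0} := by
  set z := x - polar Q e x • d - polar Q d x • e with hz
  have hdz : polar Q d z = 0 := by
    simp only [hz, polar_sub_right, polar_smul_r', polar_self', hd0, hde]; ring
  have hez : polar Q e z = 0 := by
    simp only [hz, polar_sub_right, polar_smul_r', polar_self', he0, polar_comm _ e d, hde]; ring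
  have hzX : z ∈ X := X.sub_mem (X.sub_mem hx (X.smul_mem _ hd)) (X.smul_mem _ he)
  set w := z + d + (-Q z) • e with hw
  have hw0 : Q w = 0 := by
    simp only [hw, quad_add', quad_smul', polar_add_left, polar_smul_r', hd0, he0, hde, polar_comm _ z d,
      polar_comm _ z e, hdz, hez]
    ring
  have hwX : w ∈ X := X.add_mem (X.add_mem hzX hd) (X.smul_mem _ he)
  have hx' : x = w + (polar Q e x - 1) • d + (polar Q d x + Q z) • e := by rw [hw, hz]; module
  rw [hx']
  exact add_mem (add_mem (Submodule.subset_span ⟨hwX, hw0⟩) (Submodule.smul_mem _ _ (Submodule.subset_span ⟨hd, hd0⟩)))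
    (Submodule.smul_mem _ _ (Submodule.subset_span ⟨he, he0⟩))

/-- A Siegel transformation inside `Ω(Q)` (the identity when there is none). -/
noncomputable def sg (Q : QuadraticForm F V) (r u : V) : Om Q :=
  haveI : Decidable (∃ g : Om Q, IsSiegel g.1 r u) := Classical.propDecidable _
  if h : ∃ g : Om Q, IsSiegel g.1 r u then h.choose else 1

/-- The class of a Siegel transformation. -/
noncomputable def EE (Q : QuadraticForm F V) (r u : V) : PG Q := QuotientGroup.mk (sg Q r u)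

/-- The singular point of a vector. -/
abbrev pt (Q : QuadraticForm F V) {v : V} (hv : v ≠ 0) (h0 : Q v = 0) : SingPts Q := singPt Q hv h0

/-- Orthogonality of singular points. -/
def Ort (P R : SingPts Q) : Prop := polar Q P.1.rep R.1.rep = 0

theorem Ort.symm {P R : SingPts Q} (h : Ort P R) : Ort R P := by
  rw [Ort, polar_comm]; exact h

theorem pt_eq_iff {v w : V} {hv : v ≠ 0} {hv0 : Q v = 0} {hw : w ≠ 0} {hw0 : Q w = 0} :
    pt Q hv hv0 = pt Q hw hw0 ↔ ∃ a : F, a • w = v :=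
  ⟨fun h => (Projectivization.mk_eq_mk_iff' _ _ _ hv hw).1 (congrArg Subtype.val h),
    fun h => Subtype.ext ((Projectivization.mk_eq_mk_iff' _ _ _ hv hw).2 h)⟩

theorem pt_rep (P : SingPts Q) : P = pt Q P.1.rep_nonzero P.2 :=
  Subtype.ext (Projectivization.mk_rep P.1).symm

theorem ort_pt {v w : V} (hv : v ≠ 0) (hv0 : Q v = 0) (hw : w ≠ 0) (hw0 : Q w = 0) :
    Ort (pt Q hv hv0) (pt Q hw hw0) ↔ polar Q v w = 0 := by
  obtain ⟨a, ha⟩ := Projectivization.exists_smul_eq_mk_rep F v hv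
  obtain ⟨b, hb⟩ := Projectivization.exists_smul_eq_mk_rep F w hw
  show polar Q (Projectivization.mk F v hv).rep (Projectivization.mk F w hw).rep = 0 ↔ _
  rw [← ha, ← hb, Units.smul_def, Units.smul_def, polar_smul_l', polar_smul_r']
  simp

theorem smul_pt (g : Om Q) {v : V} (hv : v ≠ 0) (h0 : Q v = 0) :
    g • pt Q hv h0 = pt Q (by simpa using hv : g.1.1 v ≠ 0) ((apply_quad g.1 v).trans h0) :=
  smul_singPt_eq g.1 hv h0 _ _ (a := 1) (by rw [one_smul])

section

variable [FiniteDimensional F V] [hQ : OCtx0 Q]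
include hQ

theorem good : Good F V := by
  haveI := hQ.fin
  letI := Fintype.ofFinite F
  exact good_of (Or.inr (by have := hQ.seven; omega))

theorem five_le : 5 ≤ finrank F V := by have := hQ.seven; omega

theorem hyp : Nonempty (HypPairs Q) := by
  haveI := hQ.fin
  letI := Fintype.ofFinite F
  exact exists_hypPairs hQ.nd (five_le (Q := Q))

theorem exists_partner {r : V} (hr0 : r ≠ 0) (hr : Q r = 0) : ∃ s, Q s = 0 ∧ polar Q r s = 1 := by
  obtain ⟨hp⟩ := hyp (Q := Q)
  obtain ⟨hp', rfl⟩ := hp.exists_at hQ.nd hr hr0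
  exact ⟨hp'.f₀, hp'.hf₀, hp'.h00⟩

theorem perp_finrank (W : Submodule F V) : finrank F (perp Q W) = finrank F V - finrank F W := by
  exact LinearMap.BilinForm.finrank_orthogonal hQ.nd W

theorem exists_dual_zero {W : Submodule F V} {x : V} (hx : x ∉ W) :
    ∃ z, (∀ w ∈ W, polar Q w z = 0) ∧ polar Q x z = 1 := by
  obtain ⟨z, hz, hz1⟩ := exists_polar_one hQ.nd hx
  exact ⟨z, fun w hw => by rw [polar_comm]; exact hz w hw, by rw [polar_comm]; exact hz1⟩

/-- Subspaces of dimension at least three contain singular vectors. -/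
theorem exists_sing_sub {W : Submodule F V} (hW : 3 ≤ finrank F W) : ∃ v ∈ W, v ≠ 0 ∧ Q v = 0 := by
  classical
  haveI := hQ.fin
  letI := Fintype.ofFinite F
  by_cases hr : ∃ v ∈ W, v ≠ 0 ∧ ∀ w ∈ W, polar Q v w = 0
  · obtain ⟨v, hvW, hv0, hv⟩ := hr
    by_cases hQv : Q v = 0
    · exact ⟨v, hvW, hv0, hQv⟩
    have h2 : (2 : F) = 0 := by
      have := hv v hvW
      rw [polar_self', mul_eq_zero] at this
      exact this.resolve_right hQv
    haveI : CharP F 2 := CharTwo.of_one_ne_zero_of_two_eq_zero one_ne_zero h2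
    obtain ⟨w, hwW, hwv⟩ : ∃ w ∈ W, w ∉ (F ∙ v) := by
      by_contra h
      push Not at h
      have := Submodule.finrank_mono (s := W) (t := F ∙ v) h
      rw [finrank_span_singleton hv0] at this
      omega
    obtain ⟨t, ht⟩ := FiniteField.isSquare_of_char_two (ringChar.eq F 2) (Q w / Q v)
    refine ⟨w + t • v, W.add_mem hwW (W.smul_mem _ hvW), fun h => hwv ?_, ?_⟩
    · rw [eq_neg_of_add_eq_zero_left h]
      exact neg_mem (Submodule.smul_mem _ _ (Submodule.mem_span_singleton_self v))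
    · rw [quad_add', quad_smul', polar_smul_r', polar_comm _ w v, hv w hwW, ← ht, div_mul_cancel₀ _ hQv, mul_zero,
        add_zero, CharTwo.add_self_eq_zero]
  · push Not at hr
    have hnd : (QuadraticMap.polarBilin (Q.comp W.subtype)).Nondegenerate := by
      refine nondegenerate_of_left fun x hx => ?_
      by_contra hx0
      obtain ⟨w, hw, hne⟩ := hr x x.2 fun h => hx0 (Subtype.ext h)
      exact hne (hx ⟨w, hw⟩)
    obtain ⟨v, hv, hv0⟩ := exists_singular hnd hW
    exact ⟨v, v.2, fun h => hv (Subtype.ext h), hv0⟩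

theorem exists_pair_in {X : Submodule F V} (hX : 3 ≤ finrank F X)
    (hnd : ∀ x ∈ X, (∀ y ∈ X, polar Q x y = 0) → x = 0) :
    ∃ d ∈ X, ∃ e ∈ X, Q d = 0 ∧ Q e = 0 ∧ polar Q d e = 1 := by
  obtain ⟨d, hd, hd0, hdq⟩ := exists_sing_sub (Q := Q) hX
  obtain ⟨y, hy, hne⟩ : ∃ y ∈ X, polar Q d y ≠ 0 := by
    by_contra! h
    exact hd0 (hnd d hd h)
  set e := (polar Q d y)⁻¹ • y with he
  have hde : polar Q d e = 1 := by rw [he, polar_smul_r', inv_mul_cancel₀ hne]
  refine ⟨d, hd, e + (-Q e) • d, X.add_mem (X.smul_mem _ hy) (X.smul_mem _ hd), hdq, ?_, ?_⟩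
  · rw [quad_add', quad_smul' Q (-Q e), polar_smul_r', hdq, polar_comm _ e d, hde]; ring
  · rw [polar_add_right, hde, polar_smul_r', polar_self', hdq]; ring

theorem center_scalar {z : Om Q} (hz : z ∈ Subgroup.center (Om Q)) :
    ∃ c : F, (c = 1 ∨ c = -1) ∧ ∀ v, z.1.1 v = c • v := by
  classical
  haveI := hQ.fin
  letI := Fintype.ofFinite F
  obtain ⟨hp⟩ := hyp (Q := Q)
  by_cases h2 : (2 : F) = 0
  · haveI : CharP F 2 := CharTwo.of_one_ne_zero_of_two_eq_zero one_ne_zero h2
    have h := eq_one_of_commute_two hQ.nd (good (Q := Q)) (by have := hQ.seven; omega) hp z.1 (central_commutes z hz)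
    exact ⟨1, Or.inl rfl, fun v => by rw [h, one_smul]; rfl⟩
  · rcases eq_one_or_negEl_of_commute hQ.nd h2 hp z.1 (central_commutes z hz) with h | h
    · exact ⟨1, Or.inl rfl, fun v => by rw [h, one_smul]; rfl⟩
    · exact ⟨-1, Or.inr rfl, fun v => by rw [h, neg_one_smul]; rfl⟩

theorem center_fix {z : Om Q} (hz : z ∈ Subgroup.center (Om Q)) (P : SingPts Q) : z • P = P := by
  obtain ⟨c, -, hc⟩ := center_scalar hz
  rw [pt_rep P, smul_pt]
  exact pt_eq_iff.2 ⟨c, (hc _).symm⟩

theorem center_pow_eq_one {z : Om Q} (hz : z ∈ Subgroup.center (Om Q)) {p : ℕ} [Fact p.Prime] [CharP F p]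
    (hp : z ^ p = 1) : z = 1 := by
  obtain ⟨c, hc1, hc⟩ := center_scalar hz
  have hpow : ∀ k : ℕ, ∀ v, (z ^ k).1.1 v = c ^ k • v := by
    intro k
    induction k with
    | zero => intro v; simp
    | succ k ih => intro v; rw [pow_succ']; show z.1.1 ((z ^ k).1.1 v) = _; rw [ih, map_smul, hc, smul_smul, pow_succ]
  obtain ⟨hyps⟩ := hyp (Q := Q)
  have h1 := hpow p hyps.e₀
  rw [hp] at h1
  change hyps.e₀ = _ at h1
  have hcp : c ^ p = 1 := by
    by_contra hne
    have h2 : (c ^ p - 1) • hyps.e₀ = 0 := by rw [sub_smul, one_smul, ← h1, sub_self]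
    exact hyps.e₀_ne_zero ((smul_eq_zero.1 h2).resolve_left (sub_ne_zero.2 hne))
  have hc2 : c = 1 := by
    have h3 : (c - 1) ^ p = 0 := by rw [sub_pow_char, hcp, one_pow, sub_self]
    exact sub_eq_zero.1 (eq_zero_of_pow_eq_zero h3)
  exact Subtype.ext (Subtype.ext (LinearEquiv.ext fun v => by rw [hc, hc2, one_smul]; rfl))

theorem finite_vec : Finite V := by
  haveI := hQ.fin
  exact Module.finite_of_finite F

theorem finite_om : Finite (Om Q) := by
  haveI := finite_vec (Q := Q)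
  haveI : Finite (V ≃ₗ[F] V) := Finite.of_injective _ DFunLike.coe_injective
  infer_instance

/-- The action of `PΩ(Q)` on the singular points. -/
noncomputable def ptHom : PG Q →* Equiv.Perm (SingPts Q) :=
  QuotientGroup.lift _ (MulAction.toPermHom (Om Q) (SingPts Q)) fun _ hz =>
    MonoidHom.mem_ker.2 (Equiv.ext fun P => center_fix hz P)

noncomputable instance pgAction : MulAction (PG Q) (SingPts Q) := MulAction.compHom _ ptHom

theorem pg_smul (g : Om Q) (P : SingPts Q) : (QuotientGroup.mk g : PG Q) • P = g • P := rfl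

theorem pg_ext {x y : PG Q} (h : ∀ P : SingPts Q, x • P = y • P) : x = y := by
  obtain ⟨hp⟩ := hyp (Q := Q)
  obtain ⟨g, rfl⟩ := QuotientGroup.mk_surjective x
  obtain ⟨k, rfl⟩ := QuotientGroup.mk_surjective y
  refine QuotientGroup.eq.2 (mem_center_of_fix_singPts hQ.nd hp (five_le (Q := Q)) fun P => ?_)
  have := h P
  rw [pg_smul, pg_smul] at this
  rw [mul_smul, inv_smul_eq_iff]
  exact this.symm

instance pg_pretransitive : IsPretransitive (PG Q) (SingPts Q) := by
  obtain ⟨hp⟩ := hyp (Q := Q)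
  haveI := singPts_pretransitive hQ.nd (good (Q := Q)) hp (five_le (Q := Q))
  exact ⟨fun P R => by
    obtain ⟨g, hg⟩ := exists_smul_eq (Om Q) P R
    exact ⟨QuotientGroup.mk g, hg⟩⟩

theorem isPreprimitive : IsPreprimitive (PG Q) (SingPts Q) := by
  obtain ⟨hp⟩ := hyp (Q := Q)
  haveI := singPts_isPreprimitive hQ.nd (good (Q := Q)) hp (five_le (Q := Q))
  exact IsPreprimitive.of_surjective (φ := fun g : Om Q => (QuotientGroup.mk g : PG Q))
    (f := { toFun := _root_.id, map_smul' := fun _ _ => rfl }) Function.surjective_id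

theorem sg_isSiegel {r u : V} (hr : Q r = 0) (hu : polar Q r u = 0) : IsSiegel (sg Q r u).1 r u := by
  classical
  obtain ⟨hp⟩ := hyp (Q := Q)
  obtain ⟨g, hg⟩ := exists_isSiegel hQ.nd hr hu
  have h : ∃ g : Om Q, IsSiegel g.1 r u := ⟨⟨g, hg.mem_commutator hQ.nd (good (Q := Q)) hp (five_le (Q := Q))⟩, hg⟩
  rw [sg, dif_pos h]
  exact h.choose_spec

theorem sg_apply {r u : V} (hr : Q r = 0) (hu : polar Q r u = 0) (v : V) :
    (sg Q r u).1.1 v = v + polar Q r v • u + (-(polar Q u v) - Q u * polar Q r v) • r :=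
  (sg_isSiegel hr hu).2.2 v

theorem eq_sg {r u : V} {g : Om Q} (hg : IsSiegel g.1 r u) : g = sg Q r u :=
  Subtype.ext (hg.unique (sg_isSiegel hg.1 hg.2.1))

theorem sg_mul {r u w : V} (hr : Q r = 0) (hu : polar Q r u = 0) (hw : polar Q r w = 0) :
    sg Q r u * sg Q r w = sg Q r (u + w) := eq_sg ((sg_isSiegel hr hu).mul (sg_isSiegel hr hw))

theorem sg_comm {r u w : V} (hr : Q r = 0) (hu : polar Q r u = 0) (hw : polar Q r w = 0) :
    Commute (sg Q r u) (sg Q r w) := by
  show _ * _ = _ * _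
  rw [sg_mul hr hu hw, sg_mul hr hw hu, add_comm]

theorem sg_shift {r u : V} (hr : Q r = 0) (hu : polar Q r u = 0) (a : F) :
    sg Q r (u + a • r) = sg Q r u := by
  have hr' : polar Q r (a • r) = 0 := by rw [polar_smul_r', polar_self', hr]; ring
  have h1 : sg Q r (a • r) = 1 := (eq_sg (g := 1) (isSiegel_one_smul hr a)).symm
  rw [← sg_mul hr hu hr', h1, mul_one]

theorem sg_zero {r : V} (hr : Q r = 0) : sg Q r 0 = 1 := (eq_sg (g := 1) (isSiegel_one hr)).symm

theorem sg_smul_self {r : V} (hr : Q r = 0) (a : F) : sg Q r (a • r) = 1 := by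
  have := sg_shift (u := 0) hr (by simp) a
  rwa [zero_add, sg_zero hr] at this

theorem sg_conj (x : Om Q) {r u : V} (hr : Q r = 0) (hu : polar Q r u = 0) :
    x * sg Q r u * x⁻¹ = sg Q (x.1.1 r) (x.1.1 u) := eq_sg ((sg_isSiegel hr hu).conj x.1)

theorem sg_scale {r u : V} {t : F} (ht : t ≠ 0) (hr : Q r = 0) (hu : polar Q r u = 0) :
    sg Q (t • r) u = sg Q r (t • u) :=
  eq_sg (IsSiegel.of_smul ht (sg_isSiegel (by rw [quad_smul', hr, mul_zero]) (by rw [polar_smul_l', hu, mul_zero])))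

theorem sg_pow {r u : V} (hr : Q r = 0) (hu : polar Q r u = 0) :
    ∀ k : ℕ, sg Q r u ^ k = sg Q r ((k : F) • u)
  | 0 => by rw [pow_zero, Nat.cast_zero, zero_smul, sg_zero hr]
  | k + 1 => by
    rw [pow_succ, sg_pow hr hu k, sg_mul hr (by rw [polar_smul_r', hu, mul_zero]) hu, Nat.cast_succ, add_smul, one_smul]

theorem sg_pow_char {r u : V} (hr : Q r = 0) (hu : polar Q r u = 0) (p : ℕ) [CharP F p] : sg Q r u ^ p = 1 := by
  rw [sg_pow hr hu, CharP.cast_eq_zero, zero_smul, sg_zero hr]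

theorem sg_eq_one_iff {r u : V} (hr0 : r ≠ 0) (hr : Q r = 0) (hu : polar Q r u = 0) :
    sg Q r u = 1 ↔ u ∈ F ∙ r := by
  refine ⟨fun h => ?_, fun h => ?_⟩
  · obtain ⟨s, -, hrs⟩ := exists_partner (Q := Q) hr0 hr
    have e := sg_apply hr hu s
    rw [h, hrs] at e
    change s = _ at e
    refine Submodule.mem_span_singleton.2 ⟨polar Q u s + Q u, ?_⟩
    linear_combination (norm := module) e
  · obtain ⟨a, rfl⟩ := Submodule.mem_span_singleton.1 h
    exact sg_smul_self hr a

/-- Two Siegel transformations with the same class are equal. -/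
theorem sg_eq_of_EE_eq {r u w v : V} (hr : Q r = 0) (hu : polar Q r u = 0) (hw : Q w = 0) (hv : polar Q w v = 0)
    (h : EE Q r u = EE Q w v) : sg Q r u = sg Q w v := by
  haveI := hQ.fin
  obtain ⟨p, _⟩ := CharP.exists F
  haveI : Fact p.Prime := ⟨CharP.char_is_prime F p⟩
  have hz := QuotientGroup.eq.1 h
  have hc : Commute ((sg Q r u)⁻¹ * sg Q w v) (sg Q r u) := (Subgroup.mem_center_iff.1 hz _).symm
  have h1 : ((sg Q r u)⁻¹ * sg Q w v) ^ p = 1 := by
    have e : (((sg Q r u)⁻¹ * sg Q w v) * sg Q r u) ^ p = ((sg Q r u)⁻¹ * sg Q w v) ^ p * sg Q r u ^ p := hc.mul_pow p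
    have e2 : (((sg Q r u)⁻¹ * sg Q w v) * sg Q r u) ^ p = 1 := by
      have e3 := map_pow (MulAut.conj (sg Q r u)⁻¹) (sg Q w v) p
      rw [sg_pow_char hw hv p, map_one, MulAut.conj_apply, inv_inv] at e3
      exact e3.symm
    rw [e2, sg_pow_char hr hu p, mul_one] at e
    exact e.symm
  exact inv_mul_eq_one.1 (center_pow_eq_one hz h1)

theorem EE_mul {r u w : V} (hr : Q r = 0) (hu : polar Q r u = 0) (hw : polar Q r w = 0) :
    EE Q r u * EE Q r w = EE Q r (u + w) := congrArg QuotientGroup.mk (sg_mul hr hu hw)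

theorem EE_inj {r u w : V} (hr0 : r ≠ 0) (hr : Q r = 0) (hu : polar Q r u = 0) (hw : polar Q r w = 0) :
    EE Q r u = EE Q r w ↔ u - w ∈ F ∙ r := by
  have hd : polar Q r (u - w) = 0 := by rw [polar_sub_right, hu, hw, sub_zero]
  have key : sg Q r u = sg Q r (u - w) * sg Q r w := by rw [sg_mul hr hd hw, sub_add_cancel]
  refine ⟨fun h => ?_, fun h => ?_⟩
  · have e := sg_eq_of_EE_eq hr hu hr hw h
    rw [key] at e
    exact (sg_eq_one_iff hr0 hr hd).1 (mul_eq_right.1 e)
  · rw [EE, EE, key, (sg_eq_one_iff hr0 hr hd).2 h, one_mul]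

theorem EE_conj (x : Om Q) {r u : V} (hr : Q r = 0) (hu : polar Q r u = 0) :
    (QuotientGroup.mk x : PG Q) * EE Q r u * (QuotientGroup.mk x)⁻¹ = EE Q (x.1.1 r) (x.1.1 u) := by
  rw [EE, EE, ← sg_conj x hr hu]; rfl

/-- The Siegel group of a point in `PΩ(Q)`. -/
noncomputable def rad (P : SingPts Q) : Subgroup (PG Q) :=
  (siegelPoint Q P).map (QuotientGroup.mk' _)

theorem mem_rad {r : V} (hr0 : r ≠ 0) (hr : Q r = 0) {x : PG Q} :
    x ∈ rad (pt Q hr0 hr) ↔ ∃ u, polar Q r u = 0 ∧ x = EE Q r u := by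
  obtain ⟨a, ha⟩ := Projectivization.exists_smul_eq_mk_rep F r hr0
  have hd : (pt Q hr0 hr).1.rep = (a : F) • r := by rw [← Units.smul_def, ha]; rfl
  constructor
  · rintro ⟨g, ⟨u, hu⟩, rfl⟩
    rw [hd] at hu
    have h := IsSiegel.of_smul a.ne_zero hu
    exact ⟨_, h.2.1, congrArg QuotientGroup.mk (eq_sg h)⟩
  · rintro ⟨u, hu, rfl⟩
    refine ⟨sg Q r u, ⟨(a : F)⁻¹ • u, ?_⟩, rfl⟩
    rw [hd]
    have h := sg_isSiegel hr hu
    rw [show r = (a : F)⁻¹ • ((a : F) • r) by rw [smul_smul, inv_mul_cancel₀ a.ne_zero, one_smul]] at h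
    have h' := IsSiegel.of_smul (inv_ne_zero a.ne_zero) h
    rwa [smul_smul (a : F)⁻¹ (a : F) r, inv_mul_cancel₀ a.ne_zero, one_smul] at h'

theorem conj_rad_mem (x : PG Q) (P : SingPts Q) {y : PG Q} (hy : y ∈ rad P) : x * y * x⁻¹ ∈ rad (x • P) := by
  obtain ⟨g, rfl⟩ := QuotientGroup.mk_surjective x
  rw [pt_rep P] at hy ⊢
  obtain ⟨u, hu, rfl⟩ := (mem_rad _ _).1 hy
  rw [pg_smul, smul_pt, mem_rad]
  exact ⟨g.1.1 u, by rw [polar_isom, hu], EE_conj g P.2 hu⟩

theorem map_conj_rad (x : PG Q) (P : SingPts Q) : (rad P).map (MulAut.conj x).toMonoidHom = rad (x • P) := by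
  ext y
  constructor
  · rintro ⟨z, hz, rfl⟩
    exact conj_rad_mem x P hz
  · intro hy
    refine ⟨x⁻¹ * y * x, ?_, by show x * _ * x⁻¹ = y; group⟩
    have := conj_rad_mem x⁻¹ (x • P) hy
    rwa [inv_inv, inv_smul_smul] at this

theorem rad_le_stab (P : SingPts Q) : rad P ≤ stabilizer (PG Q) P := by
  intro x hx
  rw [pt_rep P] at hx ⊢
  obtain ⟨u, hu, rfl⟩ := (mem_rad _ _).1 hx
  rw [mem_stabilizer_iff, EE, pg_smul, smul_pt]
  refine pt_eq_iff.2 ⟨1, ?_⟩
  rw [sg_apply P.2 hu, polar_self', P.2, polar_comm _ u, hu]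
  simp

theorem rad_pow_char (p : ℕ) [CharP F p] {P : SingPts Q} {x : PG Q} (hx : x ∈ rad P) : x ^ p = 1 := by
  rw [pt_rep P] at hx
  obtain ⟨u, hu, rfl⟩ := (mem_rad _ _).1 hx
  rw [EE, ← QuotientGroup.mk_pow, sg_pow_char P.2 hu]
  rfl

theorem rad_comm {P : SingPts Q} {x y : PG Q} (hx : x ∈ rad P) (hy : y ∈ rad P) : x * y = y * x := by
  rw [pt_rep P] at hx hy
  obtain ⟨u, hu, rfl⟩ := (mem_rad _ _).1 hx
  obtain ⟨w, hw, rfl⟩ := (mem_rad _ _).1 hy
  rw [EE_mul P.2 hu hw, EE_mul P.2 hw hu, add_comm]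

theorem exists_rad_ne_one (P : SingPts Q) : ∃ x ∈ rad P, x ≠ 1 := by
  have h3 : 3 ≤ finrank F (perp Q (F ∙ P.1.rep)) := by
    rw [perp_finrank, finrank_span_singleton P.1.rep_nonzero]; have := hQ.seven; omega
  obtain ⟨u, hu, huP⟩ : ∃ u ∈ perp Q (F ∙ P.1.rep), u ∉ (F ∙ P.1.rep) := by
    by_contra h
    push Not at h
    have := Submodule.finrank_mono (s := perp Q (F ∙ P.1.rep)) (t := F ∙ P.1.rep) h
    rw [finrank_span_singleton P.1.rep_nonzero] at this
    omega
  have hu' : polar Q P.1.rep u = 0 := hu _ (Submodule.mem_span_singleton_self _)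
  refine ⟨EE Q P.1.rep u, ?_, fun h => huP ?_⟩
  · conv_lhs => rw [pt_rep P]
    exact (mem_rad _ _).2 ⟨u, hu', rfl⟩
  · have := (EE_inj P.1.rep_nonzero P.2 hu' (by simp) (w := 0)).1 (h.trans (by rw [EE, sg_zero P.2]; rfl))
    rwa [sub_zero] at this

end

end CfsgLib.KnownC.AutPOmega
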