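import Cfsg.Agent.Lib.KnownC.AutPOmega.FieldDescent
import Cfsg.Agent.Lib.KnownC.AutPSL.FieldClass
import Cfsg.Agent.Lib.KnownC.AutPSL.SplitGen
import Cfsg.Agent.Lib.KnownC.POmegaGraph

/-!
# Field automorphisms: common facts
-/

set_option autoImplicit false
set_option linter.unusedSectionVars false
set_option linter.style.haveILetI false

open Module QuadraticMap
open scoped Matrix

namespace CfsgLib.KnownC.AutPOmega

open CfsgLib.Orth CfsgLib.Classical
open CfsgLib.KnownC.POmegaAut (GS Φ lin lin_apply lin_injective ofOrth lin_ofOrth IsSemiInduced induced_iff semi_mul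
  pgoAut_eq inn_eq)

universe u v

section Fields

variable {F : Type u} [Field F] [Fintype F]

/-- The fixed field of `σ` as the image of any field of the right order. -/
theorem exists_emb {p f r : ℕ} [Fact p.Prime] (hF : Fintype.card F = p ^ f) (σ : F ≃+* F) (hσ : orderOf σ = r)
    (hr : 1 ≤ r) (F₀ : Type v) [Field F₀] [Fintype F₀] (hF₀ : Fintype.card F₀ = p ^ (f / r)) :
    r ∣ f ∧ ∃ emb : F₀ →+* F, ∀ x, σ x = x ↔ x ∈ Set.range emb := by
  obtain ⟨hrf, hK⟩ := AutPSL.card_fixField hF σ hσ hr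
  let K := AutPSL.fixField σ
  letI : Fintype K := Fintype.ofFinite K
  have hc : Fintype.card F₀ = Fintype.card K := by rw [hF₀, ← Nat.card_eq_fintype_card, hK]
  refine ⟨hrf, K.subtype.comp (FiniteField.ringEquivOfCardEq (K := F₀) (K' := K) hc).toRingHom, fun y => ⟨fun hy => ?_, ?_⟩⟩
  · exact ⟨(FiniteField.ringEquivOfCardEq (K := F₀) (K' := K) hc).symm ⟨y, hy⟩, by simp⟩
  · rintro ⟨z, rfl⟩
    exact ((FiniteField.ringEquivOfCardEq (K := F₀) (K' := K) hc) z).2

/-- Under an automorphism of odd order a non-square of the fixed field stays a non-square. -/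
theorem not_square_of_odd {F₀ : Type v} [Field F₀] {emb : F₀ →+* F} {σ : F ≃+* F}
    (hι : ∀ x, σ x = x ↔ x ∈ Set.range emb) {r : ℕ} (hσ : orderOf σ = r) (hr : Odd r) {a : F₀} (ha : ¬ IsSquare a) :
    ¬ IsSquare (emb a) := by
  rintro ⟨y, hy⟩
  have hy2 : σ y * σ y = y * y := by rw [← map_mul, ← hy]; exact (hι _).2 ⟨a, rfl⟩
  rcases mul_self_eq_mul_self_iff.1 hy2 with h | h
  · obtain ⟨b, rfl⟩ := (hι y).1 h
    exact ha ⟨b, emb.injective (by rw [hy, map_mul])⟩
  · have hk : ∀ k : ℕ, (σ ^ k) y = (-1) ^ k * y := fun k => by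
      induction k with
      | zero => simp
      | succ k ih =>
        rw [pow_succ', RingAut.mul_apply, ih, map_mul, map_pow, map_neg, map_one, h, pow_succ']; ring
    have h1 := hk r
    rw [← hσ, pow_orderOf_eq_one, hσ, hr.neg_one_pow, RingAut.one_apply, neg_one_mul] at h1
    have hfix : σ y = y := h.trans h1.symm
    obtain ⟨b, rfl⟩ := (hι y).1 hfix
    exact ha ⟨b, emb.injective (by rw [hy, map_mul])⟩

/-- Under an involution every element of the fixed field is a square. -/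
theorem square_of_two {F₀ : Type v} [Field F₀] {emb : F₀ →+* F} {σ : F ≃+* F}
    (hι : ∀ x, σ x = x ↔ x ∈ Set.range emb) (hσ : orderOf σ = 2) (h2 : (2 : F) ≠ 0) (a : F₀) : IsSquare (emb a) := by
  refine (POmegaAut.fixed_isSquare (σ := σ) (fun x => ?_) (fun h => ?_) h2).1 _ ((hι _).2 ⟨a, rfl⟩)
  · have h := pow_orderOf_eq_one σ
    rw [hσ, pow_two] at h
    exact RingEquiv.congr_fun h x
  · rw [h, show (RingEquiv.refl F : F ≃+* F) = 1 from rfl, orderOf_one] at hσ
    omega

end Fields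

/-- Every isometry is a product of reflections in non-singular vectors. -/
theorem exists_refl_list {F : Type u} [Field F] {V : Type*} [AddCommGroup V] [Module F V] [FiniteDimensional F V]
    {Q : QuadraticForm F V} (hQ : (QuadraticMap.polarBilin Q).Nondegenerate) (h4 : Good F V) (g : orthGroup Q) :
    ∃ L : List V, (∀ a ∈ L, Q a ≠ 0) ∧ g = (L.map (refl Q)).prod := by
  have hg : g ∈ reflGroup Q := by rw [reflGroup_eq_top hQ h4]; trivial
  have hone : ∀ a, Q a = 0 → refl Q a = 1 := fun a ha => Subtype.ext (LinearEquiv.ext fun v => by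
    rw [refl_apply, ha, inv_zero, zero_mul, zero_smul, sub_zero]; rfl)
  induction hg using Subgroup.closure_induction with
  | mem x hx =>
    obtain ⟨a, rfl⟩ := hx
    by_cases ha : Q a = 0
    · exact ⟨[], by simp, by rw [hone a ha]; simp⟩
    · exact ⟨[a], by simp [ha], by simp⟩
  | one => exact ⟨[], by simp, by simp⟩
  | mul x y _ _ hx hy =>
    obtain ⟨L, hL, rfl⟩ := hx
    obtain ⟨M, hM, rfl⟩ := hy
    exact ⟨L ++ M, fun a ha => (List.mem_append.1 ha).elim (hL a) (hM a), by simp⟩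
  | inv x _ hx =>
    obtain ⟨L, hL, rfl⟩ := hx
    refine ⟨L.reverse, fun a ha => hL a (List.mem_reverse.1 ha), ?_⟩
    rw [List.prod_inv_reverse, List.map_map, ← List.map_reverse]
    exact congrArg _ (List.map_congr_left fun a _ => refl_inv Q a)

/-- The parity of the number of reflections. -/
theorem det_prod_refl {F : Type u} [Field F] {V : Type*} [AddCommGroup V] [Module F V] [FiniteDimensional F V]
    {Q : QuadraticForm F V} (L : List V) (hL : ∀ a ∈ L, Q a ≠ 0) :
    LinearMap.det ((((L.map (refl Q)).prod : orthGroup Q).1 : V ≃ₗ[F] V) : V →ₗ[F] V) = (-1) ^ L.length := by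
  induction L with
  | nil => simp only [List.map_nil, List.prod_nil, List.length_nil, pow_zero]; exact LinearMap.det_id
  | cons a L ih =>
    rw [List.map_cons, List.prod_cons, List.length_cons, pow_succ', ← ih (fun b hb => hL b (List.mem_cons_of_mem a hb)),
      ← det_refl Q (hL a List.mem_cons_self)]
    exact map_mul LinearMap.det _ _

section Desc

variable {F : Type u} [Field F] [Fintype F] {ι : Type} [Fintype ι] [DecidableEq ι] {Qf : (ι → F) → F}
  {F₀ : Type v} [Field F₀] {κ : Type} [Fintype κ] [DecidableEq κ]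
  {Q : QuadraticForm F (ι → F)} {A : GL ι F} {σ : F ≃+* F} {emb : F₀ →+* F}
  {P₀ : QuadraticForm F₀ (κ → F₀)} {P : QuadraticForm F (κ → F)} {P₀f : (κ → F₀) → F₀}
  (hQf : ∀ v, Qf v = Q v) (hP₀f : ∀ w, P₀f w = P₀ w)

/-- Reflections go to reflections. -/
theorem Desc.bc_refl (D : Desc Q A σ emb P₀ P) (a : κ → F₀) :
    D.bc hQf hP₀f (ofOrth P₀f P₀ hP₀f (refl P₀ a)) = ofOrth Qf Q hQf (refl Q (D.e (⇑emb ∘ a))) := by
  refine lin_injective Qf (LinearEquiv.toLinearMap_injective ((Pi.basisFun F κ).map D.e |>.ext fun j => ?_))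
  rw [Module.Basis.map_apply, Pi.basisFun_apply, LinearEquiv.coe_coe, LinearEquiv.coe_coe, D.bc_apply, lin_ofOrth,
    show (Pi.single j 1 : κ → F) = ⇑emb ∘ Pi.single j 1 from by ext l; simp [Pi.single_apply, apply_ite emb],
    mulVec_comp, ← lin_apply, lin_ofOrth, refl_apply, refl_apply]
  have hp : polar P (⇑emb ∘ a) (⇑emb ∘ Pi.single j 1) = emb (polar P₀ a (Pi.single j 1)) := by
    simp only [polar, map_sub, ← D.hemb]
    rw [show ⇑emb ∘ (a + Pi.single j 1) = ⇑emb ∘ a + ⇑emb ∘ Pi.single j 1 from funext fun l => map_add emb _ _]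
  have hpe : ∀ x y, polar Q (D.e x) (D.e y) = D.z * polar P x y := fun x y => by
    simp only [polar, ← map_add, D.hQ]; ring
  rw [D.hQ, hpe, hp, D.hemb, mul_inv, mul_mul_mul_comm, inv_mul_cancel₀ D.hz, one_mul, ← map_inv₀ emb,
    ← map_mul emb, ← map_smul, ← map_sub]
  congr 1
  funext l
  simp

theorem Desc.bc_prod_refl (D : Desc Q A σ emb P₀ P) (L : List (κ → F₀)) :
    D.bc hQf hP₀f (ofOrth P₀f P₀ hP₀f (L.map (refl P₀)).prod) =
      ofOrth Qf Q hQf ((L.map fun a => D.e (⇑emb ∘ a)).map (refl Q)).prod := by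
  induction L with
  | nil => simp
  | cons a L ih => simp only [List.map_cons, List.prod_cons, map_mul, ih, D.bc_refl]

variable [hQ : OCtx0 Q]

include hQ in
/-- The centraliser of an element over the fixed field. -/
theorem Desc.centralizer [Fintype F₀] [hP : OCtx0 P₀] (D : Desc Q A σ emb P₀ P)
    (hι : ∀ x, σ x = x ↔ x ∈ Set.range emb) {β : MulAut (Cfsg.POmega F Qf)} (hβ : IsSemiInduced Qf A σ β)
    (E : Subgroup (GS Qf)) (E₀ : Subgroup (GS P₀f)) (hE : (Φ Qf).ker ≤ E)
    (hmem : ∀ B, D.bc hQf hP₀f B ∈ E ↔ B ∈ E₀) :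
    Nonempty (↥(E.map (Φ Qf) ⊓ Subgroup.centralizer {β}) ≃* ↥(E₀.map (Φ P₀f))) := by
  let ψ : E₀ →* ↥(E.map (Φ Qf) ⊓ Subgroup.centralizer {β}) :=
    MonoidHom.codRestrict ((Φ Qf).comp ((D.bc hQf hP₀f).comp E₀.subtype)) _ fun B =>
      ⟨⟨_, (hmem B.1).2 B.2, rfl⟩, Subgroup.mem_centralizer_singleton_iff.2
        (D.bc_commute hQf hP₀f (fun a => (hι _).2 ⟨a, rfl⟩) hβ B.1)⟩
  have hψ : Function.Surjective ψ := by
    rintro ⟨y, ⟨g, hg, rfl⟩, hy⟩
    obtain ⟨B, hB⟩ := D.exists_bc hQf hP₀f hι hβ g (Subgroup.mem_centralizer_singleton_iff.1 hy)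
    refine ⟨⟨B, (hmem B).1 ?_⟩, Subtype.ext hB⟩
    have h : g⁻¹ * D.bc hQf hP₀f B ∈ E := hE (by rw [MonoidHom.mem_ker, map_mul, map_inv, hB, inv_mul_cancel])
    simpa using mul_mem hg h
  let χ : E₀ →* ↥(E₀.map (Φ P₀f)) := (Φ P₀f).subgroupMap E₀
  have hk : χ.ker = ψ.ker := by
    ext B
    rw [MonoidHom.mem_ker, MonoidHom.mem_ker, Subtype.ext_iff, Subtype.ext_iff]
    exact (D.bc_phi_one hQf hP₀f B.1).symm
  exact ⟨((QuotientGroup.quotientKerEquivOfSurjective ψ hψ).symm.trans (QuotientGroup.quotientMulEquivOfEq hk.symm)).trans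
    (QuotientGroup.quotientKerEquivOfSurjective χ ((Φ P₀f).subgroupMap_surjective E₀))⟩

end Desc

section Std

variable {F : Type u} [Field F] [Fintype F] {ι : Type} [Fintype ι] [DecidableEq ι] {Qf : (ι → F) → F}
  (Q : QuadraticForm F (ι → F)) (hQf : ∀ v, Qf v = Q v) [hQ : OCtx Q]
include hQf hQ

/-- The similitude classes form a normal subgroup. -/
theorem pgoAut_normal : (Cfsg.pgoAut F Qf).Normal := by
  obtain ⟨π, -, hk⟩ := exists_field_hom Q hQf
  rw [show Cfsg.pgoAut F Qf = π.ker from Subgroup.ext fun β => (hk β).symm]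
  infer_instance

/-- The field component has the order of a prime-order element. -/
theorem orderOf_field {A : GL ι F} {σ : F ≃+* F} {β : MulAut (Cfsg.POmega F Qf)} (h : IsSemiInduced Qf A σ β)
    {r : ℕ} (hr : r.Prime) (hβ : orderOf β = r) (hne : σ ≠ RingEquiv.refl F) : orderOf σ = r := by
  obtain ⟨π, hπ, -⟩ := exists_field_hom Q hQf
  haveI : Fact r.Prime := ⟨hr⟩
  refine orderOf_eq_prime ?_ hne
  rw [← hπ A σ β h, ← map_pow, ← hβ, pow_orderOf_eq_one, map_one]

/-- A conjugate of a standard field automorphism, for a form over the prime field, is one under a similitude. -/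
theorem conj_std (hstd : ∀ (σ : F ≃+* F) v, Qf (fun i => σ (v i)) = σ (Qf v)) (α : MulAut (Cfsg.POmega F Qf))
    {σ : F ≃+* F} {φ : MulAut (Cfsg.POmega F Qf)} (hφ : IsSemiInduced Qf (1 : GL ι F) σ φ) :
    ∃ k ∈ Cfsg.pgoAut F Qf, α⁻¹ * φ * α = k * φ * k⁻¹ := by
  obtain ⟨π, hπ, hk⟩ := exists_field_hom Q hQf
  obtain ⟨sec, hsec⟩ := exists_std_section (Qf := Qf) hstd
  have hN := pgoAut_normal Q hQf
  have hcom : sec (π α) * φ = φ * sec (π α) := by
    have e : φ = sec σ := induced_unique hφ (hsec σ)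
    haveI : IsCyclic (F ≃+* F) := by
      obtain ⟨c, hc⟩ := CharP.exists F
      obtain ⟨n, hcp, hcn⟩ := FiniteField.card F c
      haveI : Fact c.Prime := ⟨hcp⟩
      obtain ⟨e⟩ := AutPSL.ringAut_cyclic (F := F) hcn
      exact e.symm.isCyclic.1 inferInstance
    rw [e, ← map_mul, ← map_mul]
    exact congrArg sec (IsCyclic.commGroup.mul_comm _ _)
  set a := α * (sec (π α))⁻¹
  have ha : a ∈ Cfsg.pgoAut F Qf := (hk _).1 (by
    rw [map_mul, map_inv, hπ _ _ _ (hsec (π α)), mul_inv_cancel])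
  refine ⟨(sec (π α))⁻¹ * a⁻¹ * sec (π α), by simpa using hN.conj_mem _ (inv_mem ha) (sec (π α))⁻¹, ?_⟩
  have e1 : sec (π α) * φ * (sec (π α))⁻¹ = φ := by rw [hcom, mul_inv_cancel_right]
  calc α⁻¹ * φ * α = (sec (π α))⁻¹ * a⁻¹ * φ * a * sec (π α) := by simp only [a]; group
    _ = (sec (π α))⁻¹ * a⁻¹ * (sec (π α) * φ * (sec (π α))⁻¹) * a * sec (π α) := by rw [e1]
    _ = _ := by group

end Std

end CfsgLib.KnownC.AutPOmega
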