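import Cfsg.Agent.Lib.KnownC.AutPOmega.OddOut
import Cfsg.Agent.Lib.KnownC.AutPSL.Descent
import Cfsg.Agent.Lib.KnownC.FieldExt

/-!
# Descent for automorphisms with a non-trivial field component

An automorphism of prime order in the coset of a field automorphism is, after a change of coordinates, the
standard field automorphism of a form defined over the fixed field.
-/

set_option autoImplicit false
set_option linter.unusedSectionVars false
set_option linter.style.haveILetI false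

open Module QuadraticMap
open scoped Matrix

namespace CfsgLib.KnownC.AutPOmega

open CfsgLib.Orth CfsgLib.Classical
open CfsgLib.KnownC.POmegaAut (GS Φ lin lin_apply mkGS lin_mkGS lin_injective exists_mult IsSemiInduced
  induced_iff semi_mul scalars scalars_le_ker map_mulVec' mulVec_cancel)

universe u v

section Matrices

variable {F : Type u} [Field F] {ι : Type} [Fintype ι] [DecidableEq ι]

/-- Scalar matrices. -/
def sclM : Fˣ →* GL ι F := Units.map (algebraMap F (Matrix ι ι F)).toMonoidHom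

theorem sclM_coe (c : Fˣ) : ((sclM c : GL ι F) : Matrix ι ι F) = (c : F) • 1 :=
  Algebra.algebraMap_eq_smul_one _

theorem sclM_comm (c : Fˣ) (A : GL ι F) : sclM c * A = A * sclM c := Units.ext (Algebra.commutes _ _)

theorem map_sclM (σ : F ≃+* F) (c : Fˣ) :
    Matrix.GeneralLinearGroup.map σ.toRingHom (sclM c : GL ι F) = sclM (Units.map σ.toRingHom.toMonoidHom c) := by
  refine Units.ext ?_
  rw [sclM_coe]
  show ((sclM c : GL ι F) : Matrix ι ι F).map σ = σ (c : F) • 1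
  rw [sclM_coe]
  ext i j
  simp [Matrix.one_apply, apply_ite σ]

theorem map_glmap (σ τ : F ≃+* F) (A : GL ι F) :
    Matrix.GeneralLinearGroup.map σ.toRingHom (Matrix.GeneralLinearGroup.map τ.toRingHom A) =
      Matrix.GeneralLinearGroup.map (τ.trans σ).toRingHom A := Units.ext (Matrix.ext fun _ _ => rfl)

/-- The twisted power `A σ(A) ⋯ σ^(k-1)(A)`. -/
def sPow (A : GL ι F) (σ : F ≃+* F) : ℕ → GL ι F
  | 0 => 1
  | k + 1 => A * Matrix.GeneralLinearGroup.map σ.toRingHom (sPow A σ k)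

theorem sPow_succ' (A : GL ι F) (σ : F ≃+* F) (k : ℕ) :
    sPow A σ (k + 1) = sPow A σ k * Matrix.GeneralLinearGroup.map (σ ^ k).toRingHom A := by
  induction k with
  | zero =>
    show A * Matrix.GeneralLinearGroup.map σ.toRingHom 1 = 1 * _
    rw [map_one, mul_one, one_mul]
    exact Units.ext (Matrix.ext fun _ _ => rfl)
  | succ k ih =>
    show A * Matrix.GeneralLinearGroup.map σ.toRingHom (sPow A σ (k + 1)) = _
    conv_lhs => rw [ih, map_mul, map_glmap]
    rw [← mul_assoc, pow_succ']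
    rfl

theorem sPow_scl (c : Fˣ) (A : GL ι F) (σ : F ≃+* F) (k : ℕ) (w : Fˣ) (hw : (w : F) = AutPSL.nrm σ k c) :
    sPow (sclM c * A) σ k = sclM w * sPow A σ k := by
  induction k generalizing w with
  | zero => rw [show w = 1 from Units.ext hw, map_one, one_mul]; rfl
  | succ k ih =>
    have hne : AutPSL.nrm σ k c ≠ 0 := fun h0 => w.ne_zero (by rw [hw, AutPSL.nrm, h0, map_zero, mul_zero])
    have h1 := ih (Units.mk0 _ hne) rfl
    have hw' : w = c * Units.map σ.toRingHom.toMonoidHom (Units.mk0 _ hne) := Units.ext hw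
    show sclM c * A * Matrix.GeneralLinearGroup.map σ.toRingHom (sPow (sclM c * A) σ k) =
      sclM w * (A * Matrix.GeneralLinearGroup.map σ.toRingHom (sPow A σ k))
    rw [h1, map_mul (Matrix.GeneralLinearGroup.map σ.toRingHom), map_sclM, hw', map_mul sclM, mul_assoc (sclM c) A,
      ← mul_assoc A, ← sclM_comm, mul_assoc, mul_assoc]

/-- Lang's theorem for an arbitrary index type. -/
theorem exists_fixed_frame (A : GL ι F) (σ : F ≃+* F) {r : ℕ} (hσ : orderOf σ = r) (hr : 1 ≤ r)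
    (hA : sPow A σ r = 1) : ∃ h : GL ι F, A * Matrix.GeneralLinearGroup.map σ.toRingHom h = h := by
  let R : GL ι F ≃* GL (Fin (Fintype.card ι)) F :=
    Units.mapEquiv (Matrix.reindexAlgEquiv F F (Fintype.equivFin ι)).toMulEquiv
  have hR : ∀ g : GL ι F, R (Matrix.GeneralLinearGroup.map σ.toRingHom g) =
      Matrix.GeneralLinearGroup.map σ.toRingHom (R g) := fun g => Units.ext (Matrix.ext fun _ _ => rfl)
  have hpow : ∀ k, R (sPow A σ k) = AutPSL.semiPow (R A) σ k := fun k => by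
    induction k with
    | zero => exact map_one R
    | succ k ih =>
      show R (A * _) = R A * _
      rw [map_mul R, hR, ih]
  obtain ⟨h, hh⟩ := AutPSL.exists_descent (R A) σ hσ hr (by rw [← hpow, hA, map_one])
  exact ⟨R.symm h, R.injective (by rw [map_mul R, hR, R.apply_symm_apply, hh])⟩

theorem mulVec_comp {F₀ : Type v} [Field F₀] (emb : F₀ →+* F) {κ : Type} [Fintype κ] [DecidableEq κ]
    (M : Matrix κ κ F₀) (w : κ → F₀) : M.map emb *ᵥ (⇑emb ∘ w) = ⇑emb ∘ (M *ᵥ w) := by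
  funext i
  exact (RingHom.map_mulVec emb M w i).symm

end Matrices

section Semi

variable {F : Type u} [Field F] [Fintype F] {ι : Type} [Fintype ι] [DecidableEq ι] {Qf : (ι → F) → F}
  (Q : QuadraticForm F (ι → F)) (hQf : ∀ v, Qf v = Q v)

theorem gs_induced (g : GS Qf) : IsSemiInduced Qf g.1 (RingEquiv.refl F) (Φ Qf g) := by
  obtain ⟨d, hd⟩ := g.2
  exact ⟨⟨d, fun v => hd v⟩, (induced_iff Qf g _).2 rfl⟩

theorem semi_left (g : GS Qf) {A : GL ι F} {σ : F ≃+* F} {β : MulAut (Cfsg.POmega F Qf)}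
    (h : IsSemiInduced Qf A σ β) : IsSemiInduced Qf (g.1 * A) σ (Φ Qf g * β) := by
  have h1 := semi_mul Qf (gs_induced g) h
  rwa [show Matrix.GeneralLinearGroup.map (RingEquiv.refl F).toRingHom A = A from
    Units.ext (Matrix.ext fun _ _ => rfl), show σ.trans (RingEquiv.refl F) = σ from RingEquiv.ext fun _ => rfl] at h1

theorem semi_right {A : GL ι F} {σ : F ≃+* F} {β : MulAut (Cfsg.POmega F Qf)}
    (h : IsSemiInduced Qf A σ β) (g : GS Qf) :
    IsSemiInduced Qf (A * Matrix.GeneralLinearGroup.map σ.toRingHom g.1) σ (β * Φ Qf g) := by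
  have h1 := semi_mul Qf h (gs_induced g)
  rwa [show (RingEquiv.refl F).trans σ = σ from RingEquiv.ext fun _ => rfl] at h1

theorem semi_iterate {A : GL ι F} {σ : F ≃+* F} {β : MulAut (Cfsg.POmega F Qf)} (h : IsSemiInduced Qf A σ β) :
    ∀ k : ℕ, IsSemiInduced Qf (sPow A σ k) (σ ^ k) (β ^ k)
  | 0 => by rw [pow_zero, pow_zero]; exact one_induced
  | k + 1 => by rw [pow_succ', pow_succ']; exact semi_mul Qf h (semi_iterate h k)

include hQf in
theorem semi_scl (c : Fˣ) {A : GL ι F} {σ : F ≃+* F} {β : MulAut (Cfsg.POmega F Qf)}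
    (h : IsSemiInduced Qf A σ β) : IsSemiInduced Qf (sclM c * A) σ β := by
  let g : GS Qf := ⟨sclM c, c * c, fun v => by
    rw [sclM_coe, Matrix.smul_mulVec, Matrix.one_mulVec, hQf, hQf, quad_smul']
    simp⟩
  have hg : Φ Qf g = 1 := MonoidHom.mem_ker.1 (scalars_le_ker Qf ⟨c, sclM_coe c⟩)
  have h1 := semi_left g h
  rwa [hg, one_mul] at h1

variable [hQ : OCtx0 Q]
include hQf hQ

theorem phi_eq_one (g : GS Qf) : Φ Qf g = 1 ↔ ∃ c : F, (g.1 : Matrix ι ι F) = c • 1 := by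
  refine ⟨fun h => ?_, fun hc => MonoidHom.mem_ker.1 (scalars_le_ker Qf hc)⟩
  obtain ⟨hp, hi⟩ := gs_induced g
  rw [h] at hi
  exact (scalar_of_induced_one Q hQf hp hi).2

theorem semi_same {A A' : GL ι F} {σ : F ≃+* F} {β : MulAut (Cfsg.POmega F Qf)}
    (h : IsSemiInduced Qf A σ β) (h' : IsSemiInduced Qf A' σ β) : ∃ c : Fˣ, A' = sclM c * A := by
  obtain ⟨μ, hμ⟩ := id h.1
  obtain ⟨μ', hμ'⟩ := id h'.1
  let g : GS Qf := ⟨A' * A⁻¹, μ' * μ⁻¹, fun v => by
    obtain ⟨w, hw⟩ : ∃ w : ι → F, (fun i => σ (w i)) = ((A⁻¹ : GL ι F) : Matrix ι ι F) *ᵥ v :=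
      ⟨fun i => σ.symm ((((A⁻¹ : GL ι F) : Matrix ι ι F) *ᵥ v) i), funext fun i => σ.apply_symm_apply _⟩
    have h1 := hμ w
    rw [hw, Matrix.mulVec_mulVec, ← Units.val_mul, mul_inv_cancel, Units.val_one, Matrix.one_mulVec] at h1
    rw [Units.val_mul, ← Matrix.mulVec_mulVec, ← hw, hμ', h1, Units.val_mul, Units.val_inv_eq_inv_val]
    have := μ.ne_zero
    field_simp⟩
  have h2 := semi_left g h
  rw [show g.1 * A = A' from inv_mul_cancel_right A' A] at h2
  obtain ⟨c, hc⟩ := (phi_eq_one Q hQf g).1 (mul_eq_right.1 (induced_unique h2 h'))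
  rcases isEmpty_or_nonempty ι with hι | ⟨⟨i⟩⟩
  · exact ⟨1, Units.ext (Matrix.ext fun i => hι.elim i)⟩
  have hc0 : c ≠ 0 := fun h0 => by
    have h3 : (g.1 : Matrix ι ι F) * ((g.1⁻¹ : GL ι F) : Matrix ι ι F) = 1 := Units.mul_inv _
    rw [hc, h0, zero_smul, zero_mul] at h3
    have h4 := congrFun (congrFun h3 i) i
    rw [Matrix.zero_apply, Matrix.one_apply_eq] at h4
    exact zero_ne_one h4
  refine ⟨Units.mk0 c hc0, ?_⟩
  have e : g.1 = sclM (Units.mk0 c hc0) := Units.ext (by rw [hc, sclM_coe]; rfl)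
  rw [← e]
  exact (inv_mul_cancel_right A' A).symm

/-- The data of an element of prime order `r` over a field automorphism of order `r`. -/
theorem exists_normalised {A : GL ι F} {σ : F ≃+* F} {β : MulAut (Cfsg.POmega F Qf)}
    (h : IsSemiInduced Qf A σ β) {r : ℕ} (hσ : orderOf σ = r) (hr : 1 ≤ r) (hβ : β ^ r = 1) :
    ∃ A' : GL ι F, IsSemiInduced Qf A' σ β ∧ sPow A' σ r = 1 := by
  have h1 := semi_iterate h r
  have hσr : σ ^ r = 1 := hσ ▸ pow_orderOf_eq_one σ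
  rw [hσr, hβ] at h1
  obtain ⟨c, hc⟩ := semi_same Q hQf one_induced h1
  rw [mul_one] at hc
  have hι : Nonempty ι := by
    rw [← Fintype.card_pos_iff]
    have := hQ.seven
    rw [Module.finrank_fintype_fun_eq_card] at this
    omega
  obtain ⟨i⟩ := hι
  have hfix : σ (c : F) = c := by
    have h2 : A * Matrix.GeneralLinearGroup.map σ.toRingHom (sPow A σ r) = sPow A σ (r + 1) := rfl
    rw [sPow_succ', hσr, hc, map_sclM, ← sclM_comm] at h2
    rw [show Matrix.GeneralLinearGroup.map (1 : F ≃+* F).toRingHom A = A from Units.ext (Matrix.ext fun _ _ => rfl)] at h2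
    have h3 := congrArg (fun M : GL ι F => (M : Matrix ι ι F) i i) (mul_right_cancel h2)
    simpa [sclM_coe] using h3
  obtain ⟨w, hw⟩ := AutPSL.exists_nrm σ hσ hr ((c⁻¹ : Fˣ) : F) (by rw [Units.val_inv_eq_inv_val, map_inv₀, hfix])
  have hw0 : w ≠ 0 := fun h0 => (c⁻¹).ne_zero (by
    obtain ⟨k, rfl⟩ : ∃ k, r = k + 1 := ⟨r - 1, by omega⟩
    rw [← hw, h0]; simp [AutPSL.nrm])
  refine ⟨sclM (Units.mk0 w hw0) * A, semi_scl Q hQf _ h, ?_⟩
  rw [sPow_scl (Units.mk0 w hw0) A σ r c⁻¹ hw.symm, hc, ← map_mul, inv_mul_cancel, map_one]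

end Semi

section Desc

variable {F : Type u} [Field F] [Fintype F] {ι : Type} [Fintype ι] [DecidableEq ι] {Qf : (ι → F) → F}
  {F₀ : Type v} [Field F₀] {κ : Type} [Fintype κ] [DecidableEq κ]

/-- `A σ` is the standard field automorphism in the coordinates given by `e`, the form there being defined over
the fixed field. -/
structure Desc (Q : QuadraticForm F (ι → F)) (A : GL ι F) (σ : F ≃+* F) (emb : F₀ →+* F)
    (P₀ : QuadraticForm F₀ (κ → F₀)) (P : QuadraticForm F (κ → F)) where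
  /-- The coordinates. -/
  e : (κ → F) ≃ₗ[F] (ι → F)
  /-- The scale. -/
  z : F
  hz : z ≠ 0
  hQ : ∀ v, Q (e v) = z * P v
  hfix : ∀ v, (A : Matrix ι ι F) *ᵥ (⇑σ ∘ e v) = e (⇑σ ∘ v)
  hemb : ∀ w, P (⇑emb ∘ w) = emb (P₀ w)

variable {Q : QuadraticForm F (ι → F)} {A : GL ι F} {σ : F ≃+* F} {emb : F₀ →+* F}
  {P₀ : QuadraticForm F₀ (κ → F₀)} {P : QuadraticForm F (κ → F)} {P₀f : (κ → F₀) → F₀}
  (hQf : ∀ v, Qf v = Q v) (hP₀f : ∀ w, P₀f w = P₀ w)

theorem Desc.map_simil (D : Desc Q A σ emb P₀ P) {M : Matrix κ κ F₀} {μ : F₀}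
    (hM : ∀ w, P₀ (M *ᵥ w) = μ * P₀ w) (v : κ → F) : P (M.map emb *ᵥ v) = emb μ * P v := by
  have hsing : ∀ i : κ, (Pi.single i 1 : κ → F) = ⇑emb ∘ Pi.single i 1 := fun i => by
    ext j; simp [Pi.single_apply, apply_ite emb]
  have hval : ∀ w, P (M.map emb *ᵥ (⇑emb ∘ w)) = emb μ * P (⇑emb ∘ w) := fun w => by
    rw [mulVec_comp, D.hemb, D.hemb, hM, map_mul]
  refine FieldExt.quad_ext (P.comp (Matrix.toLin' (M.map emb))) (emb μ • P) (fun i => ?_) (fun i j => ?_) v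
  · rw [QuadraticMap.comp_apply, Matrix.toLin'_apply, QuadraticMap.smul_apply, smul_eq_mul, hsing, hval]
  · simp only [polar, QuadraticMap.comp_apply, Matrix.toLin'_apply, QuadraticMap.smul_apply, smul_eq_mul]
    rw [hsing, hsing, show ⇑emb ∘ Pi.single i 1 + ⇑emb ∘ Pi.single j 1 =
      ⇑emb ∘ (Pi.single i 1 + Pi.single j 1 : κ → F₀) from funext fun l => (map_add emb _ _).symm,
      hval, hval, hval]

/-- A matrix over the fixed field, in the coordinates of the datum. -/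
noncomputable def Desc.linMap (D : Desc Q A σ emb P₀ P) : GL κ F₀ →* ((ι → F) ≃ₗ[F] (ι → F)) where
  toFun g := D.e.symm.trans (((LinearMap.GeneralLinearGroup.generalLinearEquiv F (κ → F))
    (Matrix.GeneralLinearGroup.toLin (Matrix.GeneralLinearGroup.map emb g))).trans D.e)
  map_one' := LinearEquiv.ext fun v => by simp
  map_mul' g h := LinearEquiv.ext fun v => by simp [LinearMap.GeneralLinearGroup.generalLinearEquiv]

theorem Desc.linMap_apply (D : Desc Q A σ emb P₀ P) (g : GL κ F₀) (v : κ → F) :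
    D.linMap g (D.e v) = D.e ((g : Matrix κ κ F₀).map emb *ᵥ v) := by
  simp [Desc.linMap, LinearMap.GeneralLinearGroup.generalLinearEquiv]

include hQf hP₀f in
theorem Desc.linMap_simil (D : Desc Q A σ emb P₀ P) (g : GS P₀f) :
    ∃ μ : F, μ ≠ 0 ∧ IsSimil Q (D.linMap g.1) μ := by
  obtain ⟨μ, hμ⟩ := g.2
  refine ⟨emb μ, (map_ne_zero emb).2 μ.ne_zero, fun v => ?_⟩
  obtain ⟨w, rfl⟩ := D.e.surjective v
  rw [D.linMap_apply, D.hQ, D.hQ, D.map_simil (μ := (μ : F₀)) (fun w => by rw [← hP₀f, ← hP₀f]; exact hμ w)]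
  ring

/-- Base change of similitudes along the datum. -/
noncomputable def Desc.bc (D : Desc Q A σ emb P₀ P) : GS P₀f →* GS Qf :=
  MonoidHom.mk' (fun g => mkGS Qf Q (D.linMap g.1) (D.linMap_simil hQf hP₀f g).choose_spec.1
      (D.linMap_simil hQf hP₀f g).choose_spec.2 hQf) fun g h => lin_injective Qf (by
    rw [lin_mkGS, map_mul (lin Qf), lin_mkGS, lin_mkGS, show (g * h).1 = g.1 * h.1 from rfl, map_mul D.linMap])

theorem Desc.lin_bc (D : Desc Q A σ emb P₀ P) (g : GS P₀f) : lin Qf (D.bc hQf hP₀f g) = D.linMap g.1 :=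
  lin_mkGS Qf Q hQf (D.linMap g.1) (D.linMap_simil hQf hP₀f g).choose_spec.1
    (D.linMap_simil hQf hP₀f g).choose_spec.2

theorem Desc.bc_apply (D : Desc Q A σ emb P₀ P) (g : GS P₀f) (v : κ → F) :
    lin Qf (D.bc hQf hP₀f g) (D.e v) = D.e ((g.1 : Matrix κ κ F₀).map emb *ᵥ v) := by
  rw [D.lin_bc, D.linMap_apply]

theorem Desc.bc_simil (D : Desc Q A σ emb P₀ P) (g : GS P₀f) {μ : F₀} (hμ : IsSimil P₀ (lin P₀f g) μ) :
    IsSimil Q (lin Qf (D.bc hQf hP₀f g)) (emb μ) := fun v => by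
  obtain ⟨w, rfl⟩ := D.e.surjective v
  rw [D.bc_apply, D.hQ, D.hQ, D.map_simil (μ := μ) (fun w => by rw [← lin_apply]; exact hμ w)]
  ring

theorem Desc.bc_det (D : Desc Q A σ emb P₀ P) (g : GS P₀f) :
    ((D.bc hQf hP₀f g).1 : Matrix ι ι F).det = emb (g.1 : Matrix κ κ F₀).det := by
  rw [← POmegaAut.det_lin, show ((lin Qf (D.bc hQf hP₀f g) : (ι → F) ≃ₗ[F] (ι → F)) : (ι → F) →ₗ[F] (ι → F)) =
      (D.e : (κ → F) →ₗ[F] (ι → F)) ∘ₗ Matrix.toLin' ((g.1 : Matrix κ κ F₀).map emb) ∘ₗ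
        (D.e.symm : (ι → F) →ₗ[F] (κ → F)) from LinearMap.ext fun v => by
    show lin Qf (D.bc hQf hP₀f g) v = D.e (((g.1 : Matrix κ κ F₀).map emb) *ᵥ D.e.symm v)
    rw [← D.bc_apply hQf hP₀f, LinearEquiv.apply_symm_apply], LinearMap.det_conj, LinearMap.det_toLin']
  exact (RingHom.map_det emb _).symm

variable [hQ : OCtx0 Q]

include hQ in
/-- The base change of a similitude is scalar only if it is. -/
theorem Desc.bc_phi_one [hP : OCtx0 P₀] [Fintype F₀] (D : Desc Q A σ emb P₀ P) (g : GS P₀f) :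
    Φ Qf (D.bc hQf hP₀f g) = 1 ↔ Φ P₀f g = 1 := by
  rw [phi_eq_one Q hQf, phi_eq_one P₀ hP₀f]
  constructor
  · rintro ⟨c, hc⟩
    have hκ : Nonempty κ := by
      rw [← Fintype.card_pos_iff]
      have := hP.seven
      rw [Module.finrank_fintype_fun_eq_card] at this
      omega
    obtain ⟨i⟩ := hκ
    have hcol : ∀ v, (g.1 : Matrix κ κ F₀).map emb *ᵥ v = c • v := fun v => by
      refine D.e.injective ?_
      rw [← D.bc_apply hQf hP₀f, lin_apply, hc, Matrix.smul_mulVec, Matrix.one_mulVec, map_smul]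
    have hent : ∀ a b, emb ((g.1 : Matrix κ κ F₀) a b) = if a = b then c else 0 := fun a b => by
      have h := congrFun (hcol (Pi.single b 1)) a
      simpa [Pi.single_apply] using h
    refine ⟨(g.1 : Matrix κ κ F₀) i i, Matrix.ext fun a b => emb.injective ?_⟩
    rw [hent, Matrix.smul_apply, Matrix.one_apply, smul_eq_mul]
    split_ifs with hab
    · rw [mul_one, hent, if_pos rfl]
    · rw [mul_zero, map_zero]
  · rintro ⟨c, hc⟩
    refine ⟨emb c, Matrix.ext_iff_mulVec.2 fun v => ?_⟩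
    obtain ⟨w, rfl⟩ := D.e.surjective v
    rw [← lin_apply, D.bc_apply, hc, Matrix.smul_mulVec, Matrix.one_mulVec, ← map_smul]
    congr 1
    funext a
    simp [Matrix.mulVec, dotProduct, Matrix.one_apply, apply_ite emb]

variable {β : MulAut (Cfsg.POmega F Qf)}

theorem Desc.bc_commute (D : Desc Q A σ emb P₀ P) (hι : ∀ a, σ (emb a) = emb a)
    (hβ : IsSemiInduced Qf A σ β) (g : GS P₀f) :
    Φ Qf (D.bc hQf hP₀f g) * β = β * Φ Qf (D.bc hQf hP₀f g) := by
  have h1 := semi_left (D.bc hQf hP₀f g) hβ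
  have h2 := semi_right hβ (D.bc hQf hP₀f g)
  have e : (D.bc hQf hP₀f g).1 * A = A * Matrix.GeneralLinearGroup.map σ.toRingHom (D.bc hQf hP₀f g).1 := by
    refine Units.ext (Matrix.ext_iff_mulVec.2 fun v => ?_)
    obtain ⟨v', rfl⟩ : ∃ v', ⇑σ ∘ v' = v := ⟨⇑σ.symm ∘ v, funext fun i => σ.apply_symm_apply _⟩
    obtain ⟨w, rfl⟩ := D.e.surjective v'
    rw [Units.val_mul, Units.val_mul, ← Matrix.mulVec_mulVec, ← Matrix.mulVec_mulVec, D.hfix, ← lin_apply,
      D.bc_apply,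
      show ((Matrix.GeneralLinearGroup.map σ.toRingHom (D.bc hQf hP₀f g).1 : GL ι F) : Matrix ι ι F) *ᵥ (⇑σ ∘ D.e w) =
        ⇑σ ∘ (((D.bc hQf hP₀f g).1 : Matrix ι ι F) *ᵥ D.e w) from map_mulVec' σ _ _,
      ← lin_apply, D.bc_apply, D.hfix]
    congr 1
    funext a
    simp [Matrix.mulVec, dotProduct, map_sum, hι]
  rw [e] at h1
  exact induced_unique h1 h2

include hQ in
/-- Whatever commutes is, up to a scalar, defined over the fixed field. -/
theorem Desc.exists_bc [Fintype F₀] [hP : OCtx0 P₀] (D : Desc Q A σ emb P₀ P)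
    (hι : ∀ x, σ x = x ↔ x ∈ Set.range emb) (hβ : IsSemiInduced Qf A σ β) (g : GS Qf)
    (hg : Φ Qf g * β = β * Φ Qf g) :
    ∃ B : GS P₀f, Φ Qf (D.bc hQf hP₀f B) = Φ Qf g := by
  have h1 := semi_left g hβ
  have h2 := semi_right hβ g
  rw [← hg] at h2
  obtain ⟨c, hc⟩ := semi_same Q hQf h1 h2
  set G : Matrix κ κ F := LinearMap.toMatrix' ((D.e.symm : (ι → F) →ₗ[F] (κ → F)) ∘ₗ
    ((lin Qf g : (ι → F) ≃ₗ[F] (ι → F)) : (ι → F) →ₗ[F] (ι → F)) ∘ₗ (D.e : (κ → F) →ₗ[F] (ι → F))) with hG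
  have hGv : ∀ v, D.e (G *ᵥ v) = lin Qf g (D.e v) := fun v => by
    rw [hG, LinearMap.toMatrix'_mulVec]
    exact D.e.apply_symm_apply _
  have hsemi : ∀ v, G.map σ *ᵥ (⇑σ ∘ v) = (c : F) • (G *ᵥ (⇑σ ∘ v)) := fun v => by
    refine D.e.injective ?_
    rw [show G.map σ *ᵥ (⇑σ ∘ v) = ⇑σ ∘ (G *ᵥ v) from map_mulVec' σ _ _, ← D.hfix, hGv, map_smul, hGv, ← D.hfix,
      lin_apply, lin_apply, show (⇑σ ∘ (((g.1 : GL ι F) : Matrix ι ι F) *ᵥ D.e v)) =
        ((Matrix.GeneralLinearGroup.map σ.toRingHom g.1 : GL ι F) : Matrix ι ι F) *ᵥ (⇑σ ∘ D.e v) from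
        (map_mulVec' σ _ _).symm]
    have e := congrArg (fun M : GL ι F => (M : Matrix ι ι F) *ᵥ (⇑σ ∘ D.e v)) hc
    simp only [Units.val_mul, sclM_coe, ← Matrix.mulVec_mulVec, Matrix.smul_mulVec, Matrix.one_mulVec] at e
    exact e
  have hG1 : ∀ a b, σ (G a b) = c * G a b := fun a b => by
    have h := congrFun (hsemi (Pi.single b 1)) a
    rw [show ⇑σ ∘ (Pi.single b 1 : κ → F) = Pi.single b 1 from funext fun i => by
      simp [Pi.single_apply, apply_ite σ]] at h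
    simpa using h
  have hκ : Nonempty κ := by
    rw [← Fintype.card_pos_iff]
    have := hP.seven
    rw [Module.finrank_fintype_fun_eq_card] at this
    omega
  obtain ⟨a, b, hab⟩ : ∃ a b, G a b ≠ 0 := by
    by_contra h
    push Not at h
    obtain ⟨i⟩ := hκ
    have h0 := hGv (Pi.single i 1)
    rw [show G = 0 from Matrix.ext h, Matrix.zero_mulVec, map_zero, eq_comm, LinearEquiv.map_eq_zero_iff,
      LinearEquiv.map_eq_zero_iff] at h0
    simpa using congrFun h0 i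
  set x := G a b
  have hfix : ∀ i j, G i j / x ∈ Set.range emb := fun i j => (hι _).1 (by
    rw [map_div₀, hG1, hG1, mul_div_mul_left _ _ c.ne_zero])
  choose B hB using hfix
  have hBG : ∀ v, (Matrix.of B).map emb *ᵥ v = x⁻¹ • (G *ᵥ v) := fun v => by
    rw [← Matrix.smul_mulVec]
    congr 1
    ext i j
    simp [hB, div_eq_inv_mul]
  have hdet : (Matrix.of B).det ≠ 0 := by
    intro h0
    obtain ⟨v, hv0, hv⟩ := Matrix.exists_mulVec_eq_zero_iff.2 h0
    have h := hBG (⇑emb ∘ v)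
    rw [mulVec_comp, hv] at h
    replace h : x⁻¹ • (G *ᵥ (⇑emb ∘ v)) = 0 := h.symm.trans (funext fun i => map_zero emb)
    rw [smul_eq_zero] at h
    have h' : G *ᵥ (⇑emb ∘ v) = 0 := by
      rcases h with h | h
      · exact absurd (inv_eq_zero.1 h) hab
      · exact h
    have := congrArg D.e h'
    rw [hGv, map_zero, LinearEquiv.map_eq_zero_iff, LinearEquiv.map_eq_zero_iff] at this
    exact hv0 (funext fun i => emb.injective (by simpa using congrFun this i))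
  obtain ⟨μ, hμ0, hμ⟩ := exists_mult Qf Q hQf g
  have hval : ∀ w, emb (P₀ (Matrix.of B *ᵥ w)) = x⁻¹ * x⁻¹ * μ * emb (P₀ w) := fun w => by
    rw [← D.hemb, ← D.hemb, ← mulVec_comp, hBG, quad_smul']
    have h := hμ (D.e (⇑emb ∘ w))
    rw [← hGv, D.hQ, D.hQ] at h
    rw [show P (G *ᵥ (⇑emb ∘ w)) = μ * P (⇑emb ∘ w) from mul_left_cancel₀ D.hz (by linear_combination h)]
    ring
  obtain ⟨w₀, hw₀⟩ : ∃ w, P₀ w ≠ 0 := by
    by_contra h
    push Not at h
    obtain ⟨i⟩ := hκ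
    have := hP.nd.1 (Pi.single i 1) fun y => by simp [polar, h]
    simpa using congrFun this i
  set ν := P₀ (Matrix.of B *ᵥ w₀) / P₀ w₀ with hν
  have hν' : emb ν = x⁻¹ * x⁻¹ * μ := by
    rw [hν, map_div₀, hval, mul_div_cancel_right₀ _ ((map_ne_zero emb).2 hw₀)]
  have hν0 : ν ≠ 0 := fun h0 => by
    rw [h0, map_zero] at hν'
    simp [hμ0, hab] at hν'
  refine ⟨⟨Matrix.GeneralLinearGroup.mkOfDetNeZero (Matrix.of B) hdet, Units.mk0 ν hν0, fun w => emb.injective ?_⟩, ?_⟩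
  · show emb (P₀f (Matrix.of B *ᵥ w)) = emb (ν * P₀f w)
    rw [hP₀f, hP₀f, map_mul, hval]
    rw [hν']
  · rw [← mul_inv_eq_one, ← map_inv, ← map_mul, phi_eq_one Q hQf]
    refine ⟨x⁻¹, Matrix.ext_iff_mulVec.2 fun v => ?_⟩
    obtain ⟨v', rfl⟩ := (lin Qf g).surjective v
    obtain ⟨w, rfl⟩ := D.e.surjective v'
    rw [← lin_apply, map_mul, LinearEquiv.mul_apply, map_inv, show (lin Qf g)⁻¹ (lin Qf g (D.e w)) = D.e w from
      (lin Qf g).symm_apply_apply _, D.bc_apply, Matrix.smul_mulVec, Matrix.one_mulVec, ← hGv, ← map_smul]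
    exact congrArg D.e (hBG w)

include hQf hQ in
/-- Two such elements over one form are conjugate by a similitude. -/
theorem Desc.conj {A' : GL ι F} {β' : MulAut (Cfsg.POmega F Qf)} (D : Desc Q A σ emb P₀ P)
    (D' : Desc Q A' σ emb P₀ P) (hβ : IsSemiInduced Qf A σ β) (hβ' : IsSemiInduced Qf A' σ β') :
    ∃ g : GS Qf, β' = Φ Qf g * β * (Φ Qf g)⁻¹ ∧ ∀ v, lin Qf g (D.e v) = D'.e v := by
  set l := D.e.symm.trans D'.e
  have hl : IsSimil Q l (D'.z / D.z) := fun v => by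
    obtain ⟨w, rfl⟩ := D.e.surjective v
    show Q (D'.e (D.e.symm (D.e w))) = _
    rw [LinearEquiv.symm_apply_apply, D'.hQ, D.hQ]
    field_simp [D.hz]
  set g := mkGS Qf Q l (div_ne_zero D'.hz D.hz) hl hQf
  have hg : ∀ v, lin Qf g (D.e v) = D'.e v := fun v => by
    rw [lin_mkGS]; exact congrArg D'.e (D.e.symm_apply_apply v)
  refine ⟨g, ?_, hg⟩
  rw [eq_mul_inv_iff_mul_eq]
  have h1 := semi_left g hβ
  have h2 := semi_right hβ' g
  have e : A' * Matrix.GeneralLinearGroup.map σ.toRingHom g.1 = g.1 * A := by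
    refine Units.ext (Matrix.ext_iff_mulVec.2 fun v => ?_)
    obtain ⟨v', rfl⟩ : ∃ v', ⇑σ ∘ v' = v := ⟨⇑σ.symm ∘ v, funext fun i => σ.apply_symm_apply _⟩
    obtain ⟨w, rfl⟩ := D.e.surjective v'
    rw [Units.val_mul, Units.val_mul, ← Matrix.mulVec_mulVec, ← Matrix.mulVec_mulVec, D.hfix, ← lin_apply, hg,
      show ((Matrix.GeneralLinearGroup.map σ.toRingHom g.1 : GL ι F) : Matrix ι ι F) *ᵥ (⇑σ ∘ D.e w) =
        ⇑σ ∘ ((g.1 : Matrix ι ι F) *ᵥ D.e w) from map_mulVec' σ _ _,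
      ← lin_apply, hg, D'.hfix]
  rw [e] at h2
  exact induced_unique h2 h1

end Desc

section Exists

variable {F : Type u} [Field F] [Fintype F] {ι : Type} [Fintype ι] [DecidableEq ι] {Qf : (ι → F) → F}
  (Q : QuadraticForm F (ι → F)) (hQf : ∀ v, Qf v = Q v)
  {F₀ : Type v} [Field F₀] {emb : F₀ →+* F}

/-- Base change of a linear equivalence along `emb`. -/
theorem exists_extend (emb : F₀ →+* F) {κ κ' : Type} [Fintype κ] [DecidableEq κ] [Fintype κ'] [DecidableEq κ']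
    (k : (κ → F₀) ≃ₗ[F₀] (κ' → F₀)) :
    ∃ K : (κ → F) ≃ₗ[F] (κ' → F), (∀ w, K (⇑emb ∘ w) = ⇑emb ∘ k w) ∧
      ∀ (σ : F ≃+* F), (∀ a, σ (emb a) = emb a) → ∀ v, K (⇑σ ∘ v) = ⇑σ ∘ K v := by
  set M := LinearMap.toMatrix' (k : (κ → F₀) →ₗ[F₀] (κ' → F₀))
  set N := LinearMap.toMatrix' (k.symm : (κ' → F₀) →ₗ[F₀] (κ → F₀))
  have hMN : M.map emb * N.map emb = 1 := by
    rw [← Matrix.map_mul, ← LinearMap.toMatrix'_comp, LinearEquiv.comp_symm, LinearMap.toMatrix'_id,
      Matrix.map_one _ (map_zero emb) (map_one emb)]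
  have hNM : N.map emb * M.map emb = 1 := by
    rw [← Matrix.map_mul, ← LinearMap.toMatrix'_comp, LinearEquiv.symm_comp, LinearMap.toMatrix'_id,
      Matrix.map_one _ (map_zero emb) (map_one emb)]
  let K : (κ → F) ≃ₗ[F] (κ' → F) := LinearEquiv.ofLinear (Matrix.toLin' (M.map emb)) (Matrix.toLin' (N.map emb))
    (by rw [← Matrix.toLin'_mul, hMN, Matrix.toLin'_one]) (by rw [← Matrix.toLin'_mul, hNM, Matrix.toLin'_one])
  refine ⟨K, fun w => ?_, fun σ hσ v => ?_⟩
  · funext i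
    show (M.map emb *ᵥ (⇑emb ∘ w)) i = emb (k w i)
    rw [← RingHom.map_mulVec emb M w i, LinearMap.toMatrix'_mulVec]
    rfl
  · funext i
    show (M.map emb *ᵥ (⇑σ ∘ v)) i = σ ((M.map emb *ᵥ v) i)
    simp [Matrix.mulVec, dotProduct, map_sum, hσ]

variable [hQ : OCtx0 Q]
include hQf hQ

/-- Every element of order `r` over a field automorphism of order `r` has a descent datum. -/
theorem exists_desc {A : GL ι F} {σ : F ≃+* F} {β : MulAut (Cfsg.POmega F Qf)}
    (h : IsSemiInduced Qf A σ β) {r : ℕ} (hσ : orderOf σ = r) (hr : 1 ≤ r) (hβ : β ^ r = 1)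
    (hι : ∀ x, σ x = x ↔ x ∈ Set.range emb) :
    ∃ (A' : GL ι F) (P₀ : QuadraticForm F₀ (ι → F₀)) (P : QuadraticForm F (ι → F)),
      IsSemiInduced Qf A' σ β ∧ (QuadraticMap.polarBilin P₀).Nondegenerate ∧
      Nonempty (Desc Q A' σ emb P₀ P) := by
  obtain ⟨A', hA', hA1⟩ := exists_normalised Q hQf h hσ hr hβ
  obtain ⟨k, hk⟩ := exists_fixed_frame A' σ hσ hr hA1
  obtain ⟨μ, hμ⟩ := id hA'.1
  let e : (ι → F) ≃ₗ[F] (ι → F) :=
    LinearMap.GeneralLinearGroup.generalLinearEquiv F (ι → F) (Matrix.GeneralLinearGroup.toLin k)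
  have he : ∀ v, e v = (k : Matrix ι ι F) *ᵥ v := fun v => by
    simp [e, LinearMap.GeneralLinearGroup.generalLinearEquiv]
  have hfix : ∀ v, (A' : Matrix ι ι F) *ᵥ (⇑σ ∘ e v) = e (⇑σ ∘ v) := fun v => by
    rw [he, he, show ⇑σ ∘ ((k : Matrix ι ι F) *ᵥ v) =
      ((Matrix.GeneralLinearGroup.map σ.toRingHom k : GL ι F) : Matrix ι ι F) *ᵥ (⇑σ ∘ v) from
        (map_mulVec' σ _ _).symm, Matrix.mulVec_mulVec, ← Units.val_mul, hk]
  have hσw : ∀ w : ι → F₀, ⇑σ ∘ (⇑emb ∘ w) = ⇑emb ∘ w := fun w => funext fun i => (hι _).2 ⟨w i, rfl⟩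
  have hmu : ∀ w : ι → F₀, Q (e (⇑emb ∘ w)) = μ * σ (Q (e (⇑emb ∘ w))) := fun w => by
    conv_lhs => rw [← hσw w, ← hfix]
    rw [← hQf, ← hQf]
    exact hμ _
  obtain ⟨w₁, hw₁⟩ : ∃ w : ι → F₀, Q (e (⇑emb ∘ w)) ≠ 0 := by
    by_contra hall
    push Not at hall
    have h0 : ∀ v, (Q.comp (e : (ι → F) →ₗ[F] (ι → F))) v = (0 : QuadraticForm F (ι → F)) v := by
      have hsing : ∀ i : ι, (Pi.single i 1 : ι → F) = ⇑emb ∘ Pi.single i 1 := fun i => by
        ext j; simp [Pi.single_apply, apply_ite emb]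
      refine FieldExt.quad_ext _ _ (fun i => ?_) fun i j => ?_
      · rw [QuadraticMap.comp_apply, hsing]; exact hall _
      · simp only [polar, QuadraticMap.comp_apply, QuadraticMap.zero_apply, LinearEquiv.coe_coe]
        rw [hsing, hsing, show ⇑emb ∘ Pi.single i 1 + ⇑emb ∘ Pi.single j 1 =
          ⇑emb ∘ (Pi.single i 1 + Pi.single j 1 : ι → F₀) from funext fun l => (map_add emb _ _).symm,
          hall, hall, hall]
    obtain ⟨i⟩ : Nonempty ι := by
      rw [← Fintype.card_pos_iff]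
      have := hQ.seven
      rw [Module.finrank_fintype_fun_eq_card] at this
      omega
    have hz : ∀ v, Q v = 0 := fun v => by
      obtain ⟨w, rfl⟩ := e.surjective v
      exact h0 w
    have := hQ.nd.1 (Pi.single i 1) fun y => by simp [polar, hz]
    simpa using congrFun this i
  set z := Q (e (⇑emb ∘ w₁))
  have hpre : ∀ w : ι → F₀, Q (e (⇑emb ∘ w)) / z ∈ Set.range emb := fun w => (hι _).1 (by
    rw [map_div₀]
    conv_rhs => rw [hmu w, show z = μ * σ z from hmu w₁]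
    rw [mul_div_mul_left _ _ μ.ne_zero])
  choose f hf using hpre
  let P : QuadraticForm F (ι → F) := z⁻¹ • Q.comp (e : (ι → F) →ₗ[F] (ι → F))
  have hP : ∀ w, P (⇑emb ∘ w) = emb (f w) := fun w => by
    rw [hf, div_eq_inv_mul]; rfl
  have hadd : ∀ u w : ι → F₀, ⇑emb ∘ (u + w) = ⇑emb ∘ u + ⇑emb ∘ w := fun u w => funext fun l => map_add emb _ _
  have hsm : ∀ (a : F₀) (w : ι → F₀), ⇑emb ∘ (a • w) = emb a • (⇑emb ∘ w) := fun a w => funext fun l =>
    map_mul emb _ _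
  have hpol : ∀ u w, emb (polar f u w) = polar P (⇑emb ∘ u) (⇑emb ∘ w) := fun u w => by
    simp only [polar, map_sub, ← hP, hadd]
  let P₀ : QuadraticForm F₀ (ι → F₀) := QuadraticMap.ofPolar f
    (fun a w => emb.injective (by
      rw [← hP, hsm, QuadraticMap.map_smul, hP, smul_eq_mul, smul_eq_mul, map_mul, map_mul]))
    (fun u u' w => emb.injective (by rw [map_add, hpol, hpol, hpol, hadd, polar_add_left]))
    (fun a u w => emb.injective (by
      rw [hpol, hsm, polar_smul_left, smul_eq_mul, smul_eq_mul, map_mul, hpol]))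
  have hnd : (QuadraticMap.polarBilin P₀).Nondegenerate := nondegenerate_of_left fun u hu => by
    have h1 : ∀ y, polar P (⇑emb ∘ u) y = 0 := by
      have hl : (QuadraticMap.polarBilin P) (⇑emb ∘ u) = 0 :=
        (Pi.basisFun F ι).ext fun j => by
          rw [Pi.basisFun_apply, show (Pi.single j 1 : ι → F) = ⇑emb ∘ Pi.single j 1 from by
            ext l; simp [Pi.single_apply, apply_ite emb]]
          show polar P _ _ = 0
          rw [← hpol]
          exact (congrArg emb (hu (Pi.single j 1))).trans (map_zero emb)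
      exact fun y => LinearMap.congr_fun hl y
    have h2 : e (⇑emb ∘ u) = 0 := by
      refine hQ.nd.1 _ fun y => ?_
      obtain ⟨y', rfl⟩ := e.surjective y
      show polar Q _ _ = 0
      have h3 := h1 y'
      simp only [polar, P, QuadraticMap.smul_apply, QuadraticMap.comp_apply, LinearEquiv.coe_coe, map_add,
        smul_eq_mul] at h3
      rw [← mul_sub, ← mul_sub, mul_eq_zero, inv_eq_zero] at h3
      exact h3.resolve_left hw₁
    rw [LinearEquiv.map_eq_zero_iff] at h2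
    exact funext fun i => emb.injective ((congrFun h2 i).trans (map_zero emb).symm)
  exact ⟨A', P₀, P, hA', hnd, ⟨⟨e, z, hw₁, fun v => by
    show Q (e v) = z * (z⁻¹ * Q (e v))
    rw [mul_inv_cancel_left₀ hw₁], hfix, hP⟩⟩⟩

omit hQf hQ in
/-- Change of the form over the fixed field. -/
theorem Desc.change {κ κ' : Type} [Fintype κ] [DecidableEq κ] [Fintype κ'] [DecidableEq κ'] {A : GL ι F}
    {σ : F ≃+* F} {P₀ : QuadraticForm F₀ (κ → F₀)} {P : QuadraticForm F (κ → F)}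
    {R₀ : QuadraticForm F₀ (κ' → F₀)} {R : QuadraticForm F (κ' → F)} (D : Desc Q A σ emb P₀ P)
    (hR : ∀ w, R (⇑emb ∘ w) = emb (R₀ w)) (hσ : ∀ a, σ (emb a) = emb a) {c : F₀} (hc : c ≠ 0)
    (k : (κ' → F₀) ≃ₗ[F₀] (κ → F₀)) (hk : ∀ w, P₀ (k w) = c * R₀ w) :
    Nonempty (Desc Q A σ emb R₀ R) := by
  obtain ⟨K, hK, hKσ⟩ := exists_extend emb k
  refine ⟨⟨K.trans D.e, D.z * emb c, mul_ne_zero D.hz ((map_ne_zero emb).2 hc), fun v => ?_, fun v => ?_, hR⟩⟩
  · show Q (D.e (K v)) = _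
    rw [D.hQ, mul_assoc]
    congr 1
    have hsing : ∀ i : κ', (Pi.single i 1 : κ' → F) = ⇑emb ∘ Pi.single i 1 := fun i => by
      ext j; simp [Pi.single_apply, apply_ite emb]
    have hval : ∀ w, P (K (⇑emb ∘ w)) = emb c * R (⇑emb ∘ w) := fun w => by
      rw [hK, D.hemb, hR, hk, map_mul]
    refine FieldExt.quad_ext (P.comp (K : (κ' → F) →ₗ[F] (κ → F))) (emb c • R) (fun i => ?_) (fun i j => ?_) v
    · rw [QuadraticMap.comp_apply, QuadraticMap.smul_apply, smul_eq_mul, hsing]; exact hval _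
    · simp only [polar, QuadraticMap.comp_apply, QuadraticMap.smul_apply, smul_eq_mul, LinearEquiv.coe_coe]
      rw [hsing, hsing, show ⇑emb ∘ Pi.single i 1 + ⇑emb ∘ Pi.single j 1 =
        ⇑emb ∘ (Pi.single i 1 + Pi.single j 1 : κ' → F₀) from funext fun l => (map_add emb _ _).symm,
        hval, hval, hval]
  · show _ = D.e (K (⇑σ ∘ v))
    rw [hKσ σ hσ]
    exact D.hfix _

end Exists

end CfsgLib.KnownC.AutPOmega
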