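import Cfsg.Agent.Lib.KnownC.AutPOmega.Outer

/-!
# Transport along an isometry of forms
-/

set_option autoImplicit false
set_option linter.unusedSectionVars false
set_option linter.style.haveILetI false

open Module QuadraticMap
open scoped Matrix

namespace CfsgLib.KnownC.AutPOmega

open CfsgLib.KnownC.POmegaAut (IsSemiInduced exists_semi_conj)

universe u

variable {F : Type u} [Field F] [Fintype F] {ι : Type} [Fintype ι] [DecidableEq ι] {Qf Qf' : (ι → F) → F}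

/-- An isometry of forms gives an isomorphism of the projective groups. -/
theorem exists_transport (e : GL ι F) (he : ∀ v, Qf' ((e : Matrix ι ι F) *ᵥ v) = Qf v) :
    ∃ ψ : Cfsg.POmega F Qf ≃* Cfsg.POmega F Qf', ∀ (s : ↥(Cfsg.Omega F Qf)) (s' : ↥(Cfsg.Omega F Qf')),
      ((s'.1 : GL ι F) : Matrix ι ι F) =
        (e : Matrix ι ι F) * ((s.1 : GL ι F) : Matrix ι ι F) * ((e⁻¹ : GL ι F) : Matrix ι ι F) →
      ψ (QuotientGroup.mk s) = QuotientGroup.mk s' := by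
  have he' : ∀ v, Qf (((e⁻¹ : GL ι F) : Matrix ι ι F) *ᵥ v) = Qf' v := fun v => by
    rw [← he, POmegaAut.mulVec_cancel]
  have hto : ∀ h : ↥(Cfsg.isometryGroup F Qf), e * h.1 * e⁻¹ ∈ Cfsg.isometryGroup F Qf' := fun h v _ => by
    show Qf' (((e * h.1 * e⁻¹ : GL ι F) : Matrix ι ι F) *ᵥ v) = Qf' v
    have hh := h.2 (((e⁻¹ : GL ι F) : Matrix ι ι F) *ᵥ v) (((e⁻¹ : GL ι F) : Matrix ι ι F) *ᵥ v)
    change Qf ((h.1 : Matrix ι ι F) *ᵥ _) = Qf _ at hh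
    rw [Units.val_mul, Units.val_mul, ← Matrix.mulVec_mulVec, ← Matrix.mulVec_mulVec, he, hh, he']
  have hfrom : ∀ h : ↥(Cfsg.isometryGroup F Qf'), e⁻¹ * h.1 * e ∈ Cfsg.isometryGroup F Qf := fun h v _ => by
    show Qf (((e⁻¹ * h.1 * e : GL ι F) : Matrix ι ι F) *ᵥ v) = Qf v
    have hh := h.2 ((e : Matrix ι ι F) *ᵥ v) ((e : Matrix ι ι F) *ᵥ v)
    change Qf' ((h.1 : Matrix ι ι F) *ᵥ _) = Qf' _ at hh
    rw [Units.val_mul, Units.val_mul, ← Matrix.mulVec_mulVec, ← Matrix.mulVec_mulVec, he', hh, he]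
  let E : ↥(Cfsg.isometryGroup F Qf) ≃* ↥(Cfsg.isometryGroup F Qf') :=
    { toFun := fun h => ⟨_, hto h⟩
      invFun := fun h => ⟨_, hfrom h⟩
      left_inv := fun h => Subtype.ext (by show e⁻¹ * (e * h.1 * e⁻¹) * e = h.1; group)
      right_inv := fun h => Subtype.ext (by show e * (e⁻¹ * h.1 * e) * e⁻¹ = h.1; group)
      map_mul' := fun a b => Subtype.ext (by
        show e * (a.1 * b.1) * e⁻¹ = (e * a.1 * e⁻¹) * (e * b.1 * e⁻¹); group) }
  have hcom : (Cfsg.Omega F Qf).map E.toMonoidHom = Cfsg.Omega F Qf' := by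
    show (⁅(⊤ : Subgroup ↥(Cfsg.isometryGroup F Qf)), (⊤ : Subgroup ↥(Cfsg.isometryGroup F Qf))⁆).map E.toMonoidHom =
      ⁅(⊤ : Subgroup ↥(Cfsg.isometryGroup F Qf')), (⊤ : Subgroup ↥(Cfsg.isometryGroup F Qf'))⁆
    rw [Subgroup.map_commutator, Subgroup.map_top_of_surjective _ E.surjective]
  let E' : ↥(Cfsg.Omega F Qf) ≃* ↥(Cfsg.Omega F Qf') := (E.subgroupMap _).trans (MulEquiv.subgroupCongr hcom)
  have hc : (Subgroup.center ↥(Cfsg.Omega F Qf)).map E'.toMonoidHom = Subgroup.center ↥(Cfsg.Omega F Qf') := by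
    ext x
    rw [Subgroup.mem_map_equiv, Subgroup.mem_center_iff, Subgroup.mem_center_iff]
    refine ⟨fun h g => E'.symm.injective ?_, fun h g => E'.injective ?_⟩
    · rw [map_mul, map_mul]; exact h _
    · rw [map_mul, map_mul, E'.apply_symm_apply]; exact h _
  refine ⟨QuotientGroup.congr _ _ E' hc, fun s s' hs' => ?_⟩
  show QuotientGroup.mk (E' s) = _
  exact mk_eq_of_mat (by rw [hs']; rfl)

variable (e : GL ι F) (ψ : Cfsg.POmega F Qf ≃* Cfsg.POmega F Qf')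

/-- Pulling back a semilinearly induced automorphism. -/
theorem transport_semi (he : ∀ v, Qf' ((e : Matrix ι ι F) *ᵥ v) = Qf v)
    (hψ : ∀ (s : ↥(Cfsg.Omega F Qf)) (s' : ↥(Cfsg.Omega F Qf')),
      ((s'.1 : GL ι F) : Matrix ι ι F) =
        (e : Matrix ι ι F) * ((s.1 : GL ι F) : Matrix ι ι F) * ((e⁻¹ : GL ι F) : Matrix ι ι F) →
      ψ (QuotientGroup.mk s) = QuotientGroup.mk s')
    {A : GL ι F} {σ : F ≃+* F} {β : MulAut (Cfsg.POmega F Qf')} (hβ : IsSemiInduced Qf' A σ β) :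
    IsSemiInduced Qf (e⁻¹ * A * Matrix.GeneralLinearGroup.map σ.toRingHom e) σ ((ψ.trans β).trans ψ.symm) := by
  have he' : ∀ v, Qf (((e⁻¹ : GL ι F) : Matrix ι ι F) *ᵥ v) = Qf' v := fun v => by
    rw [← he, POmegaAut.mulVec_cancel]
  obtain ⟨c, hc⟩ := id hβ.1
  refine ⟨⟨c, fun v => ?_⟩, fun s s' hs' => ?_⟩
  · show Qf (((e⁻¹ * A * Matrix.GeneralLinearGroup.map σ.toRingHom e : GL ι F) : Matrix ι ι F) *ᵥ fun i => σ (v i)) = _
    rw [Units.val_mul, Units.val_mul, ← Matrix.mulVec_mulVec, ← Matrix.mulVec_mulVec, he',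
      show ((Matrix.GeneralLinearGroup.map σ.toRingHom e : GL ι F) : Matrix ι ι F) *ᵥ (fun i => σ (v i)) =
        fun i => σ (((e : Matrix ι ι F) *ᵥ v) i) from POmegaAut.map_mulVec' σ _ _, hc, he]
  have hto : ∀ h : ↥(Cfsg.Omega F Qf), ∃ t : ↥(Cfsg.Omega F Qf'), ((t.1 : GL ι F) : Matrix ι ι F) =
      (e : Matrix ι ι F) * ((h.1 : GL ι F) : Matrix ι ι F) * ((e⁻¹ : GL ι F) : Matrix ι ι F) := fun h => by
    obtain ⟨t, ht⟩ := QuotientGroup.mk_surjective (ψ (QuotientGroup.mk h))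
    have hto' : e * (h.1 : GL ι F) * e⁻¹ ∈ Cfsg.isometryGroup F Qf' := fun v _ => by
      show Qf' (((e * (h.1 : GL ι F) * e⁻¹ : GL ι F) : Matrix ι ι F) *ᵥ v) = Qf' v
      have hh := h.1.2 (((e⁻¹ : GL ι F) : Matrix ι ι F) *ᵥ v) (((e⁻¹ : GL ι F) : Matrix ι ι F) *ᵥ v)
      change Qf (((h.1 : GL ι F) : Matrix ι ι F) *ᵥ _) = Qf _ at hh
      rw [Units.val_mul, Units.val_mul, ← Matrix.mulVec_mulVec, ← Matrix.mulVec_mulVec, he, hh, he']
    let φ : ↥(Cfsg.isometryGroup F Qf) →* GL ι F := (MulAut.conj e).toMonoidHom.comp (Cfsg.isometryGroup F Qf).subtype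
    have hmem : (⟨_, hto'⟩ : ↥(Cfsg.isometryGroup F Qf')) ∈ Cfsg.Omega F Qf' := by
      have hφ : ∀ k : ↥(Cfsg.isometryGroup F Qf), φ k ∈ Cfsg.isometryGroup F Qf' := fun k v _ => by
        show Qf' (((e * (k : GL ι F) * e⁻¹ : GL ι F) : Matrix ι ι F) *ᵥ v) = Qf' v
        have hh := k.2 (((e⁻¹ : GL ι F) : Matrix ι ι F) *ᵥ v) (((e⁻¹ : GL ι F) : Matrix ι ι F) *ᵥ v)
        change Qf (((k : GL ι F) : Matrix ι ι F) *ᵥ _) = Qf _ at hh
        rw [Units.val_mul, Units.val_mul, ← Matrix.mulVec_mulVec, ← Matrix.mulVec_mulVec, he, hh, he']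
      let φ' := φ.codRestrict _ hφ
      have hm := Subgroup.mem_map_of_mem φ' h.2
      have h' := Subgroup.map_commutator (⊤ : Subgroup ↥(Cfsg.isometryGroup F Qf)) ⊤ φ'
      exact Subgroup.commutator_mono le_top le_top (h' ▸ hm)
    refine ⟨⟨_, hmem⟩, ?_⟩
    show ((e * (h.1 : GL ι F) * e⁻¹ : GL ι F) : Matrix ι ι F) = _
    rw [Units.val_mul, Units.val_mul]
  obtain ⟨t, ht⟩ := hto s
  obtain ⟨t', ht'⟩ := hto s'
  show ψ.symm (β (ψ (QuotientGroup.mk s))) = QuotientGroup.mk s'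
  rw [MulEquiv.symm_apply_eq, hψ s t ht, hψ s' t' ht']
  refine hβ.2 t t' ?_
  rw [ht', hs', ht]
  have e1 : ((e⁻¹ * A * Matrix.GeneralLinearGroup.map σ.toRingHom e)⁻¹ : GL ι F) =
      Matrix.GeneralLinearGroup.map σ.toRingHom e⁻¹ * A⁻¹ * e := by rw [map_inv]; group
  rw [e1]
  have e2 : ((Matrix.GeneralLinearGroup.map σ.toRingHom e : GL ι F) : Matrix ι ι F) = (e : Matrix ι ι F).map σ := rfl
  have e3 : ((Matrix.GeneralLinearGroup.map σ.toRingHom e⁻¹ : GL ι F) : Matrix ι ι F) =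
      ((e⁻¹ : GL ι F) : Matrix ι ι F).map σ := rfl
  simp only [Units.val_mul, Matrix.map_mul, e2, e3, mul_assoc]
  simp only [← mul_assoc (e : Matrix ι ι F) ((e⁻¹ : GL ι F) : Matrix ι ι F), Units.mul_inv, one_mul, mul_one]

end CfsgLib.KnownC.AutPOmega
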