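import Cfsg.Agent.Lib.KnownC.AutPOmega.Singular
import Cfsg.Agent.Lib.KnownC.AutPOmega.Transport
import Cfsg.Agent.Lib.KnownC.Discr

/-!
# Field automorphisms of the minus-type groups
-/

set_option autoImplicit false
set_option linter.unusedSectionVars false
set_option linter.style.haveILetI false

open Module QuadraticMap
open scoped Matrix

namespace CfsgLib.KnownC.AutPOmega

open CfsgLib.Orth CfsgLib.Classical
open CfsgLib.KnownC.POmegaAut (GS Φ lin lin_apply ofOrth lin_ofOrth IsSemiInduced inn_eq)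

universe u v

/-- There is an anisotropic parameter over every finite field. -/
theorem exists_zeta (F : Type u) [Field F] [Fintype F] : ∃ ζ : F, ∀ t : F, t ^ 2 + t + ζ ≠ 0 := by
  classical
  by_contra h
  push Not at h
  have hsurj : Function.Surjective fun t : F => -(t ^ 2 + t) := fun z => by
    obtain ⟨t, ht⟩ := h z
    exact ⟨t, by linear_combination -ht⟩
  have hinj := (Finite.injective_iff_surjective.2 hsurj) (a₁ := 0) (a₂ := -1) (by ring)
  exact one_ne_zero (by linear_combination hinj)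

section

variable {F : Type u} [Field F] [Fintype F] {k : ℕ} {a b : F}
  (hab : ∀ z₁ z₂ : F, z₁ ^ 2 + a * z₁ * z₂ + b * z₂ ^ 2 = 0 → z₁ = 0 ∧ z₂ = 0)
  {F₀ : Type v} [Field F₀] [Fintype F₀] {emb : F₀ →+* F}

include hab

/-- The form over the fixed field is of minus type. -/
theorem minus_desc [hQ : OCtx (minusForm F k a b)] {A : GL ((Fin k ⊕ Fin k) ⊕ Fin 2) F} {σ : F ≃+* F}
    {β : MulAut (Cfsg.POmega F (Cfsg.quadFormMinus k F a b))}
    (h : IsSemiInduced (Cfsg.quadFormMinus k F a b) A σ β) {r : ℕ} (hσ : orderOf σ = r) (hr : 1 ≤ r) (hβ : β ^ r = 1)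
    (hι : ∀ x, σ x = x ↔ x ∈ Set.range emb) {ζ₀ : F₀} (hζ₀ : ∀ t : F₀, t ^ 2 + t + ζ₀ ≠ 0) :
    ∃ A' : GL ((Fin k ⊕ Fin k) ⊕ Fin 2) F, IsSemiInduced (Cfsg.quadFormMinus k F a b) A' σ β ∧
      Nonempty (Desc (minusForm F k a b) A' σ emb (minusForm F₀ k 1 ζ₀) (minusForm F k 1 (emb ζ₀))) := by
  obtain ⟨A', P₀, P, hA', hnd, ⟨D⟩⟩ := exists_desc (minusForm F k a b) (minusForm_apply k a b) h hσ hr hβ hι
  have hσe : ∀ x, σ (emb x) = emb x := fun x => (hι _).2 ⟨x, rfl⟩
  have hfin : finrank F₀ ((Fin k ⊕ Fin k) ⊕ Fin 2 → F₀) = 2 * (k + 1) := by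
    rw [finrank_fintype_fun_eq_card, card_minus_index]
  rcases classify_even hnd hfin with ⟨e, he⟩ | ⟨-, e, ζ, hζ, he⟩
  · exfalso
    obtain ⟨D'⟩ := D.change (minusForm F k a b) (R₀ := plusForm F₀ (k + 1)) (R := plusForm F (k + 1))
      (fun w => by rw [← plusForm_apply, ← plusForm_apply]; simp [Cfsg.quadFormPlus, map_sum]) hσe one_ne_zero e
      (fun w => by rw [he, one_mul])
    obtain ⟨U, hU, hUm⟩ := FieldExt.exists_plus_singular (F := F) (k + 1)
    have := minus_singular_finrank_le hab (U.map (D'.e : _ →ₗ[F] ((Fin k ⊕ Fin k) ⊕ Fin 2 → F))) (by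
      rintro _ ⟨u, hu, rfl⟩
      show minusForm F k a b (D'.e u) = 0
      rw [D'.hQ, hU u hu, mul_zero])
    rw [LinearEquiv.finrank_map_eq, hUm] at this
    omega
  · obtain ⟨e', he'⟩ := exists_minus_iso (m := k) hζ hζ₀
    obtain ⟨D'⟩ := D.change (minusForm F k a b) (R₀ := minusForm F₀ k 1 ζ₀) (R := minusForm F k 1 (emb ζ₀))
      (fun w => by rw [← minusForm_apply, ← minusForm_apply]; simp [Cfsg.quadFormMinus, map_sum]) hσe one_ne_zero
      (e'.trans e) (fun w => by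
        rw [one_mul]
        exact (he (e' w)).trans (he' w))
    exact ⟨A', hA', ⟨D'⟩⟩

/-- A field automorphism of prime order has a field component of the same odd order. -/
theorem minus_field_class (hk : 3 ≤ k) [hQ : OCtx (minusForm F k a b)]
    {x : MulAut (Cfsg.POmega F (Cfsg.quadFormMinus k F a b))} (hx : Cfsg.IsFieldAutClassPOmegaMinus k x) {r : ℕ}
    (hr : r.Prime) (hxr : orderOf x = r) :
    ∃ (σ : F ≃+* F) (A : GL ((Fin k ⊕ Fin k) ⊕ Fin 2) F),
      IsSemiInduced (Cfsg.quadFormMinus k F a b) A σ x ∧ orderOf σ = r ∧ Odd r := by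
  obtain ⟨a', b', ψ, σ, hab', hne, ha', hb', hstd⟩ := hx
  obtain ⟨ζ, hζ⟩ := exists_zeta F
  obtain ⟨e1, he1⟩ := FieldExt.minusForm_iso k a b hab hζ
  obtain ⟨e2, he2⟩ := FieldExt.minusForm_iso k a' b' hab' hζ
  set E := e1.trans e2.symm
  have hE : ∀ v, minusForm F k a' b' (E v) = minusForm F k a b v := fun v => by
    show minusForm F k a' b' (e2.symm (e1 v)) = _
    rw [← he2, LinearEquiv.apply_symm_apply, he1]
  let e : GL ((Fin k ⊕ Fin k) ⊕ Fin 2) F :=
    Matrix.GeneralLinearGroup.toLin.symm ((LinearMap.GeneralLinearGroup.generalLinearEquiv F _).symm E)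
  have he : ∀ v, Cfsg.quadFormMinus k F a' b' ((e : Matrix ((Fin k ⊕ Fin k) ⊕ Fin 2) ((Fin k ⊕ Fin k) ⊕ Fin 2) F) *ᵥ v) =
      Cfsg.quadFormMinus k F a b v := fun v => by
    rw [show (e : Matrix ((Fin k ⊕ Fin k) ⊕ Fin 2) ((Fin k ⊕ Fin k) ⊕ Fin 2) F) =
      LinearMap.toMatrix' (E : _ →ₗ[F] ((Fin k ⊕ Fin k) ⊕ Fin 2 → F)) from rfl, LinearMap.toMatrix'_mulVec,
      minusForm_apply, minusForm_apply]
    exact hE v
  haveI := octx_minus (F := F) hk hab'
  obtain ⟨ψ₀, hψ₀⟩ := exists_transport e he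
  set φ : MulAut (Cfsg.POmega F (Cfsg.quadFormMinus k F a' b')) := (ψ.symm.trans x).trans ψ
  have hφ : IsSemiInduced (Cfsg.quadFormMinus k F a' b') (1 : GL ((Fin k ⊕ Fin k) ⊕ Fin 2) F) σ φ := by
    refine ⟨std_pair fun v => ?_, (induced_std_iff σ _).2 hstd⟩
    simp [Cfsg.quadFormMinus, map_sum, ha', hb']
  set α : MulAut (Cfsg.POmega F (Cfsg.quadFormMinus k F a' b')) := ψ₀.symm.trans ψ
  obtain ⟨π, hπ, -⟩ := exists_field_hom (minusForm F k a' b') (minusForm_apply k a' b')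
  obtain ⟨A, σ', hA⟩ := exists_semi (minusForm F k a' b') (minusForm_apply k a' b') (α⁻¹ * φ * α)
  have hσ' : σ' = σ := by
    rw [← hπ A σ' _ hA, map_mul, map_mul, map_inv, hπ _ σ φ hφ]
    haveI : IsCyclic (F ≃+* F) := by
      obtain ⟨c, hc⟩ := CharP.exists F
      obtain ⟨n, hcp, hcn⟩ := FiniteField.card F c
      haveI : Fact c.Prime := ⟨hcp⟩
      obtain ⟨e⟩ := AutPSL.ringAut_cyclic (F := F) hcn
      exact e.symm.isCyclic.1 inferInstance
    rw [show (π α)⁻¹ * σ * π α = σ * ((π α)⁻¹ * π α) by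
      rw [show (π α)⁻¹ * σ = σ * (π α)⁻¹ from IsCyclic.commGroup.mul_comm _ _, mul_assoc], inv_mul_cancel, mul_one]
  subst hσ'
  have hback : (ψ₀.trans (α⁻¹ * φ * α)).trans ψ₀.symm = x := by
    refine MulEquiv.ext fun y => ?_
    show ψ₀.symm (α⁻¹ (φ (α (ψ₀ y)))) = x y
    simp [α, φ, MulAut.inv_def]
  have hxs := transport_semi e ψ₀ he hψ₀ hA
  rw [hback] at hxs
  have hσr : orderOf σ' = r := orderOf_field (minusForm F k a b) (minusForm_apply k a b) hxs hr hxr hne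
  refine ⟨σ', _, hxs, hσr, ?_⟩
  refine (hr.eq_two_or_odd').resolve_left fun h2 => ?_
  subst h2
  obtain ⟨c, hc⟩ := CharP.exists F
  obtain ⟨n, hcp, hcn⟩ := FiniteField.card F c
  haveI : Fact c.Prime := ⟨hcp⟩
  let K := AutPSL.fixField σ'
  letI : Fintype K := Fintype.ofFinite K
  obtain ⟨hdvd, hK⟩ := AutPSL.card_fixField hcn σ' hσr one_le_two
  have hsq : Fintype.card F = Fintype.card K ^ 2 := by
    rw [← Nat.card_eq_fintype_card (α := K), hK, ← pow_mul, Nat.div_mul_cancel hdvd, hcn]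
  have hrank : finrank K F = 2 := FieldExt.finrank_eq_two rfl hsq
  obtain ⟨z, hz⟩ := POmegaAut.minus_root (F := K) (K := F) hrank ⟨a', ha'⟩ ⟨b', hb'⟩ (fun z₁ z₂ h0 => by
    have h1 := hab' z₁.1 z₂.1 (congrArg Subtype.val h0)
    exact ⟨Subtype.ext h1.1, Subtype.ext h1.2⟩)
  refine one_ne_zero (hab' z 1 ?_).2
  rw [mul_one, one_pow, mul_one]
  exact hz

/-- An element of the coset of the same order is conjugate. -/
theorem minus_coset_conj (hk : 3 ≤ k) [hQ : OCtx (minusForm F k a b)]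
    {x δ : MulAut (Cfsg.POmega F (Cfsg.quadFormMinus k F a b))} (hx : Cfsg.IsFieldAutClassPOmegaMinus k x) {r : ℕ}
    (hr : r.Prime) (hxr : orderOf x = r) (hδ : δ ∈ Cfsg.inndiagPOmegaMinus k F a b) (hord : orderOf (δ * x) = r) :
    Cfsg.IsConjUnder (Cfsg.inndiagPOmegaMinus k F a b) x (δ * x) := by
  obtain ⟨σ, A, hA, hσ, -⟩ := minus_field_class hab hk hx hr hxr
  rw [inndiag_minus_eq hk hab] at hδ ⊢
  obtain ⟨d, -, rfl⟩ := hδ
  let K := AutPSL.fixField σ
  letI : Fintype K := Fintype.ofFinite K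
  have hι : ∀ y, σ y = y ↔ y ∈ Set.range K.subtype := fun y =>
    ⟨fun h => ⟨⟨y, h⟩, rfl⟩, by rintro ⟨z, rfl⟩; exact z.2⟩
  obtain ⟨ζ₀, hζ₀⟩ := exists_zeta K
  haveI := octx_minus (F := K) hk (anisotropic_of_no_root hζ₀)
  obtain ⟨A₁, hA₁, ⟨D₁⟩⟩ := minus_desc hab hA hσ hr.one_le (by rw [← hxr, pow_orderOf_eq_one]) hι hζ₀
  obtain ⟨A₂, hA₂, ⟨D₂⟩⟩ := minus_desc hab (semi_left d hA) hσ hr.one_le (by rw [← hord, pow_orderOf_eq_one]) hι hζ₀
  exact D₁.conj_proper (minusForm_apply k a b) D₂ (card_minus_index k) (fun y => (hι _).2 ⟨y, rfl⟩) hA₁ hA₂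

set_option maxHeartbeats 2000000 in
/-- The centraliser and the classes in the class of a field automorphism. -/
theorem minus_centralizer_split (hk : 3 ≤ k) [hQ : OCtx (minusForm F k a b)]
    {x : MulAut (Cfsg.POmega F (Cfsg.quadFormMinus k F a b))} {σ : F ≃+* F} {A : GL ((Fin k ⊕ Fin k) ⊕ Fin 2) F}
    (hA : IsSemiInduced (Cfsg.quadFormMinus k F a b) A σ x) {r : ℕ} (hσ : orderOf σ = r) (hr : Odd r)
    (hxr : x ^ r = 1) (hι : ∀ x, σ x = x ↔ x ∈ Set.range emb) {ζ₀ : F₀} (hζ₀ : ∀ t : F₀, t ^ 2 + t + ζ₀ ≠ 0) :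
    Nonempty (↥(Cfsg.inndiagPOmegaMinus k F a b ⊓ Subgroup.centralizer {x}) ≃* ↥(Cfsg.inndiagPOmegaMinus k F₀ 1 ζ₀)) ∧
      Cfsg.splitClassCount (Cfsg.inndiagPOmegaMinus k F a b) (Cfsg.Inn (Cfsg.POmega F (Cfsg.quadFormMinus k F a b))) x = 1 := by
  have hab₀ := anisotropic_of_no_root hζ₀
  haveI := octx_minus (F := F₀) hk hab₀
  obtain ⟨A', hA', ⟨D⟩⟩ := minus_desc hab hA hσ (Nat.pos_of_ne_zero (by rintro rfl; simp at hr)) hxr hι hζ₀
  have hn := card_minus_index k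
  refine ⟨?_, ?_⟩
  · rw [inndiag_minus_eq hk hab, inndiag_minus_eq hk hab₀]
    exact D.centralizer_proper (minusForm_apply k a b) (minusForm_apply k 1 ζ₀) hn hn hι hA'
  haveI := POmegaAut.inn_normal (Cfsg.POmega F (Cfsg.quadFormMinus k F a b))
  rw [inndiag_minus_eq hk hab, POmegaAut.splitClassCount_eq _ _ (inn_le_proper _ _ hn), Subgroup.relIndex_eq_one]
  rintro _ ⟨g, hg, rfl⟩
  set C := (properSub (minusForm F k a b) (minusForm_apply k a b) (k + 1)).map (Φ (Cfsg.quadFormMinus k F a b)) ⊓ Subgroup.centralizer {x}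
  by_cases h2 : (2 : F) = 0
  · exact Subgroup.mem_sup_left ((mem_proper_two _ _ h2 g).1 hg)
  have h20 : (2 : F₀) ≠ 0 := fun h => h2 (by rw [← map_ofNat emb 2, h, map_zero])
  obtain ⟨S, -, -, -⟩ := POmegaAut.minus_setup k (odd_of_two_ne h2) (by omega) a b hab
  obtain ⟨S₀, -, -, -⟩ := POmegaAut.minus_setup k (odd_of_two_ne h20) (by omega) 1 ζ₀ hab₀
  set bc := D.bc (Qf := Cfsg.quadFormMinus k F a b) (P₀f := Cfsg.quadFormMinus k F₀ 1 ζ₀) (minusForm_apply k a b) (minusForm_apply k 1 ζ₀)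
  have hC : ∀ B, B ∈ properSub (minusForm F₀ k 1 ζ₀) (minusForm_apply k 1 ζ₀) (k + 1) → Φ (Cfsg.quadFormMinus k F a b) (bc B) ∈ C := fun B hB =>
    ⟨⟨_, (D.bc_proper _ _ hn hn B).2 hB, rfl⟩, Subgroup.mem_centralizer_singleton_iff.2
      (D.bc_commute _ _ (fun y => (hι _).2 ⟨y, rfl⟩) hA' B)⟩
  have hq : ringChar F ≠ 2 := fun hc => by
    haveI : CharP F 2 := ringChar.eq_iff.1 hc
    exact h2 CharTwo.two_eq_zero
  -- proper similitudes with square multiplier
  have key : ∀ g, g ∈ properSub (minusForm F k a b) (minusForm_apply k a b) (k + 1) → IsSquare (S.mult g) →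
      Φ (Cfsg.quadFormMinus k F a b) g ∈ Cfsg.Inn (Cfsg.POmega F (Cfsg.quadFormMinus k F a b)) ⊔ C := by
    intro g hg hsq
    obtain ⟨z, hz, h, rfl⟩ := S.exists_decomp g hsq
    have hz1 : Φ (Cfsg.quadFormMinus k F a b) z = 1 := MonoidHom.mem_ker.1 (POmegaAut.scalars_le_ker _ hz)
    have hh : S.iso h ∈ properSub (minusForm F k a b) (minusForm_apply k a b) (k + 1) := by
      have hzp := ker_le_proper (minusForm F k a b) (minusForm_apply k a b) hn (MonoidHom.mem_ker.2 hz1)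
      simpa using mul_mem (inv_mem hzp) hg
    rw [map_mul, hz1, one_mul]
    obtain ⟨L, hL, rfl⟩ := exists_refl_list hQ.nd (good (Q := minusForm F k a b)) h
    have hev : Even L.length := (prod_refl_proper (minusForm F k a b) (minusForm_apply k a b) hn L hL).1 hh
    by_cases hc : IsSquare (L.map fun v => minusForm F k a b v).prod
    · exact Subgroup.mem_sup_left (phi_mem_inn ((POmegaAut.mem_omegaSub_iff _ _ (minusForm_apply k a b) _).2
        ⟨_, (prod_refl_mem_commutator_iff hQ.nd h2 L hL).2 ⟨hev, hc⟩, rfl⟩))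
    obtain ⟨ν, hν⟩ := FiniteField.exists_nonsquare (F := F₀) (fun hc => by
      haveI : CharP F₀ 2 := ringChar.of_eq hc
      exact h20 CharTwo.two_eq_zero)
    have hν0 : ν ≠ 0 := fun h => hν (h ▸ IsSquare.zero)
    obtain ⟨hp⟩ := hyp (Q := minusForm F₀ k 1 ζ₀)
    set u := hp.e₀ + hp.f₀
    set w := hp.e₀ + ν • hp.f₀
    have hu : minusForm F₀ k 1 ζ₀ u = 1 := by rw [quad_add', hp.he₀, hp.hf₀, hp.h00]; ring
    have hw : minusForm F₀ k 1 ζ₀ w = ν := by rw [quad_add', quad_smul', polar_smul_r', hp.he₀, hp.hf₀, hp.h00]; ring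
    set B := ofOrth (Cfsg.quadFormMinus k F₀ 1 ζ₀) (minusForm F₀ k 1 ζ₀) (minusForm_apply k 1 ζ₀)
      (([u, w] : List _).map (refl (minusForm F₀ k 1 ζ₀))).prod
    have hB : B ∈ properSub (minusForm F₀ k 1 ζ₀) (minusForm_apply k 1 ζ₀) (k + 1) :=
      (prod_refl_proper _ _ hn [u, w] (by simp [hu, hw, hν0])).2 (by simp)
    have e : bc B = ofOrth (Cfsg.quadFormMinus k F a b) (minusForm F k a b) (minusForm_apply k a b)
        (([D.e (⇑emb ∘ u), D.e (⇑emb ∘ w)] : List _).map (refl (minusForm F k a b))).prod :=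
      D.bc_prod_refl _ _ [u, w]
    have hQu : minusForm F k a b (D.e (⇑emb ∘ u)) = D.z := by rw [D.hQ, D.hemb, hu, map_one, mul_one]
    have hQw : minusForm F k a b (D.e (⇑emb ∘ w)) = D.z * emb ν := by rw [D.hQ, D.hemb, hw]
    have hmem : Φ (Cfsg.quadFormMinus k F a b) (S.iso (L.map (refl (minusForm F k a b))).prod * bc B) ∈ Cfsg.Inn (Cfsg.POmega F (Cfsg.quadFormMinus k F a b)) := by
      rw [e]
      refine phi_mem_inn ((POmegaAut.mem_omegaSub_iff _ _ (minusForm_apply k a b) _).2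
        ⟨((L ++ [D.e (⇑emb ∘ u), D.e (⇑emb ∘ w)]).map (refl (minusForm F k a b))).prod, ?_, by
          rw [List.map_append, List.prod_append, map_mul]; rfl⟩)
      rw [prod_refl_mem_commutator_iff hQ.nd h2]
      · refine ⟨by rw [List.length_append]; exact hev.add (by simp), ?_⟩
        rw [List.map_append, List.prod_append]
        have hne : (L.map fun v => minusForm F k a b v).prod ≠ 0 := List.prod_ne_zero (by
          intro h0
          obtain ⟨v, hv, hv0⟩ := List.mem_map.1 h0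
          exact hL v hv hv0)
        simp only [List.map_cons, List.map_nil, List.prod_cons, List.prod_nil, mul_one, hQu, hQw]
        refine (Discr.isSquare_mul_nonsquare hq hne ?_).2 hc
        rw [← mul_assoc]
        intro hcon
        apply not_square_of_odd hι hσ hr hν
        obtain ⟨y, hy⟩ := hcon
        exact ⟨y / D.z, by field_simp [D.hz]; linear_combination hy⟩
      · intro v hv
        rcases List.mem_append.1 hv with hv | hv
        · exact hL v hv
        · simp at hv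
          rcases hv with rfl | rfl
          · rw [hQu]; exact D.hz
          · rw [hQw]; exact mul_ne_zero D.hz ((map_ne_zero emb).2 hν0)
    have := Subgroup.mul_mem _ (Subgroup.mem_sup_left (T := C) hmem) (Subgroup.mem_sup_right (inv_mem (hC B hB)))
    rwa [map_mul, mul_inv_cancel_right] at this
  by_cases hsq : IsSquare (S.mult g)
  · exact key g hg hsq
  obtain ⟨B, hB, hBν⟩ : ∃ B, B ∈ properSub (minusForm F₀ k 1 ζ₀) (minusForm_apply k 1 ζ₀) (k + 1) ∧
      ¬ IsSquare (S₀.mult B) := by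
    by_cases hs : S₀.s ∈ properSub (minusForm F₀ k 1 ζ₀) (minusForm_apply k 1 ζ₀) (k + 1)
    · exact ⟨_, hs, S₀.hν⟩
    refine ⟨_, proper_index_two _ _ hn hs (refl_not_proper _ _ (a := S₀.a) (by rw [S₀.ha]; exact one_ne_zero)), ?_⟩
    rw [map_mul, show S₀.mult (ofOrth _ _ _ (refl (minusForm F₀ k 1 ζ₀) S₀.a)) = 1 from S₀.mult_iso _, mul_one]
    exact S₀.hν
  have hgB := mul_mem hg ((D.bc_proper (Qf := Cfsg.quadFormMinus k F a b) (minusForm_apply k a b) (minusForm_apply k 1 ζ₀) hn hn B).2 hB)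
  have hsq' : IsSquare (S.mult (g * bc B)) := by
    rw [map_mul, S.mult_of (bc B) (D.bc_simil _ _ B (S₀.isSimil B))]
    exact (Discr.isSquare_mul_nonsquare hq (S.mult_ne g) (not_square_of_odd hι hσ hr hBν)).2 hsq
  have := Subgroup.mul_mem _ (key _ hgB hsq') (Subgroup.mem_sup_right (T := C) (inv_mem (hC B hB)))
  rwa [map_mul, mul_inv_cancel_right] at this

end

end CfsgLib.KnownC.AutPOmega
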