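import Cfsg.Agent.Lib.KnownC.AutPOmega.FieldCommon

/-!
# Field automorphisms of the odd-dimensional groups
-/

set_option autoImplicit false
set_option linter.unusedSectionVars false
set_option linter.style.haveILetI false

open Module QuadraticMap
open scoped Matrix

namespace CfsgLib.KnownC.AutPOmega

open CfsgLib.Orth CfsgLib.Classical
open CfsgLib.KnownC.POmegaAut (GS Φ lin lin_apply lin_injective ofOrth lin_ofOrth scalars scalars_le_ker IsSemiInduced
  induced_iff semi_mul pgoAut_eq inn_eq)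

universe u v

variable {F : Type u} [Field F] [Fintype F] (m : ℕ)

theorem odd_two {F₀ : Type v} [Field F₀] (emb : F₀ →+* F) (h2 : (2 : F) ≠ 0) : (2 : F₀) ≠ 0 := fun h =>
  h2 (by rw [← map_ofNat emb 2, h, map_zero])

/-- In odd dimension there is one form up to similarity. -/
theorem odd_classify (h2 : (2 : F) ≠ 0) (Q : QuadraticForm F (Unit ⊕ (Fin m ⊕ Fin m) → F))
    (hQ : (QuadraticMap.polarBilin Q).Nondegenerate) :
    ∃ (c : F) (e : (Unit ⊕ (Fin m ⊕ Fin m) → F) ≃ₗ[F] (Unit ⊕ (Fin m ⊕ Fin m) → F)),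
      c ≠ 0 ∧ ∀ v, Q (e v) = c * oddForm F m v := by
  obtain ⟨k, A, T, hT, hTA, hdim, hA2, hanis, -⟩ := exists_decomposition hQ
  have hd : finrank F (Unit ⊕ (Fin m ⊕ Fin m) → F) = 2 * m + 1 := by simp; omega
  have hA1 : finrank F A = 1 := by omega
  obtain rfl : k = m := by omega
  obtain ⟨⟨x, hxA⟩, hx0, -⟩ := finrank_eq_one_iff'.1 hA1
  set c := Q x
  have hc : c ≠ 0 := fun h => hx0 (Subtype.ext (hanis x hxA h))
  let D : (Unit ⊕ (Fin k ⊕ Fin k) → F) →ₗ[F] (Fin k ⊕ Fin k → F) :=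
    LinearMap.pi (Sum.elim (fun i => c • LinearMap.proj (Sum.inr (Sum.inl i))) fun i =>
      LinearMap.proj (Sum.inr (Sum.inr i)))
  let S : (Unit ⊕ (Fin k ⊕ Fin k) → F) →ₗ[F] (Unit ⊕ (Fin k ⊕ Fin k) → F) :=
    T ∘ₗ D + (LinearMap.proj (Sum.inl ())).smulRight x
  have hS : ∀ v, Q (S v) = c * oddForm F k v := fun v => by
    simp only [S, LinearMap.add_apply, LinearMap.comp_apply, LinearMap.smulRight_apply, LinearMap.proj_apply]
    rw [quad_add', quad_smul', polar_smul_r', hT, hTA _ x hxA, ← plusForm_apply, ← oddForm_apply]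
    simp only [Cfsg.quadFormPlus, Cfsg.quadFormOdd, D, LinearMap.pi_apply, Sum.elim_inl, Sum.elim_inr,
      LinearMap.smul_apply, LinearMap.proj_apply, smul_eq_mul, mul_add, Finset.mul_sum]
    simp only [mul_assoc, c]
    ring
  have hinj : Function.Injective S := by
    rw [← LinearMap.ker_eq_bot, LinearMap.ker_eq_bot']
    intro v hv
    refine (oddForm_nondeg k h2).1 v fun w => ?_
    have h : c * polar (oddForm F k) v w = 0 := by
      have h1 : polar Q (S v) (S w) = c * polar (oddForm F k) v w := by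
        simp only [polar, ← map_add, hS]; ring
      rw [← h1, hv]; simp [polar]
    exact (mul_eq_zero.1 h).resolve_left hc
  exact ⟨c, LinearEquiv.ofInjectiveEndo S hinj, hc, hS⟩

theorem odd_hP {F₀ : Type v} [Field F₀] (emb : F₀ →+* F) (w : Unit ⊕ (Fin m ⊕ Fin m) → F₀) :
    oddForm F m (⇑emb ∘ w) = emb (oddForm F₀ m w) := by
  rw [← oddForm_apply, ← oddForm_apply]
  simp [Cfsg.quadFormOdd, map_sum]

/-- The trivial datum of a standard field automorphism. -/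
def oddDesc {F₀ : Type v} [Field F₀] (emb : F₀ →+* F) (σ : F ≃+* F) :
    Desc (oddForm F m) 1 σ emb (oddForm F₀ m) (oddForm F m) where
  e := LinearEquiv.refl F _
  z := 1
  hz := one_ne_zero
  hQ v := (one_mul _).symm
  hfix v := by rw [Units.val_one, Matrix.one_mulVec]; rfl
  hemb := odd_hP m emb

theorem odd_field_class (hm : 3 ≤ m) (h2 : (2 : F) ≠ 0) {x : MulAut (Cfsg.POmega F (Cfsg.quadFormOdd m F))}
    (hx : Cfsg.IsFieldAutClassPOmega (Cfsg.quadFormOdd m F) x) {r : ℕ} (hr : r.Prime) (hxr : orderOf x = r) :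
    ∃ (σ : F ≃+* F) (φ k : MulAut (Cfsg.POmega F (Cfsg.quadFormOdd m F))),
      IsSemiInduced (Cfsg.quadFormOdd m F) (1 : GL (Unit ⊕ (Fin m ⊕ Fin m)) F) σ φ ∧ orderOf σ = r ∧
      orderOf φ = r ∧ k ∈ Cfsg.pgoAut F (Cfsg.quadFormOdd m F) ∧ x = k * φ * k⁻¹ := by
  haveI := octx_odd (F := F) hm h2
  obtain ⟨α, φ, σ, hne, hφ, rfl⟩ := hx
  have hφ' : IsSemiInduced (Cfsg.quadFormOdd m F) (1 : GL (Unit ⊕ (Fin m ⊕ Fin m)) F) σ (α * x * α⁻¹) :=
    ⟨std_pair (odd_std m σ), (induced_std_iff σ _).2 hφ⟩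
  have hord : orderOf (α * x * α⁻¹) = r := by rw [← hxr]; exact (MulAut.conj α).orderOf_eq x
  obtain ⟨k, hk, e⟩ := conj_std (oddForm F m) (oddForm_apply m) (odd_std m) α hφ'
  refine ⟨σ, _, k, hφ', orderOf_field (oddForm F m) (oddForm_apply m) hφ' hr hord hne, hord, hk, ?_⟩
  rw [← e]
  group

theorem odd_coset_conj (hm : 3 ≤ m) (h2 : (2 : F) ≠ 0) {x δ : MulAut (Cfsg.POmega F (Cfsg.quadFormOdd m F))}
    (hx : Cfsg.IsFieldAutClassPOmega (Cfsg.quadFormOdd m F) x) {r : ℕ} (hr : r.Prime) (hxr : orderOf x = r)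
    (hδ : δ ∈ Cfsg.pgoAut F (Cfsg.quadFormOdd m F)) (hord : orderOf (δ * x) = r) :
    Cfsg.IsConjUnder (Cfsg.pgoAut F (Cfsg.quadFormOdd m F)) x (δ * x) := by
  haveI := octx_odd (F := F) hm h2
  obtain ⟨σ, φ, k, hφ, hσ, -, hk, rfl⟩ := odd_field_class m hm h2 hx hr hxr
  have hδ' : k⁻¹ * δ * k ∈ Cfsg.pgoAut F (Cfsg.quadFormOdd m F) := mul_mem (mul_mem (inv_mem hk) hδ) hk
  rw [pgoAut_eq] at hδ'
  obtain ⟨A, -, hA⟩ := hδ'
  have hA' := semi_left A hφ
  have hy : (Φ (Cfsg.quadFormOdd m F) A * φ) ^ r = 1 := by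
    rw [hA, show k⁻¹ * δ * k * φ = k⁻¹ * (δ * (k * φ * k⁻¹)) * (k⁻¹)⁻¹ by group, conj_pow, ← hord,
      pow_orderOf_eq_one, mul_one, mul_inv_cancel]
  let K := AutPSL.fixField σ
  letI : Fintype K := Fintype.ofFinite K
  have hι : ∀ y, σ y = y ↔ y ∈ Set.range K.subtype := fun y =>
    ⟨fun h => ⟨⟨y, h⟩, rfl⟩, by rintro ⟨z, rfl⟩; exact z.2⟩
  obtain ⟨A', P₀, P, hA'', hnd, ⟨D⟩⟩ := exists_desc (oddForm F m) (oddForm_apply m) hA' hσ hr.one_le hy hι
  have h2K := odd_two K.subtype h2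
  obtain ⟨c, e, hc, he⟩ := odd_classify m h2K P₀ hnd
  obtain ⟨D'⟩ := D.change (oddForm F m) (R₀ := oddForm K m) (R := oddForm F m) (odd_hP m K.subtype) (fun a => (hι _).2 ⟨a, rfl⟩)
    hc e he
  obtain ⟨g, hg, -⟩ := (oddDesc m K.subtype σ).conj (oddForm_apply m) D' hφ hA''
  refine ⟨k * Φ _ g * k⁻¹, mul_mem (mul_mem hk (by rw [pgoAut_eq]; exact ⟨g, trivial, rfl⟩)) (inv_mem hk), ?_⟩
  calc δ * (k * φ * k⁻¹) = k * (Φ _ A * φ) * k⁻¹ := by rw [hA]; group
    _ = k * (Φ _ g * φ * (Φ _ g)⁻¹) * k⁻¹ := by rw [hg]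
    _ = _ := by group

variable {F₀ : Type v} [Field F₀] [Fintype F₀]

theorem odd_centralizer (hm : 3 ≤ m) (h2 : (2 : F) ≠ 0) (emb : F₀ →+* F) {σ : F ≃+* F}
    (hι : ∀ x, σ x = x ↔ x ∈ Set.range emb) {φ : MulAut (Cfsg.POmega F (Cfsg.quadFormOdd m F))}
    (hφ : IsSemiInduced (Cfsg.quadFormOdd m F) (1 : GL (Unit ⊕ (Fin m ⊕ Fin m)) F) σ φ) :
    Nonempty (↥(Cfsg.pgoAut F (Cfsg.quadFormOdd m F) ⊓ Subgroup.centralizer {φ}) ≃*
      ↥(Cfsg.pgoAut F₀ (Cfsg.quadFormOdd m F₀))) := by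
  haveI := octx_odd (F := F) hm h2
  haveI := octx_odd (F := F₀) hm (odd_two emb h2)
  rw [pgoAut_eq, pgoAut_eq]
  exact (oddDesc m emb σ).centralizer (oddForm_apply m) (oddForm_apply m) hι hφ ⊤ ⊤ le_top fun _ => Iff.rfl

/-- The spinor class of a product of reflections over the fixed field. -/
theorem odd_chi_list (h2 : (2 : F) ≠ 0) (emb : F₀ →+* F) (σ : F ≃+* F) (L : List (Unit ⊕ (Fin m ⊕ Fin m) → F₀))
    (hL : ∀ a ∈ L, oddForm F₀ m a ≠ 0) (heven : Even L.length) [∀ x : F, Decidable (IsSquare x)] :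
    oddChi m h2 ((oddDesc m emb σ).bc (oddForm_apply m) (oddForm_apply m)
      (ofOrth (Cfsg.quadFormOdd m F₀) (oddForm F₀ m) (oddForm_apply m) (L.map (refl (oddForm F₀ m))).prod)) =
    (L.map fun a => if IsSquare (emb (oddForm F₀ m a)) then (-1 : ℤˣ) else 1).prod := by
  rw [Desc.bc_prod_refl]
  show levelSign (oddForm F m) 1 (oddNorm m h2 _) = _
  have hQ : ∀ a, oddForm F m ((oddDesc m emb σ).e (⇑emb ∘ a)) = emb (oddForm F₀ m a) := odd_hP m emb
  rw [oddNorm_ofOrth m h2, map_list_prod, List.map_map, List.map_map]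
  · refine congrArg List.prod (List.map_congr_left fun a ha => ?_)
    show levelSign (oddForm F m) 1 (refl _ _) = _
    rw [levelSign_refl _ h2 one_ne_zero (by rw [hQ]; exact (map_ne_zero emb).2 (hL a ha)), hQ]
    simp only [one_mul]
  · rw [det_prod_refl, List.length_map, heven.neg_one_pow]
    intro a ha
    obtain ⟨b, hb, rfl⟩ := List.mem_map.1 ha
    rw [hQ]; exact (map_ne_zero emb).2 (hL b hb)

theorem odd_split (hm : 3 ≤ m) (h2 : (2 : F) ≠ 0) (emb : F₀ →+* F) {σ : F ≃+* F}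
    (hι : ∀ x, σ x = x ↔ x ∈ Set.range emb) {φ : MulAut (Cfsg.POmega F (Cfsg.quadFormOdd m F))}
    (hφ : IsSemiInduced (Cfsg.quadFormOdd m F) (1 : GL (Unit ⊕ (Fin m ⊕ Fin m)) F) σ φ) {r : ℕ}
    (hσ : orderOf σ = r) :
    (Odd r → Cfsg.splitClassCount (Cfsg.pgoAut F (Cfsg.quadFormOdd m F))
      (Cfsg.Inn (Cfsg.POmega F (Cfsg.quadFormOdd m F))) φ = 1) ∧
    (r = 2 → Cfsg.splitClassCount (Cfsg.pgoAut F (Cfsg.quadFormOdd m F))
      (Cfsg.Inn (Cfsg.POmega F (Cfsg.quadFormOdd m F))) φ = 2) := by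
  classical
  haveI := octx_odd (F := F) hm h2
  have h20 := odd_two emb h2
  haveI := octx_odd (F := F₀) hm h20
  set D := oddDesc m emb σ
  haveI := POmegaAut.inn_normal (Cfsg.POmega F (Cfsg.quadFormOdd m F))
  have hchi : ∀ t, Φ (Cfsg.quadFormOdd m F) t ∈ Cfsg.Inn (Cfsg.POmega F (Cfsg.quadFormOdd m F)) ↔ oddChi m h2 t = 1 := by
    intro t
    rw [oddChi_iff, inn_eq, ← Subgroup.comap_map_eq, Subgroup.mem_comap]
  have hle : Cfsg.Inn (Cfsg.POmega F (Cfsg.quadFormOdd m F)) ≤ Cfsg.pgoAut F (Cfsg.quadFormOdd m F) := by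
    rw [inn_eq, pgoAut_eq]; exact Subgroup.map_mono le_top
  rw [POmegaAut.splitClassCount_eq _ _ hle]
  set C := Cfsg.pgoAut F (Cfsg.quadFormOdd m F) ⊓ Subgroup.centralizer {φ}
  refine ⟨fun hr => Subgroup.relIndex_eq_one.2 ?_, ?_⟩
  · intro y hy
    rw [pgoAut_eq] at hy
    obtain ⟨t, -, rfl⟩ := hy
    by_cases ht : oddChi m h2 t = 1
    · exact Subgroup.mem_sup_left ((hchi t).2 ht)
    obtain ⟨ν, hν⟩ := FiniteField.exists_nonsquare (F := F₀) (fun hc => by
      haveI : CharP F₀ 2 := ringChar.of_eq hc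
      exact h20 CharTwo.two_eq_zero)
    have hν0 : ν ≠ 0 := fun h => hν (h ▸ IsSquare.zero)
    obtain ⟨hp⟩ := hyp (Q := oddForm F₀ m)
    set b := hp.e₀ + ν • hp.f₀
    have hb : oddForm F₀ m b = ν := by rw [quad_add', quad_smul', polar_smul_r', hp.he₀, hp.hf₀, hp.h00]; ring
    set B := D.bc (oddForm_apply m) (oddForm_apply m) (ofOrth (Cfsg.quadFormOdd m F₀) (oddForm F₀ m) (oddForm_apply m)
      (([unitVec m, b] : List _).map (refl (oddForm F₀ m))).prod)
    have hB : oddChi m h2 B = -1 := by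
      rw [odd_chi_list m h2 emb σ _ (by simp [unitVec_value, hb, hν0]) (by simp)]
      simp [unitVec_value, hb, not_square_of_odd hι hσ hr hν]
    have hBC : Φ (Cfsg.quadFormOdd m F) B ∈ C := by
      refine ⟨?_, Subgroup.mem_centralizer_singleton_iff.2
        (D.bc_commute (oddForm_apply m) (oddForm_apply m) (fun a => (hι _).2 ⟨a, rfl⟩) hφ _)⟩
      rw [pgoAut_eq]; exact ⟨B, trivial, rfl⟩
    have htB : oddChi m h2 (t * B) = 1 := by
      rcases Int.units_eq_one_or (oddChi m h2 t) with h | h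
      · exact absurd h ht
      · rw [map_mul, h, hB, neg_mul_neg, one_mul]
    have := Subgroup.mul_mem _ (Subgroup.mem_sup_left (T := C) ((hchi _).2 htB))
      (Subgroup.mem_sup_right (inv_mem hBC))
    rwa [map_mul, mul_inv_cancel_right] at this
  · intro hr
    subst hr
    have hC : C ≤ Cfsg.Inn (Cfsg.POmega F (Cfsg.quadFormOdd m F)) := by
      rintro y ⟨hy, hyc⟩
      rw [SetLike.mem_coe, pgoAut_eq] at hy
      obtain ⟨t, -, rfl⟩ := hy
      obtain ⟨B, hB⟩ := D.exists_bc (oddForm_apply m) (oddForm_apply m) hι hφ t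
        (Subgroup.mem_centralizer_singleton_iff.1 hyc)
      set h0 := oddNorm m h20 B
      set B' := ofOrth (Cfsg.quadFormOdd m F₀) (oddForm F₀ m) (oddForm_apply m) h0
      have hBB : Φ (Cfsg.quadFormOdd m F₀) B = Φ (Cfsg.quadFormOdd m F₀) B' := by
        rw [← inv_mul_eq_one, ← map_inv, ← map_mul]
        refine MonoidHom.mem_ker.1 (scalars_le_ker _ ⟨(oddScal m B)⁻¹, Matrix.ext_iff_mulVec.2 fun v => ?_⟩)
        rw [← lin_apply, Matrix.smul_mulVec, Matrix.one_mulVec]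
        apply (lin (Cfsg.quadFormOdd m F₀) B).injective
        rw [map_smul, ← LinearEquiv.mul_apply, ← map_mul, mul_inv_cancel_left]
        show lin _ B' v = _
        rw [lin_ofOrth, oddNorm_apply]
      have hbc : Φ (Cfsg.quadFormOdd m F) (D.bc (oddForm_apply m) (oddForm_apply m) B) =
          Φ (Cfsg.quadFormOdd m F) (D.bc (oddForm_apply m) (oddForm_apply m) B') := by
        rw [← inv_mul_eq_one, ← map_inv, ← map_mul, ← map_inv, ← map_mul, D.bc_phi_one, map_mul, map_inv, hBB,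
          inv_mul_cancel]
      rw [← hB, hbc, hchi]
      obtain ⟨L, hL, hLe⟩ := exists_refl_list (Q := oddForm F₀ m) (OCtx0.nd) (good (Q := oddForm F₀ m)) h0
      have hev : Even L.length := by
        have hd := oddNorm_det m h20 B
        rw [show oddNorm m h20 B = (L.map (refl (oddForm F₀ m))).prod from hLe, det_prod_refl L hL] at hd
        refine Nat.not_odd_iff_even.1 fun ho => ?_
        rw [ho.neg_one_pow] at hd
        exact h20 (by linear_combination -hd)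
      show oddChi m h2 (D.bc _ _ (ofOrth _ _ _ h0)) = 1
      rw [hLe, odd_chi_list m h2 emb σ L hL hev, List.map_congr_left (g := fun _ => (-1 : ℤˣ))
        (fun a _ => if_pos (square_of_two hι hσ h2 _)), List.map_const', List.prod_replicate, hev.neg_one_pow]
    rw [sup_eq_left.2 hC]
    obtain ⟨ψ, hψ, hk⟩ := odd_pgo (F := F) m h2
    rw [relIndex_of_hom ψ hψ hk, Nat.card_eq_fintype_card, Fintype.card_units_int]

end CfsgLib.KnownC.AutPOmega
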