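import Cfsg.Agent.Lib.KnownC.AutPOmega.FieldPlusSplit

/-!
# Centralisers and classes of involutory graph-field automorphisms of the plus-type groups
-/

set_option autoImplicit false
set_option linter.unusedSectionVars false
set_option linter.style.haveILetI false

open Module QuadraticMap
open scoped Matrix

namespace CfsgLib.KnownC.AutPOmega

open CfsgLib.Orth CfsgLib.Classical
open CfsgLib.KnownC.POmegaAut (GS Φ lin lin_apply lin_injective ofOrth lin_ofOrth IsSemiInduced inn_eq induced_iff)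

universe u v

variable {F : Type u} [Field F] [Fintype F] {F₀ : Type v} [Field F₀] [Fintype F₀] {emb : F₀ →+* F} {k : ℕ}

/-- An involutory graph-field automorphism is of minus type over the fixed field. -/
theorem graph_field_desc (hk : 4 ≤ k) [hQ : OCtx (plusForm F (k + 1))]
    {x : MulAut (Cfsg.POmega F (Cfsg.quadFormPlus (k + 1) F))} (hx : Cfsg.IsGraphFieldAutClassPOmegaPlus (k + 1) x)
    {r : ℕ} (hxr : x ^ r = 1) {σ : F ≃+* F} {A : GL (Fin (k + 1) ⊕ Fin (k + 1)) F}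
    (hA : IsSemiInduced (Cfsg.quadFormPlus (k + 1) F) A σ x) (hσ : orderOf σ = r) (hr : 1 ≤ r)
    (hι : ∀ x, σ x = x ↔ x ∈ Set.range emb) {ζ₀ : F₀} (hζ₀ : ∀ t : F₀, t ^ 2 + t + ζ₀ ≠ 0) :
    ∃ A' : GL (Fin (k + 1) ⊕ Fin (k + 1)) F, IsSemiInduced (Cfsg.quadFormPlus (k + 1) F) A' σ x ∧
      Nonempty (Desc (plusForm F (k + 1)) A' σ emb (minusForm F₀ k 1 ζ₀) (minusForm F k 1 (emb ζ₀))) := by
  obtain ⟨φ, hφ⟩ := exists_induced (std_pair (Qf := Cfsg.quadFormPlus (k + 1) F) (plus_std (k + 1) σ))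
  obtain ⟨A', hA', ⟨⟨D⟩⟩ | hD⟩ := plus_desc hA hσ hr hxr hι hζ₀
  · exact absurd (plus_kind hA' hφ D) (graph_field_not_mem (by omega) hx hA' hφ)
  · exact ⟨A', hA', hD⟩

/-- Membership of a product of reflections in the inner automorphisms, when `-1` is a commutator. -/
theorem refl_prod_mem_inn {ι : Type} [Fintype ι] [DecidableEq ι] {Qf : (ι → F) → F} {Q : QuadraticForm F (ι → F)}
    {n : ℕ} (S : POmegaAut.Setup Qf Q n) (hneg : S.negOne ∈ commutator (orthGroup Q)) (L : List (ι → F))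
    (hL : ∀ a ∈ L, Q a ≠ 0) :
    Φ Qf (ofOrth Qf Q S.hQf (L.map (refl Q)).prod) ∈ Cfsg.Inn (Cfsg.POmega F Qf) ↔
      Even L.length ∧ IsSquare (L.map fun a => Q a).prod := by
  rw [← Subgroup.mem_comap, ← S.N_eq, show ofOrth Qf Q S.hQf (L.map (refl Q)).prod = S.iso (L.map (refl Q)).prod from rfl,
    S.iso_mem_N, Subgroup.mul_mem_cancel_left _ hneg, or_self, prod_refl_mem_commutator_iff S.hQ S.h2 L hL]

/-- A subgroup over which every element is trivial or one given class. -/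
theorem relIndex_sup_two {X : Type*} [Group X] {N C : Subgroup X} [N.Normal] {g : X} (hg : g ∈ C) (hgN : g ∉ N)
    (hC : ∀ c ∈ C, c ∈ N ∨ c * g ∈ N) : N.relIndex (N ⊔ C) = 2 := by
  have hg2 : g * g ∈ N := ((hC g hg).resolve_left hgN)
  rw [Subgroup.relIndex, Subgroup.index_eq_two_iff]
  refine ⟨⟨g, Subgroup.mem_sup_right hg⟩, fun b => ?_⟩
  simp only [Subgroup.mem_subgroupOf, Subgroup.coe_mul]
  obtain ⟨n, hn, c, hc, e⟩ := Subgroup.mem_sup_of_normal_left.1 b.2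
  rw [← e, mul_assoc, N.mul_mem_cancel_left hn, N.mul_mem_cancel_left hn]
  rcases hC c hc with h | h
  · exact Or.inr ⟨h, fun h' => hgN ((N.mul_mem_cancel_left h).1 h')⟩
  · exact Or.inl ⟨h, fun h' => hgN ((N.mul_mem_cancel_left h').1 h)⟩

set_option maxHeartbeats 1000000 in
/-- The classes inside the class of the standard involutory graph-field automorphism in odd characteristic. -/
theorem graph_field_count (hk : 4 ≤ k) [hQ : OCtx (plusForm F (k + 1))] {σ : F ≃+* F} (hσ : orderOf σ = 2)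
    (hι : ∀ x, σ x = x ↔ x ∈ Set.range emb) (h2 : (2 : F) ≠ 0) {ζ₀ : F₀} (hζ₀ : ∀ t : F₀, t ^ 2 + t + ζ₀ ≠ 0)
    {ρ : F} (hρ : ρ ^ 2 + ρ + emb ζ₀ = 0) {A : GL (Fin (k + 1) ⊕ Fin (k + 1)) F}
    (D : Desc (plusForm F (k + 1)) A σ emb (minusForm F₀ k 1 ζ₀) (minusForm F k 1 (emb ζ₀))) (hz : D.z = 1)
    (he : ∀ v, D.e v = plusCoord k ρ v) (hσρ : σ ρ = -1 - ρ)
    {β : MulAut (Cfsg.POmega F (Cfsg.quadFormPlus (k + 1) F))}
    (hβ : IsSemiInduced (Cfsg.quadFormPlus (k + 1) F) A σ β) :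
    ((Odd (k + 1) ∧ Fintype.card F₀ % 4 = 1) → Cfsg.splitClassCount (Cfsg.inndiagPOmegaPlus (k + 1) F)
        (Cfsg.Inn (Cfsg.POmega F (Cfsg.quadFormPlus (k + 1) F))) β = 4) ∧
    (¬ (Odd (k + 1) ∧ Fintype.card F₀ % 4 = 1) → Cfsg.splitClassCount (Cfsg.inndiagPOmegaPlus (k + 1) F)
        (Cfsg.Inn (Cfsg.POmega F (Cfsg.quadFormPlus (k + 1) F))) β = 2) := by
  classical
  have h20 : (2 : F₀) ≠ 0 := fun h => h2 (by rw [← map_ofNat emb 2, h, map_zero])
  have hab₀ := anisotropic_of_no_root hζ₀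
  haveI hP := octx_minus (F := F₀) (m := k) (by omega) hab₀
  obtain ⟨S₀, -, -, -⟩ := POmegaAut.minus_setup k (odd_of_two_ne h20) (by omega) 1 ζ₀ hab₀
  obtain ⟨S, hneg, -, heq⟩ := POmegaAut.plus_setup (F := F) (m := k + 1) (odd_of_two_ne h2) (by omega)
  have hσσ : ∀ y, σ (σ y) = y := fun y => by
    have h := pow_orderOf_eq_one σ
    rw [hσ, pow_two] at h
    exact RingEquiv.congr_fun h y
  have hσne : σ ≠ RingEquiv.refl F := fun h => by
    rw [h, show (RingEquiv.refl F : F ≃+* F) = 1 from rfl, orderOf_one] at hσ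
    omega
  have hq1 := (POmegaAut.fixed_isSquare hσσ hσne h2).2
  have hN : S.negOne ∈ commutator (orthGroup (plusForm F (k + 1))) := hneg.2 fun h => by omega
  have hn := card_minus_index k
  have hn' := card_plus_index (k + 1)
  have h4 : (Cfsg.Inn (Cfsg.POmega F (Cfsg.quadFormPlus (k + 1) F))).relIndex
      (Cfsg.inndiagPOmegaPlus (k + 1) F) = 4 := by
    rw [heq]
    rcases S.eps_cases S.s with h | h
    · rw [S.relIndex_of_exists (S.inndiag_klein hN h), Nat.card_eq_fintype_card, Fintype.card_multiplicative,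
        Fintype.card_prod, ZMod.card]
    · rw [S.relIndex_of_exists (S.inndiag_four hN h), Nat.card_eq_fintype_card, Fintype.card_multiplicative,
        ZMod.card]
  haveI hInn := POmegaAut.inn_normal (Cfsg.POmega F (Cfsg.quadFormPlus (k + 1) F))
  obtain ⟨B₁, hB₁, ⟨ν, hB₁ν, hν⟩, L, hL, hLev, hΦ, hsq⟩ := exists_centralising hι hσ h2 D hz he hρ hσρ hζ₀
  -- centralising similitudes with square multiplier are inner
  have key : ∀ B : GS (Cfsg.quadFormMinus k F₀ 1 ζ₀),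
      B ∈ properSub (minusForm F₀ k 1 ζ₀) (minusForm_apply k 1 ζ₀) (k + 1) → IsSquare (S₀.mult B) →
      Φ (Cfsg.quadFormPlus (k + 1) F) (D.bc (plusForm_apply (k + 1)) (minusForm_apply k 1 ζ₀) B) ∈
        Cfsg.Inn (Cfsg.POmega F (Cfsg.quadFormPlus (k + 1) F)) := by
    intro B hB hsqB
    obtain ⟨z, hz', h, rfl⟩ := S₀.exists_decomp B hsqB
    have hz1 : Φ (Cfsg.quadFormMinus k F₀ 1 ζ₀) z = 1 := MonoidHom.mem_ker.1 (POmegaAut.scalars_le_ker _ hz')
    rw [map_mul, map_mul, (D.bc_phi_one (plusForm_apply (k + 1)) (minusForm_apply k 1 ζ₀) z).2 hz1, one_mul]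
    obtain ⟨M, hM, rfl⟩ := exists_refl_list hP.nd (good (Q := minusForm F₀ k 1 ζ₀)) h
    have hh : S₀.iso (M.map (refl (minusForm F₀ k 1 ζ₀))).prod ∈
        properSub (minusForm F₀ k 1 ζ₀) (minusForm_apply k 1 ζ₀) (k + 1) := by
      have hzp := ker_le_proper (minusForm F₀ k 1 ζ₀) (minusForm_apply k 1 ζ₀) hn (MonoidHom.mem_ker.2 hz1)
      simpa using mul_mem (inv_mem hzp) hB
    have hev : Even M.length := (prod_refl_proper _ (minusForm_apply k 1 ζ₀) hn M hM).1 hh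
    rw [show S₀.iso (M.map (refl (minusForm F₀ k 1 ζ₀))).prod = ofOrth (Cfsg.quadFormMinus k F₀ 1 ζ₀)
      (minusForm F₀ k 1 ζ₀) (minusForm_apply k 1 ζ₀) (M.map (refl (minusForm F₀ k 1 ζ₀))).prod from rfl, D.bc_prod_refl]
    have hQM : ∀ a ∈ M, plusForm F (k + 1) (D.e (⇑emb ∘ a)) = emb (minusForm F₀ k 1 ζ₀ a) := fun a _ => by
      rw [D.hQ, D.hemb, hz, one_mul]
    refine (refl_prod_mem_inn S hN _ ?_).2 ⟨by rw [List.length_map]; exact hev, isSquare_list_prod _ ?_⟩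
    · intro a ha
      obtain ⟨b, hb, rfl⟩ := List.mem_map.1 ha
      rw [hQM b hb]
      exact (map_ne_zero emb).2 (hM b hb)
    · intro a ha
      rw [List.map_map] at ha
      obtain ⟨b, hb, rfl⟩ := List.mem_map.1 ha
      show IsSquare (plusForm F (k + 1) (D.e (⇑emb ∘ b)))
      rw [hQM b hb]
      exact square_of_two hι hσ h2 _
  set g₁ := Φ (Cfsg.quadFormPlus (k + 1) F) (D.bc (plusForm_apply (k + 1)) (minusForm_apply k 1 ζ₀) B₁) with hg₁
  have hg₁C : g₁ ∈ Cfsg.inndiagPOmegaPlus (k + 1) F ⊓ Subgroup.centralizer {β} := by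
    rw [inndiag_plus_eq (by omega)]
    exact ⟨⟨_, (D.bc_proper _ _ hn' hn B₁).2 hB₁, rfl⟩, Subgroup.mem_centralizer_singleton_iff.2
      (D.bc_commute _ _ (fun y => (hι _).2 ⟨y, rfl⟩) hβ B₁)⟩
  have hC : ∀ y ∈ Cfsg.inndiagPOmegaPlus (k + 1) F ⊓ Subgroup.centralizer {β},
      y ∈ Cfsg.Inn (Cfsg.POmega F (Cfsg.quadFormPlus (k + 1) F)) ∨
        y * g₁ ∈ Cfsg.Inn (Cfsg.POmega F (Cfsg.quadFormPlus (k + 1) F)) := by
    intro y hy
    rw [inndiag_plus_eq (by omega)] at hy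
    obtain ⟨⟨g, hg, rfl⟩, hyc⟩ := hy
    obtain ⟨B, hB⟩ := D.exists_bc (plusForm_apply (k + 1)) (minusForm_apply k 1 ζ₀) hι hβ g
      (Subgroup.mem_centralizer_singleton_iff.1 hyc)
    have hBp : B ∈ properSub (minusForm F₀ k 1 ζ₀) (minusForm_apply k 1 ζ₀) (k + 1) :=
      (D.bc_proper _ _ hn' hn B).1 ((proper_congr _ _ hn' hB).2 hg)
    rw [← hB]
    by_cases hsqB : IsSquare (S₀.mult B)
    · exact Or.inl (key B hBp hsqB)
    refine Or.inr ?_
    rw [hg₁, ← map_mul, ← map_mul]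
    refine key _ (mul_mem hBp hB₁) ?_
    rw [map_mul, S₀.mult_of B₁ hB₁ν]
    have hq0 : ringChar F₀ ≠ 2 := fun hc => by
      haveI : CharP F₀ 2 := ringChar.eq_iff.1 hc
      exact h20 CharTwo.two_eq_zero
    exact (Discr.isSquare_mul_nonsquare hq0 (S₀.mult_ne B) hν).2 hsqB
  have hiff : g₁ ∈ Cfsg.Inn (Cfsg.POmega F (Cfsg.quadFormPlus (k + 1) F)) ↔
      (Odd (k + 1) ∧ Fintype.card F₀ % 4 = 1) := by
    rw [hΦ, ← hsq]
    exact (refl_prod_mem_inn S hN L hL).trans (and_iff_right hLev)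
  have hle : Cfsg.Inn (Cfsg.POmega F (Cfsg.quadFormPlus (k + 1) F)) ≤ Cfsg.inndiagPOmegaPlus (k + 1) F := by
    rw [inndiag_plus_eq (by omega)]
    exact inn_le_proper _ _ hn'
  rw [POmegaAut.splitClassCount_eq _ _ hle]
  have hmul := Subgroup.relIndex_mul_relIndex (Cfsg.Inn (Cfsg.POmega F (Cfsg.quadFormPlus (k + 1) F)))
    (Cfsg.Inn (Cfsg.POmega F (Cfsg.quadFormPlus (k + 1) F)) ⊔
      (Cfsg.inndiagPOmegaPlus (k + 1) F ⊓ Subgroup.centralizer {β}))
    (Cfsg.inndiagPOmegaPlus (k + 1) F) le_sup_left (sup_le hle inf_le_left)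
  rw [h4] at hmul
  refine ⟨fun h => ?_, fun h => ?_⟩
  · have hle' : Cfsg.inndiagPOmegaPlus (k + 1) F ⊓ Subgroup.centralizer {β} ≤
        Cfsg.Inn (Cfsg.POmega F (Cfsg.quadFormPlus (k + 1) F)) := fun y hy =>
      (hC y hy).elim id fun h' => (Subgroup.mul_mem_cancel_right _ (hiff.2 h)).1 h'
    rw [sup_eq_left.2 hle']
    exact h4
  · rw [relIndex_sup_two hg₁C (fun h' => h (hiff.1 h')) hC] at hmul
    omega

set_option maxHeartbeats 1000000 in
/-- The involutory graph-field automorphisms of the plus-type groups. -/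
theorem graph_field_main {p f : ℕ} [Fact p.Prime] (hF : Fintype.card F = p ^ f) (hk : 4 ≤ k)
    (x : MulAut (Cfsg.POmega F (Cfsg.quadFormPlus (k + 1) F))) (hx : Cfsg.IsGraphFieldAutClassPOmegaPlus (k + 1) x)
    (hx2 : orderOf x = 2) (F₁ : Type v) [Field F₁] [Fintype F₁] (hF₁ : Fintype.card F₁ = p ^ (f / 2)) :
    Even f ∧
    (∀ y : MulAut (Cfsg.POmega F (Cfsg.quadFormPlus (k + 1) F)), Cfsg.IsGraphFieldAutClassPOmegaPlus (k + 1) y →
      orderOf y = 2 → Cfsg.IsConjUnder (Cfsg.inndiagPOmegaPlus (k + 1) F) x y) ∧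
    (∃ a₀ b₀ : F₁, (∀ z₁ z₂ : F₁, z₁ ^ 2 + a₀ * z₁ * z₂ + b₀ * z₂ ^ 2 = 0 → z₁ = 0 ∧ z₂ = 0) ∧
      Nonempty (↥(Cfsg.inndiagPOmegaPlus (k + 1) F ⊓ Subgroup.centralizer {x}) ≃*
        ↥(Cfsg.inndiagPOmegaMinus k F₁ a₀ b₀))) ∧
    (p = 2 → Cfsg.splitClassCount (Cfsg.inndiagPOmegaPlus (k + 1) F)
      (Cfsg.Inn (Cfsg.POmega F (Cfsg.quadFormPlus (k + 1) F))) x = 1) ∧
    ((p ≠ 2 ∧ Odd (k + 1) ∧ p ^ (f / 2) % 4 = 1) → Cfsg.splitClassCount (Cfsg.inndiagPOmegaPlus (k + 1) F)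
      (Cfsg.Inn (Cfsg.POmega F (Cfsg.quadFormPlus (k + 1) F))) x = 4) ∧
    ((p ≠ 2 ∧ ¬ (Odd (k + 1) ∧ p ^ (f / 2) % 4 = 1)) → Cfsg.splitClassCount (Cfsg.inndiagPOmegaPlus (k + 1) F)
      (Cfsg.Inn (Cfsg.POmega F (Cfsg.quadFormPlus (k + 1) F))) x = 2) := by
  haveI := octx_plus (F := F) (m := k + 1) (by omega)
  have hn' := card_plus_index (k + 1)
  obtain ⟨σ, A, hA, hσ⟩ := plus_class (by omega) (Or.inr hx) Nat.prime_two hx2
  obtain ⟨h2f, emb, hι⟩ := exists_emb hF σ hσ one_le_two F₁ hF₁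
  obtain ⟨ζ₀, hζ₀⟩ := exists_zeta F₁
  have hab₀ := anisotropic_of_no_root hζ₀
  haveI := octx_minus (F := F₁) (m := k) (by omega) hab₀
  have hσe : ∀ a, σ (emb a) = emb a := fun a => (hι _).2 ⟨a, rfl⟩
  obtain ⟨A', hA', ⟨D⟩⟩ := graph_field_desc hk hx (by rw [← hx2, pow_orderOf_eq_one]) hA hσ one_le_two hι hζ₀
  obtain ⟨ρ, hρ⟩ := exists_root_of_minus D
  obtain ⟨D₁, hz, he, hσρ⟩ := exists_minus_datum k hι hζ₀ hρ
  obtain ⟨φ, hφ⟩ := exists_induced (std_pair (Qf := Cfsg.quadFormPlus (k + 1) F) (plus_std (k + 1) σ))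
  have hS := semi_left (ofOrth (Cfsg.quadFormPlus (k + 1) F) (plusForm F (k + 1)) (plusForm_apply (k + 1))
    (refl (plusForm F (k + 1)) (swapVec k))) hφ
  rw [mul_one] at hS
  obtain ⟨κ, -, hκ⟩ := D.conj_proper (plusForm_apply (k + 1)) D₁ hn' hσe hA' hS
  have hGn : (Cfsg.inndiagPOmegaPlus (k + 1) F).Normal := by
    rw [inndiag_plus_eq (by omega)]; exact proper_normal _ _ hn'
  haveI hInn := POmegaAut.inn_normal (Cfsg.POmega F (Cfsg.quadFormPlus (k + 1) F))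
  refine ⟨even_iff_two_dvd.2 h2f, fun y hy hy2 => ?_, ⟨1, ζ₀, hab₀, ?_⟩, ?_⟩
  · obtain ⟨τ, B, hB, hτ⟩ := plus_class (by omega) (Or.inr hy) Nat.prime_two hy2
    obtain rfl := involution_unique hσ hτ
    obtain ⟨B', hB', ⟨D'⟩⟩ := graph_field_desc hk hy (by rw [← hy2, pow_orderOf_eq_one]) hB hσ one_le_two hι hζ₀
    rw [inndiag_plus_eq (by omega)]
    exact D.conj_proper (plusForm_apply (k + 1)) D' hn' hσe hA' hB'
  · rw [inndiag_plus_eq (by omega), inndiag_minus_eq (by omega) hab₀]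
    exact D.centralizer_proper (plusForm_apply (k + 1)) (minusForm_apply k 1 ζ₀) hn' (card_minus_index k) hι hA'
  rw [SplitGen.count_conj hGn hInn κ x, ← hκ, ← hF₁]
  have hp2 : p = 2 ↔ (2 : F) = 0 := by
    constructor
    · rintro rfl
      by_contra h
      have h1 := odd_of_two_ne h
      rw [hF] at h1
      rcases Nat.eq_zero_or_pos f with rfl | hf
      · exact absurd (Fintype.one_lt_card (α := F)) (by simp [hF])
      · exact Nat.not_even_iff_odd.2 h1 (Even.pow_of_ne_zero even_two hf.ne')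
    · intro h
      by_contra hp
      haveI := charTwo_of_zero h
      have h1 := FiniteField.even_card_of_char_two (F := F) (ringChar.eq F 2)
      have h2 : Odd (p ^ f) := ((Fact.out : p.Prime).eq_two_or_odd'.resolve_left hp).pow
      rw [hF] at h1
      exact absurd (Nat.odd_iff.1 h2) (by omega)
  refine ⟨fun hp => ?_, fun ⟨hp, h⟩ => ?_, fun ⟨hp, h⟩ => ?_⟩
  · have h := hp2.1 hp
    have heq : Cfsg.inndiagPOmegaPlus (k + 1) F ≤ Cfsg.Inn (Cfsg.POmega F (Cfsg.quadFormPlus (k + 1) F)) := by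
      rw [inndiag_plus_eq (by omega)]
      rintro _ ⟨g, hg, rfl⟩
      exact (mem_proper_two _ _ h g).1 hg
    rw [POmegaAut.splitClassCount_eq _ _ (by rw [inndiag_plus_eq (by omega)]; exact inn_le_proper _ _ hn'),
      Subgroup.relIndex_eq_one]
    exact heq.trans le_sup_left
  · exact (graph_field_count hk hσ hι (fun h => hp (hp2.2 h)) hζ₀ hρ D₁ hz he hσρ hS).1 h
  · exact (graph_field_count hk hσ hι (fun h => hp (hp2.2 h)) hζ₀ hρ D₁ hz he hσρ hS).2 h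

end CfsgLib.KnownC.AutPOmega
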