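import Cfsg.Agent.Lib.KnownC.AutPOmega.FieldPlus

/-!
# Classes of involutory graph-field automorphisms of the plus-type groups
-/

set_option autoImplicit false
set_option linter.unusedSectionVars false
set_option linter.style.haveILetI false

open Module QuadraticMap
open scoped Matrix

namespace CfsgLib.KnownC.AutPOmega

open CfsgLib.Orth CfsgLib.Classical
open CfsgLib.KnownC.POmegaAut (GS Φ lin lin_apply lin_injective ofOrth lin_ofOrth IsSemiInduced inn_eq induced_iff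
  swapMat swapMat_inl swapMat_inr det_swapMat planeMat)

universe u v

variable {F : Type u} [Field F] [Fintype F]

/-- The field involution is unique. -/
theorem involution_unique {σ τ : F ≃+* F} (hσ : orderOf σ = 2) (hτ : orderOf τ = 2) : σ = τ := by
  classical
  haveI : Finite (F ≃+* F) := Finite.of_injective _ DFunLike.coe_injective
  letI : Fintype (F ≃+* F) := Fintype.ofFinite _
  haveI : IsCyclic (F ≃+* F) := by
    obtain ⟨c, hc⟩ := CharP.exists F
    obtain ⟨n, hcp, hcn⟩ := FiniteField.card F c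
    haveI : Fact c.Prime := ⟨hcp⟩
    obtain ⟨e⟩ := AutPSL.ringAut_cyclic (F := F) hcn
    exact e.symm.isCyclic.1 inferInstance
  have h1 : σ ^ 2 = 1 := hσ ▸ pow_orderOf_eq_one σ
  have h2 : τ ^ 2 = 1 := hτ ▸ pow_orderOf_eq_one τ
  have hs1 : σ ≠ 1 := fun h => by rw [h, orderOf_one] at hσ; omega
  have ht1 : τ ≠ 1 := fun h => by rw [h, orderOf_one] at hτ; omega
  by_contra hne
  have hcard := IsCyclic.card_pow_eq_one_le (α := F ≃+* F) two_pos
  have hsub : ({1, σ, τ} : Finset (F ≃+* F)) ⊆ Finset.univ.filter fun a => a ^ 2 = 1 := by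
    intro a ha
    simp only [Finset.mem_insert, Finset.mem_singleton] at ha
    rcases ha with rfl | rfl | rfl <;> simp [h1, h2]
  have h3 : ({1, σ, τ} : Finset (F ≃+* F)).card = 3 :=
    Finset.card_eq_three.2 ⟨1, σ, τ, hs1.symm, ht1.symm, hne, rfl⟩
  have := (Finset.card_le_card hsub).trans hcard
  omega

/-- A graph-field automorphism is not in the proper coset of its field automorphism. -/
theorem graph_field_not_mem {m : ℕ} (hm : 5 ≤ m) [hQ : OCtx (plusForm F m)]
    {x φ : MulAut (Cfsg.POmega F (Cfsg.quadFormPlus m F))} (hx : Cfsg.IsGraphFieldAutClassPOmegaPlus m x)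
    {A : GL (Fin m ⊕ Fin m) F} {σ : F ≃+* F} (hA : IsSemiInduced (Cfsg.quadFormPlus m F) A σ x)
    (hφ : IsSemiInduced (Cfsg.quadFormPlus m F) (1 : GL (Fin m ⊕ Fin m) F) σ φ) :
    x * φ⁻¹ ∉ (properSub (plusForm F m) (plusForm_apply m) m).map (Φ (Cfsg.quadFormPlus m F)) := by
  obtain ⟨α, γ, φ', τ, v, g, hτ, hv, hvf, hg, hγ, hφ', e⟩ := hx
  set H := (properSub (plusForm F m) (plusForm_apply m) m).map (Φ (Cfsg.quadFormPlus m F))
  have hN : H.Normal := proper_normal _ _ (card_plus_index m)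
  obtain ⟨π, hπ, hker⟩ := exists_field_hom (plusForm F m) (plusForm_apply m)
  have hφ'' : IsSemiInduced (Cfsg.quadFormPlus m F) (1 : GL (Fin m ⊕ Fin m) F) τ φ' :=
    ⟨std_pair (plus_std m τ), (induced_std_iff τ _).2 hφ'⟩
  set R := ofOrth (Cfsg.quadFormPlus m F) (plusForm F m) (plusForm_apply m) (refl (plusForm F m) v)
  have hγR : γ = Φ (Cfsg.quadFormPlus m F) R := by
    refine (induced_iff _ R γ).1 ?_
    have eg : g = R.1 := Units.ext (Matrix.ext_iff_mulVec.2 fun w => by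
      have h' : Cfsg.reflectionMatrix (Cfsg.quadFormPlus m F) v = matOf (plusForm F m) (refl (plusForm F m) v) := by
        rw [matOf_refl]; exact congrArg (fun f => Cfsg.reflectionMatrix f v) (funext (plusForm_apply m))
      rw [hg, h', matOf_mulVec, ← lin_apply, lin_ofOrth])
    rw [← eg]; exact hγ
  have hστ : σ = τ := by
    have h1 := congrArg π e
    haveI : IsCyclic (F ≃+* F) := by
      obtain ⟨c, hc⟩ := CharP.exists F
      obtain ⟨n, hcp, hcn⟩ := FiniteField.card F c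
      haveI : Fact c.Prime := ⟨hcp⟩
      obtain ⟨e⟩ := AutPSL.ringAut_cyclic (F := F) hcn
      exact e.symm.isCyclic.1 inferInstance
    rw [map_mul, map_mul, map_inv, hπ A σ x hA, map_mul, hπ _ τ φ' hφ'', (hker γ).2 (by
      rw [hγR, POmegaAut.pgoAut_eq]; exact ⟨R, trivial, rfl⟩), one_mul,
      show π α * σ = σ * π α from IsCyclic.commGroup.mul_comm _ _, mul_inv_cancel_right] at h1
    exact h1
  subst hστ
  rw [induced_unique hφ'' hφ] at e
  obtain ⟨k, hk, ek⟩ := conj_std (plusForm F m) (plusForm_apply m) (plus_std m) α hφ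
  have hk' := plus_conj_mem hk hφ
  rw [← ek] at hk'
  intro hm'
  have h1 : α⁻¹ * γ * α ∈ H := by
    have := mul_mem hm' (inv_mem hk')
    have hx' : x = α⁻¹ * (γ * φ) * α := by rw [← e]; group
    rw [hx'] at this
    convert this using 1
    group
  have h2 : γ ∈ H := by
    have := hN.conj_mem _ h1 α
    convert this using 1
    group
  rw [hγR] at h2
  obtain ⟨h', hh', e'⟩ := h2
  refine refl_not_proper (plusForm F m) (plusForm_apply m) (n := m) (a := v) (by rw [← plusForm_apply]; exact hv) ?_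
  have : h'⁻¹ * R ∈ properSub (plusForm F m) (plusForm_apply m) m :=
    ker_le_proper _ _ (card_plus_index m) (by rw [MonoidHom.mem_ker, map_mul, map_inv, e', inv_mul_cancel])
  simpa using mul_mem hh' this

theorem proper_congr {ι : Type} [Fintype ι] [DecidableEq ι] {Qf : (ι → F) → F} (Q : QuadraticForm F (ι → F))
    (hQf : ∀ v, Qf v = Q v) [hQ : OCtx0 Q] {n : ℕ} (hn : Fintype.card ι = 2 * n) {g g' : GS Qf}
    (h : Φ Qf g = Φ Qf g') : g ∈ properSub Q hQf n ↔ g' ∈ properSub Q hQf n := by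
  have hk : g⁻¹ * g' ∈ properSub Q hQf n :=
    ker_le_proper Q hQf hn (by rw [MonoidHom.mem_ker, map_mul, map_inv, h, inv_mul_cancel])
  exact ⟨fun hg => by simpa using mul_mem hg hk, fun hg => by simpa using mul_mem hg (inv_mem hk)⟩

theorem isSquare_list_prod {F : Type*} [Field F] (l : List F) (h : ∀ a ∈ l, IsSquare a) : IsSquare l.prod := by
  induction l with
  | nil => exact IsSquare.one
  | cons a l ih => rw [List.prod_cons]; exact (h a List.mem_cons_self).mul (ih fun b hb => h b (List.mem_cons_of_mem a hb))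

theorem square_cancel {K : Type*} [Field K] {a b : K} (ha : a ≠ 0) : IsSquare (a * a * b) ↔ IsSquare b :=
  ⟨fun ⟨y, hy⟩ => ⟨y / a, by field_simp; linear_combination hy⟩, fun h => (IsSquare.mul_self a).mul h⟩

variable {F₀ : Type v} [Field F₀] [Fintype F₀] {emb : F₀ →+* F}

/-- A square of the quadratic extension is detected by the norm. -/
theorem square_iff_norm {σ : F ≃+* F} (hι : ∀ x, σ x = x ↔ x ∈ Set.range emb) (hσ : orderOf σ = 2) (h2 : (2 : F) ≠ 0)
    {x : F} (hx : x ≠ 0) {n : F₀} (hn : emb n = x * σ x) : IsSquare x ↔ IsSquare n := by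
  have hσσ : ∀ y, σ (σ y) = y := fun y => by
    have h := pow_orderOf_eq_one σ
    rw [hσ, pow_two] at h
    exact RingEquiv.congr_fun h y
  have hfix : ∀ y, y * σ y ∈ Set.range emb := fun y => (hι _).1 (by rw [map_mul, hσσ, mul_comm])
  have fwd : ∀ (y : F) (k : F₀), emb k = y * σ y → IsSquare y → IsSquare k := by
    rintro y k hk ⟨z, rfl⟩
    obtain ⟨w, hw⟩ := hfix z
    exact ⟨w, emb.injective (by rw [hk, map_mul, map_mul, hw]; ring)⟩
  refine ⟨fwd x n hn, fun hsq => ?_⟩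
  by_contra hxs
  obtain ⟨ν, hν⟩ := FiniteField.exists_nonsquare (F := F₀) (fun hc => by
    haveI : CharP F₀ 2 := ringChar.of_eq hc
    exact h2 (by rw [← map_ofNat emb 2, CharTwo.two_eq_zero, map_zero]))
  have hν0 : ν ≠ 0 := fun h => hν (h ▸ IsSquare.zero)
  obtain ⟨w, hw⟩ := AutPSL.exists_nrm σ hσ one_le_two (emb ν) ((hι _).2 ⟨ν, rfl⟩)
  have hw' : w * σ w = emb ν := by rw [← hw]; simp [AutPSL.nrm]
  have hws : ¬ IsSquare w := fun h => hν (fwd w ν hw'.symm h)
  have hq : ringChar F ≠ 2 := fun hc => by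
    haveI : CharP F 2 := ringChar.eq_iff.1 hc
    exact h2 CharTwo.two_eq_zero
  have hxw : IsSquare (x * w) := (Discr.isSquare_mul_nonsquare hq hx hws).2 hxs
  have h1 : IsSquare (n * ν) := fwd (x * w) (n * ν) (by rw [map_mul, hn, ← hw', map_mul]; ring) hxw
  have hn0 : n ≠ 0 := fun h => by
    rw [h, map_zero, eq_comm, mul_eq_zero] at hn
    exact hn.elim hx fun h => hx ((map_eq_zero σ).1 h)
  obtain ⟨a, ha⟩ := hsq
  obtain ⟨b, hb⟩ := h1
  have ha0 : a ≠ 0 := fun h => hn0 (by rw [ha, h, mul_zero])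
  refine hν ⟨b / a, ?_⟩
  field_simp
  linear_combination hb - ν * ha

variable {k : ℕ} {σ : F ≃+* F} {ζ₀ : F₀} {ρ : F}

/-- The similitude of the minus form exchanging the pairs. -/
theorem exists_swap_simil {ν t₁ t₂ : F₀} (hν0 : ν ≠ 0) (ht : t₁ ^ 2 + t₁ * t₂ + ζ₀ * t₂ ^ 2 = ν) :
    ∃ B : GS (Cfsg.quadFormMinus k F₀ 1 ζ₀),
      (B.1 : Matrix ((Fin k ⊕ Fin k) ⊕ Fin 2) ((Fin k ⊕ Fin k) ⊕ Fin 2) F₀) =
        Matrix.fromBlocks (swapMat k ν) 0 0 (planeMat 1 ζ₀ t₁ t₂) ∧
      IsSimil (minusForm F₀ k 1 ζ₀) (lin (Cfsg.quadFormMinus k F₀ 1 ζ₀) B) ν := by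
  let Mx : Matrix ((Fin k ⊕ Fin k) ⊕ Fin 2) ((Fin k ⊕ Fin k) ⊕ Fin 2) F₀ :=
    Matrix.fromBlocks (swapMat k ν) 0 0 (planeMat 1 ζ₀ t₁ t₂)
  have hdet : Mx.det = ν ^ (k + 1) * (-1) ^ (k + 1) := by
    show (Matrix.fromBlocks _ _ _ _).det = _
    rw [Matrix.det_fromBlocks_zero₁₂, det_swapMat, planeMat, Matrix.det_fin_two_of]
    linear_combination (-(ν ^ k * (-1) ^ k)) * ht
  have hdet0 : Mx.det ≠ 0 := by
    rw [hdet]; exact mul_ne_zero (pow_ne_zero _ hν0) (pow_ne_zero _ (neg_ne_zero.2 one_ne_zero))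
  have hsim : ∀ v, Cfsg.quadFormMinus k F₀ 1 ζ₀ (Mx *ᵥ v) = ν * Cfsg.quadFormMinus k F₀ 1 ζ₀ v := by
    intro v
    have e1 : ∀ i, (Mx *ᵥ v) (Sum.inl (Sum.inl i)) = ν * v (Sum.inl (Sum.inr i)) := fun i => by
      simp [Mx, Matrix.fromBlocks_mulVec, swapMat_inl]
    have e2 : ∀ i, (Mx *ᵥ v) (Sum.inl (Sum.inr i)) = v (Sum.inl (Sum.inl i)) := fun i => by
      simp [Mx, Matrix.fromBlocks_mulVec, swapMat_inr]
    have e3 : (Mx *ᵥ v) (Sum.inr 0) = t₁ * v (Sum.inr 0) + (t₁ + ζ₀ * t₂) * v (Sum.inr 1) := by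
      simp [Mx, Matrix.fromBlocks_mulVec, planeMat, Matrix.mulVec, dotProduct, Fin.sum_univ_two]
    have e4 : (Mx *ᵥ v) (Sum.inr 1) = t₂ * v (Sum.inr 0) + -t₁ * v (Sum.inr 1) := by
      simp [Mx, Matrix.fromBlocks_mulVec, planeMat, Matrix.mulVec, dotProduct, Fin.sum_univ_two]
    simp only [Cfsg.quadFormMinus, e1, e2, e3, e4, mul_add, Finset.mul_sum, one_mul]
    rw [Finset.sum_congr rfl (fun i _ => by ring : ∀ i ∈ Finset.univ,
      ν * v (Sum.inl (Sum.inr i)) * v (Sum.inl (Sum.inl i)) = ν * (v (Sum.inl (Sum.inl i)) * v (Sum.inl (Sum.inr i))))]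
    linear_combination (v (Sum.inr 0) ^ 2 + v (Sum.inr 0) * v (Sum.inr 1) + ζ₀ * v (Sum.inr 1) ^ 2) * ht
  refine ⟨⟨Matrix.GeneralLinearGroup.mkOfDetNeZero Mx hdet0, Units.mk0 ν hν0, hsim⟩, rfl, fun v => ?_⟩
  rw [lin_apply, ← minusForm_apply, ← minusForm_apply]
  exact hsim v

set_option maxHeartbeats 1000000 in
/-- A centralising similitude with non-square multiplier, and its spinor class. -/
theorem exists_centralising [hQ : OCtx0 (plusForm F (k + 1))] [hP : OCtx0 (minusForm F₀ k 1 ζ₀)]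
    (hι : ∀ x, σ x = x ↔ x ∈ Set.range emb) (hσ : orderOf σ = 2) (h2 : (2 : F) ≠ 0) {A : GL (Fin (k + 1) ⊕ Fin (k + 1)) F}
    (D : Desc (plusForm F (k + 1)) A σ emb (minusForm F₀ k 1 ζ₀) (minusForm F k 1 (emb ζ₀))) (hz : D.z = 1)
    (he : ∀ v, D.e v = plusCoord k ρ v) (hρ : ρ ^ 2 + ρ + emb ζ₀ = 0) (hσρ : σ ρ = -1 - ρ)
    (hζ₀ : ∀ t : F₀, t ^ 2 + t + ζ₀ ≠ 0) :
    ∃ B : GS (Cfsg.quadFormMinus k F₀ 1 ζ₀), B ∈ properSub (minusForm F₀ k 1 ζ₀) (minusForm_apply k 1 ζ₀) (k + 1) ∧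
      (∃ ν, IsSimil (minusForm F₀ k 1 ζ₀) (lin (Cfsg.quadFormMinus k F₀ 1 ζ₀) B) ν ∧ ¬ IsSquare ν) ∧
      ∃ L : List (Fin (k + 1) ⊕ Fin (k + 1) → F), (∀ a ∈ L, plusForm F (k + 1) a ≠ 0) ∧ Even L.length ∧
        Φ (Cfsg.quadFormPlus (k + 1) F) (D.bc (plusForm_apply (k + 1)) (minusForm_apply k 1 ζ₀) B) =
          Φ (Cfsg.quadFormPlus (k + 1) F) (ofOrth (Cfsg.quadFormPlus (k + 1) F) (plusForm F (k + 1))
            (plusForm_apply (k + 1)) (L.map (refl (plusForm F (k + 1)))).prod) ∧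
        (IsSquare (L.map fun a => plusForm F (k + 1) a).prod ↔ (Odd (k + 1) ∧ Fintype.card F₀ % 4 = 1)) := by
  classical
  have h20 : (2 : F₀) ≠ 0 := fun h => h2 (by rw [← map_ofNat emb 2, h, map_zero])
  have hq : ringChar F ≠ 2 := fun hc => by
    haveI : CharP F 2 := ringChar.eq_iff.1 hc
    exact h2 CharTwo.two_eq_zero
  obtain ⟨ν, hν⟩ := FiniteField.exists_nonsquare (F := F₀) (fun hc => by
    haveI : CharP F₀ 2 := ringChar.of_eq hc
    exact h20 CharTwo.two_eq_zero)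
  have hν0 : ν ≠ 0 := fun h => hν (h ▸ IsSquare.zero)
  -- the norm takes the value `ν`
  obtain ⟨w, hw⟩ := AutPSL.exists_nrm σ hσ one_le_two (emb ν) ((hι _).2 ⟨ν, rfl⟩)
  have hw' : w * σ w = emb ν := by rw [← hw]; simp [AutPSL.nrm]
  have hne : 1 + 2 * ρ ≠ 0 := fun h => by
    obtain ⟨t, rfl⟩ := (hι ρ).1 (by rw [hσρ]; linear_combination -h)
    exact absurd (emb.injective (by simpa using hρ)) (hζ₀ t)
  have hσσ : ∀ y, σ (σ y) = y := fun y => by
    have h := pow_orderOf_eq_one σ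
    rw [hσ, pow_two] at h
    exact RingEquiv.congr_fun h y
  obtain ⟨t₂, ht₂⟩ := (hι ((σ w - w) / (1 + 2 * ρ))).1 (by
    rw [map_div₀, map_sub, hσσ, map_add, map_mul, map_one, map_ofNat, hσρ,
      show 1 + 2 * (-1 - ρ) = -(1 + 2 * ρ) by ring, div_neg, ← neg_div, neg_sub])
  obtain ⟨t₁, ht₁⟩ := (hι (w + ρ * emb t₂)).1 (by
    have e : σ w - w = emb t₂ * (1 + 2 * ρ) := by rw [ht₂, div_mul_cancel₀ _ hne]
    rw [map_add, map_mul, hσρ, (hι _).2 ⟨t₂, rfl⟩]
    linear_combination e)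
  have hwt : w = emb t₁ - ρ * emb t₂ := by rw [ht₁]; ring
  have hσw : σ w = emb t₁ + (1 + ρ) * emb t₂ := by
    rw [hwt, map_sub, map_mul, hσρ, (hι _).2 ⟨t₂, rfl⟩, (hι _).2 ⟨t₁, rfl⟩]; ring
  have ht : t₁ ^ 2 + t₁ * t₂ + ζ₀ * t₂ ^ 2 = ν := emb.injective (by
    rw [← hw', hσw, hwt]
    simp only [map_add, map_mul, map_pow]
    linear_combination emb t₂ ^ 2 * hρ)
  obtain ⟨B, hB, hBν⟩ := exists_swap_simil (k := k) hν0 ht
  obtain ⟨c, hc⟩ := square_of_two hι hσ h2 ν
  have hc0 : c ≠ 0 := fun h => hν0 (emb.injective (by rw [map_zero, hc, h, mul_zero]))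
  have hw0 : w ≠ 0 := fun h => hν0 (emb.injective (by rw [map_zero, ← hw', h, zero_mul]))
  let u : Fin (k + 1) → F := Fin.snoc (fun _ => c) (w / c)
  have hu : ∀ i, u i ≠ 0 := fun i => by
    induction i using Fin.lastCases with
    | last => simp [u, hw0, hc0]
    | cast i => simp [u, hc0]
  set L := (List.finRange (k + 1)).map fun i =>
    (Pi.single (Sum.inl i) (u i) - Pi.single (Sum.inr i) 1 : Fin (k + 1) ⊕ Fin (k + 1) → F) with hL
  have hLQ : ∀ a ∈ L, plusForm F (k + 1) a ≠ 0 := by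
    intro a ha
    obtain ⟨i, -, rfl⟩ := List.mem_map.1 ha
    rw [(refl_pair_vec (k + 1) i (u i)).1]
    exact neg_ne_zero.2 (hu i)
  have hLlen : L.length = k + 1 := by simp [hL]
  set g := ofOrth (Cfsg.quadFormPlus (k + 1) F) (plusForm F (k + 1)) (plusForm_apply (k + 1))
    (L.map (refl (plusForm F (k + 1)))).prod
  have hbc : Φ (Cfsg.quadFormPlus (k + 1) F) (D.bc (plusForm_apply (k + 1)) (minusForm_apply k 1 ζ₀) B) =
      Φ (Cfsg.quadFormPlus (k + 1) F) g := by
    have key : ∀ v, lin (Cfsg.quadFormPlus (k + 1) F) (D.bc (plusForm_apply (k + 1)) (minusForm_apply k 1 ζ₀) B) v =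
        c • lin (Cfsg.quadFormPlus (k + 1) F) g v := by
      intro x
      obtain ⟨v, rfl⟩ := D.e.surjective x
      rw [D.bc_apply, lin_ofOrth, hL, prod_refl_pairs (k + 1) u hu _ (List.nodup_finRange _), he, he, hB]
      set M := (Matrix.fromBlocks (swapMat k ν) 0 0 (planeMat 1 ζ₀ t₁ t₂)).map emb *ᵥ v with hM
      have e1 : ∀ i, M (Sum.inl (Sum.inl i)) = emb ν * v (Sum.inl (Sum.inr i)) := fun i => by
        simp [hM, Matrix.fromBlocks_map, Matrix.fromBlocks_mulVec, swapMat, Matrix.mulVec, dotProduct,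
          Matrix.one_apply, apply_ite emb]
      have e2 : ∀ i, M (Sum.inl (Sum.inr i)) = v (Sum.inl (Sum.inl i)) := fun i => by
        simp [hM, Matrix.fromBlocks_map, Matrix.fromBlocks_mulVec, swapMat, Matrix.mulVec, dotProduct,
          Matrix.one_apply, apply_ite emb]
      have e3 : M (Sum.inr 0) = emb t₁ * v (Sum.inr 0) + (emb t₁ + emb ζ₀ * emb t₂) * v (Sum.inr 1) := by
        simp [hM, Matrix.fromBlocks_map, Matrix.fromBlocks_mulVec, planeMat, Matrix.mulVec, dotProduct,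
          Fin.sum_univ_two]
      have e4 : M (Sum.inr 1) = emb t₂ * v (Sum.inr 0) + -emb t₁ * v (Sum.inr 1) := by
        simp [hM, Matrix.fromBlocks_map, Matrix.fromBlocks_mulVec, planeMat, Matrix.mulVec, dotProduct,
          Fin.sum_univ_two]
      have ec1 : c * (w / c) = w := by field_simp
      have ec2 : c * (w / c)⁻¹ = σ w := by
        field_simp
        linear_combination -hw' - hc
      funext j
      rw [Pi.smul_apply, smul_eq_mul]
      rcases j with j | j <;> simp only [List.mem_finRange, if_true, Sum.elim_inl, Sum.elim_inr] <;>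
        induction j using Fin.lastCases with
        | last =>
          simp only [u, Fin.snoc_last, plusCoord_ll, plusCoord_lr, e3, e4]
          rw [← mul_assoc]
          first
            | (rw [ec1]; linear_combination (emb t₂ * v (Sum.inr 1)) * hρ -
                (v (Sum.inr 0) + (1 + ρ) * v (Sum.inr 1)) * hwt)
            | (rw [ec2]; linear_combination (emb t₂ * v (Sum.inr 1)) * hρ -
                (v (Sum.inr 0) - ρ * v (Sum.inr 1)) * hσw)
        | cast i =>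
          simp only [u, Fin.snoc_castSucc, plusCoord_il, plusCoord_ir, e1, e2]
          first
            | rw [hc]; ring
            | field_simp
    rw [← inv_mul_eq_one, ← map_inv, ← map_mul]
    refine MonoidHom.mem_ker.1 (POmegaAut.scalars_le_ker _ ⟨c⁻¹, Matrix.ext_iff_mulVec.2 fun v => ?_⟩)
    rw [← lin_apply, Matrix.smul_mulVec, Matrix.one_mulVec]
    apply (lin (Cfsg.quadFormPlus (k + 1) F) (D.bc (plusForm_apply (k + 1)) (minusForm_apply k 1 ζ₀) B)).injective
    rw [map_smul, ← LinearEquiv.mul_apply, ← map_mul, mul_inv_cancel_left, key, inv_smul_smul₀ hc0]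
  have hn := card_minus_index k
  have hn' := card_plus_index (k + 1)
  -- the square classes
  have hcs : IsSquare c ↔ Fintype.card F₀ % 4 = 3 := by
    have hσc : σ c = -c := by
      have h1 : σ c * σ c = c * c := by rw [← map_mul, ← hc]; exact (hι _).2 ⟨ν, rfl⟩
      rcases mul_self_eq_mul_self_iff.1 h1 with h | h
      · obtain ⟨d, rfl⟩ := (hι c).1 h
        exact absurd ⟨d, emb.injective (by rw [hc, map_mul])⟩ hν
      · exact h
    rw [square_iff_norm hι hσ h2 hc0 (n := -ν) (by rw [map_neg, hc, hσc]; ring)]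
    have hq0 : ringChar F₀ ≠ 2 := fun hc => by
      haveI : CharP F₀ 2 := ringChar.eq_iff.1 hc
      exact h20 CharTwo.two_eq_zero
    rw [show -ν = (-1) * ν by ring, Discr.isSquare_mul_nonsquare hq0 (neg_ne_zero.2 one_ne_zero) hν,
      FiniteField.isSquare_neg_one_iff, not_not]
  have hodd4 : Fintype.card F₀ % 4 = 3 ↔ ¬ Fintype.card F₀ % 4 = 1 := by
    have := Nat.odd_iff.1 (odd_of_two_ne (F := F₀) h20)
    omega
  have hprod : IsSquare (L.map fun a => plusForm F (k + 1) a).prod ↔ (Odd (k + 1) ∧ Fintype.card F₀ % 4 = 1) := by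
    have hval : (L.map fun a => plusForm F (k + 1) a).prod = (-c) ^ k * -(w / c) := by
      rw [hL, List.map_map, show ((fun a => plusForm F (k + 1) a) ∘ fun i =>
        (Pi.single (Sum.inl i) (u i) - Pi.single (Sum.inr i) 1 : Fin (k + 1) ⊕ Fin (k + 1) → F)) = fun i => -u i from
        funext fun i => (refl_pair_vec (k + 1) i (u i)).1, ← Fin.prod_univ_def, Fin.prod_univ_castSucc]
      simp [u]
    obtain ⟨i, hi⟩ := square_of_two hι hσ h2 (-1 : F₀)
    rw [map_neg, map_one] at hi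
    have hws : ¬ IsSquare w := fun h => hν ((square_iff_norm hι hσ h2 hw0 hw'.symm).1 h)
    rw [hval]
    rcases Nat.even_or_odd k with ⟨j, rfl⟩ | ⟨j, rfl⟩
    · have e : (-c) ^ (j + j) * -(w / c) = (i * c ^ j / c) * (i * c ^ j / c) * (w * c) := by
        rw [← two_mul, pow_mul, neg_sq, ← pow_mul, neg_eq_neg_one_mul (w / c), hi]
        field_simp
        ring
      have hne' : i * c ^ j / c ≠ 0 := by
        have : i ≠ 0 := fun h => by rw [h, mul_zero] at hi; exact one_ne_zero (neg_eq_zero.1 hi)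
        exact div_ne_zero (mul_ne_zero this (pow_ne_zero _ hc0)) hc0
      rw [e, square_cancel hne', mul_comm w c,
        Discr.isSquare_mul_nonsquare hq hc0 hws, hcs, hodd4, not_not]
      exact (and_iff_right ⟨j, by ring⟩).symm
    · have hno : ¬ Odd (2 * j + 1 + 1) := by rw [Nat.not_odd_iff_even]; exact ⟨j + 1, by ring⟩
      simp only [hno, false_and, iff_false]
      intro h
      apply hws
      obtain ⟨y, hy⟩ := h
      have hc' : c ^ j ≠ 0 := pow_ne_zero _ hc0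
      refine ⟨y / c ^ j, ?_⟩
      field_simp
      rw [pow_succ, pow_mul, neg_sq, ← pow_mul] at hy
      field_simp at hy
      linear_combination hy
  by_cases hev : Even (k + 1)
  · refine ⟨B, (D.bc_proper (Qf := Cfsg.quadFormPlus (k + 1) F) (plusForm_apply (k + 1)) (minusForm_apply k 1 ζ₀) hn' hn B).1
      ((proper_congr _ _ hn' hbc).2 ((prod_refl_proper _ _ hn' L hLQ).2 (hLlen.symm ▸ hev))), ⟨ν, hBν, hν⟩, L, hLQ,
      hLlen.symm ▸ hev, hbc, hprod⟩
  obtain ⟨a, ha⟩ := exists_value_ne (minusForm F₀ k 1 ζ₀)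
  set R := ofOrth (Cfsg.quadFormMinus k F₀ 1 ζ₀) (minusForm F₀ k 1 ζ₀) (minusForm_apply k 1 ζ₀) (refl (minusForm F₀ k 1 ζ₀) a)
  set a' := D.e (⇑emb ∘ a)
  have ha' : plusForm F (k + 1) a' = emb (minusForm F₀ k 1 ζ₀ a) := by rw [D.hQ, D.hemb, hz, one_mul]
  have hbc' : Φ (Cfsg.quadFormPlus (k + 1) F) (D.bc (plusForm_apply (k + 1)) (minusForm_apply k 1 ζ₀) (B * R)) =
      Φ (Cfsg.quadFormPlus (k + 1) F) (ofOrth (Cfsg.quadFormPlus (k + 1) F) (plusForm F (k + 1))
            (plusForm_apply (k + 1)) ((L ++ [a']).map (refl (plusForm F (k + 1)))).prod) := by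
    rw [map_mul (D.bc _ _), map_mul, hbc, D.bc_refl, ← map_mul, ← map_mul]
    simp
    rfl
  have hQa : ∀ b ∈ L ++ [a'], plusForm F (k + 1) b ≠ 0 := by
    intro b hb
    rcases List.mem_append.1 hb with hb | hb
    · exact hLQ b hb
    · rw [List.mem_singleton.1 hb, ha']; exact (map_ne_zero emb).2 ha
  have hlen : Even (L ++ [a']).length := by
    rw [List.length_append, hLlen, List.length_singleton, Nat.even_add_one]; exact hev
  refine ⟨B * R, (D.bc_proper (Qf := Cfsg.quadFormPlus (k + 1) F) (plusForm_apply (k + 1)) (minusForm_apply k 1 ζ₀) hn' hn _).1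
      ((proper_congr _ _ hn' hbc').2 ((prod_refl_proper _ _ hn' _ hQa).2 hlen)), ⟨ν, fun v => ?_, hν⟩, L ++ [a'], hQa, hlen,
      hbc', ?_⟩
  · rw [map_mul, LinearEquiv.mul_apply, hBν, lin_ofOrth, apply_quad]
  · rw [List.map_append, List.prod_append, ← hprod]
    obtain ⟨y, hy⟩ := square_of_two hι hσ h2 (minusForm F₀ k 1 ζ₀ a)
    simp only [List.map_cons, List.map_nil, List.prod_cons, List.prod_nil, mul_one, ha', hy]
    have hy0 : y ≠ 0 := fun h => ha (emb.injective (by rw [map_zero, hy, h, mul_zero]))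
    exact ⟨fun ⟨z, hz⟩ => ⟨z / y, by field_simp; linear_combination hz⟩, fun h => h.mul (IsSquare.mul_self y)⟩

end CfsgLib.KnownC.AutPOmega
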