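import Cfsg.Agent.Lib.KnownC.AutPOmega.Pin
import Cfsg.Agent.Lib.KnownC.POmegaGraph

/-!
# The automorphisms of `PΩ(Q)` are semisimilarities, faithfully
-/

set_option autoImplicit false
set_option linter.unusedSectionVars false
set_option linter.style.haveILetI false

open Module QuadraticMap MulAction
open scoped Matrix LinearAlgebra.Projectivization

namespace CfsgLib.KnownC.AutPOmega

open CfsgLib.Orth CfsgLib.Classical

section Faithful

variable {F : Type*} [Field F] {V : Type*} [AddCommGroup V] [Module F V] {Q : QuadraticForm F V}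
  [FiniteDimensional F V] [hQ : OCtx0 Q]
include hQ

/-- A semisimilitude centralising `PΩ(Q)` is a scalar. -/
theorem scalar_of_centralising (T : V → V) (σ : F ≃+* F) {c : F} (hadd : ∀ x y, T (x + y) = T x + T y)
    (hsmul : ∀ (a : F) x, T (a • x) = σ a • T x) (hQT : ∀ x, Q (T x) = c * σ (Q x)) (hinj : ∀ x, T x = 0 → x = 0)
    (hcen : ∀ g : Om Q, ∃ g' : Om Q, (∀ v, g'.1.1 (T v) = T (g.1.1 v)) ∧
      (QuotientGroup.mk g' : PG Q) = QuotientGroup.mk g) :
    σ = RingEquiv.refl F ∧ ∃ l : F, ∀ v, T v = l • v := by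
  have hfix : ∀ v, Q v = 0 → ∃ l : F, T v = l • v := by
    intro v hv
    by_cases hv0 : v = 0
    · refine ⟨0, ?_⟩
      rw [hv0, zero_smul]
      have := hsmul 0 v
      rwa [zero_smul, map_zero, zero_smul] at this
    have hT0 : T v ≠ 0 := fun h => hv0 (hinj v h)
    have hTQ : Q (T v) = 0 := by rw [hQT, hv, map_zero, mul_zero]
    have : pt Q hT0 hTQ = pt Q hv0 hv := by
      refine eq_of_rad_fix fun x hx => ?_
      obtain ⟨u, hu, rfl⟩ := (mem_rad hv0 hv).1 hx
      obtain ⟨g', hg', e⟩ := hcen (sg Q v u)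
      rw [EE, ← e, pg_smul, smul_pt]
      refine pt_eq_iff.2 ⟨1, ?_⟩
      rw [one_smul, hg', sg_apply hv hu, polar_self', hv, polar_comm _ u v, hu]
      simp
    obtain ⟨l, hl⟩ := pt_eq_iff.1 this
    exact ⟨l, hl.symm⟩
  choose! lam hlam using hfix
  have hcommon : ∀ v w : V, ∃ d, d ∉ Submodule.span F {v, w} ∧ Q d = 0 ∧ polar Q v d = 0 ∧ polar Q w d = 0 := by
    intro v w
    set H := perp Q (Submodule.span F {v, w}) with hH
    obtain ⟨Y, hY⟩ := Submodule.exists_isCompl ((Submodule.span F {v, w}).comap H.subtype)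
    obtain ⟨_, ⟨d, hdY, rfl⟩, hd0, hdq⟩ := exists_sing_sub (Q := Q) (W := Y.map H.subtype) (by
      rw [Submodule.finrank_map_subtype_eq]
      have h1 := Submodule.finrank_add_eq_of_isCompl hY
      have h2 : finrank F ((Submodule.span F {v, w}).comap H.subtype) ≤ 2 := by
        rw [← Submodule.finrank_map_subtype_eq H]
        exact (Submodule.finrank_mono (Submodule.map_comap_le _ _)).trans (finrank_span_pair_le _ _)
      have h3 : finrank F V - 2 ≤ finrank F H := by
        rw [hH, perp_finrank]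
        have := finrank_span_pair_le (F := F) v w
        omega
      have := hQ.seven
      omega)
    exact ⟨d, fun h => hd0 (by rw [Submodule.disjoint_def.1 hY.disjoint d h hdY]; simp), hdq,
      d.2 v (Submodule.subset_span (by simp)), d.2 w (Submodule.subset_span (by simp))⟩
  have hsame : ∀ {v d}, Q v = 0 → v ≠ 0 → d ∉ F ∙ v → Q d = 0 → polar Q v d = 0 → lam v = lam d := by
    intro v d hv hv0 hdv hd hvd
    have hx : Q (v + d) = 0 := by rw [quad_add', hv, hd, hvd]; ring
    have e := hlam (v + d) hx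
    rw [hadd, hlam v hv, hlam d hd] at e
    have e' : (lam v - lam (v + d)) • v = (lam (v + d) - lam d) • d := by linear_combination (norm := module) e
    by_cases h : lam (v + d) - lam d = 0
    · rw [h, zero_smul, smul_eq_zero] at e'
      linear_combination e'.resolve_right hv0 + h
    · exfalso
      refine hdv (Submodule.mem_span_singleton.2 ⟨(lam (v + d) - lam d)⁻¹ * (lam v - lam (v + d)), ?_⟩)
      rw [← smul_smul, e', smul_smul, inv_mul_cancel₀ h, one_smul]
  have hall : ∀ {v w}, Q v = 0 → v ≠ 0 → Q w = 0 → w ≠ 0 → lam v = lam w := by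
    intro v w hv hv0 hw hw0
    obtain ⟨d, hd, hdq, hdv, hdw⟩ := hcommon v w
    exact (hsame hv hv0 (fun h => hd (Submodule.span_mono (by simp) h)) hdq hdv).trans
      (hsame hw hw0 (fun h => hd (Submodule.span_mono (by simp) h)) hdq hdw).symm
  obtain ⟨hp⟩ := hyp (Q := Q)
  have he := hp.he₀
  have he0 := hp.e₀_ne_zero
  set l := lam hp.e₀ with hl
  have hl0 : l ≠ 0 := fun h => he0 (hinj _ (by rw [hlam _ he, ← hl, h, zero_smul]))
  have hσ : σ = RingEquiv.refl F := by
    refine RingEquiv.ext fun a => ?_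
    by_cases ha : a = 0
    · simp [ha]
    have hq : Q (a • hp.e₀) = 0 := by rw [quad_smul', he, mul_zero]
    have e := hlam (a • hp.e₀) hq
    rw [hsmul, hlam _ he, hall hq (smul_ne_zero ha he0) he he0, ← hl, smul_smul, smul_smul] at e
    have := smul_left_injective F he0 e
    rw [mul_comm l a] at this
    exact mul_right_cancel₀ hl0 this
  refine ⟨hσ, l, fun v => ?_⟩
  have hspan := mem_span_sing (Q := Q) (X := ⊤) (d := hp.e₀) (e := hp.f₀) (x := v) trivial trivial hp.he₀ hp.hf₀ hp.h00
    trivial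
  induction hspan using Submodule.span_induction with
  | mem w hw =>
    by_cases hw0 : w = 0
    · rw [hw0, smul_zero]
      have := hsmul 0 w
      rwa [zero_smul, map_zero, zero_smul] at this
    · rw [hlam w hw.2, hall hw.2 hw0 he he0]
  | zero =>
    have := hsmul 0 0
    rw [zero_smul, map_zero, zero_smul] at this
    rw [this, smul_zero]
  | add x y _ _ hx hy => rw [hadd, hx, hy, smul_add]
  | smul a x _ hx => rw [hsmul, hx, hσ, RingEquiv.refl_apply, smul_comm]

end Faithful

section Matrices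

universe u

variable {F : Type u} [Field F] [Fintype F] {ι : Type} [Fintype ι] [DecidableEq ι] {Qf : (ι → F) → F}
  (Q : QuadraticForm F (ι → F)) (hQf : ∀ v, Qf v = Q v) [hQ : OCtx0 Q]
include hQf hQ

/-- `PΩ` of the prelude and of the library. -/
noncomputable def pgEquiv : Cfsg.POmega F Qf ≃* PG Q :=
  QuotientGroup.congr _ _ (omegaEquiv Q hQf) (Subgroup.ext fun x => Subgroup.mem_map_equiv.trans (by
    rw [Subgroup.mem_center_iff, Subgroup.mem_center_iff]
    exact ⟨fun hy g => (omegaEquiv Q hQf).symm.injective (by simpa using hy ((omegaEquiv Q hQf).symm g)),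
      fun hx g => (omegaEquiv Q hQf).injective (by simpa using hx (omegaEquiv Q hQf g))⟩))

theorem pgEquiv_mk (s : ↥(Cfsg.Omega F Qf)) :
    pgEquiv Q hQf (QuotientGroup.mk s) = QuotientGroup.mk (omegaEquiv Q hQf s) := rfl

theorem omegaEquiv_apply (s : ↥(Cfsg.Omega F Qf)) (v : ι → F) :
    (omegaEquiv Q hQf s).1.1 v = (((s.1 : GL ι F) : Matrix ι ι F)) *ᵥ v := by
  show (toOrth Q hQf s.1).1 v = _
  rw [← OrthTools.matOf_toOrth Q hQf s.1, matOf_mulVec]

/-- Semilinear maps are matrices after a field automorphism. -/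
theorem exists_matrix (T : (ι → F) → (ι → F)) (σ : F ≃+* F) (hadd : ∀ x y, T (x + y) = T x + T y)
    (hsmul : ∀ (a : F) x, T (a • x) = σ a • T x) (hinj : ∀ x, T x = 0 → x = 0) :
    ∃ g : GL ι F, ∀ v, (g : Matrix ι ι F) *ᵥ (fun i => σ (v i)) = T v := by
  let L : (ι → F) →ₗ[F] (ι → F) :=
    { toFun := fun w => T fun i => σ.symm (w i)
      map_add' := fun x y => by
        rw [← hadd]; congr 1; funext i; simp
      map_smul' := fun a x => by
        rw [RingHom.id_apply, show (fun i => σ.symm ((a • x) i)) = σ.symm a • fun i => σ.symm (x i) by funext i; simp,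
          hsmul, RingEquiv.apply_symm_apply] }
  have hL : Function.Injective L := (injective_iff_map_eq_zero L).2 fun w hw => by
    have := hinj _ hw
    funext i
    simpa using congrArg σ (congrFun this i)
  have hu : IsUnit (LinearMap.toMatrix' L) := Matrix.mulVec_injective_iff_isUnit.1 fun x y h => hL (by
    have h' : LinearMap.toMatrix' L *ᵥ x = LinearMap.toMatrix' L *ᵥ y := h
    rwa [LinearMap.toMatrix'_mulVec, LinearMap.toMatrix'_mulVec] at h')
  refine ⟨hu.unit, fun v => ?_⟩
  rw [IsUnit.unit_spec, LinearMap.toMatrix'_mulVec]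
  show T (fun i => σ.symm (σ (v i))) = T v
  simp

theorem exists_semi [hQ8 : OCtx Q] (α : MulAut (Cfsg.POmega F Qf)) :
    ∃ (g : GL ι F) (σ : F ≃+* F), Cfsg.IsSemisimilarityPair Qf g σ ∧ Cfsg.IsInducedBySemilinearPOmega Qf g σ α := by
  let e := pgEquiv Q hQf
  obtain ⟨T, σ, c, hc, hadd, hsmul, hQT, hα⟩ :=
    exists_semisimilitude ((e.symm.trans α).trans e : MulAut (PG Q))
  have hinj : ∀ x, T x = 0 → x = 0 := by
    intro v hv
    refine eq_zero_of_polar hQ.nd fun w => ?_
    have : polar Q (T v) (T w) = c * σ (polar Q v w) := by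
      simp only [polar, ← hadd, hQT, map_sub]; ring
    rw [hv, polar_zero_left] at this
    exact (map_eq_zero σ).1 ((mul_eq_zero.1 this.symm).resolve_left hc)
  obtain ⟨g, hg⟩ := exists_matrix Q hQf T σ hadd hsmul hinj
  refine ⟨g, σ, ⟨Units.mk0 c hc, fun v => by rw [hg, hQf, hQT, hQf]; rfl⟩, fun s s' hs' => ?_⟩
  have h := hα (omegaEquiv Q hQf s) (omegaEquiv Q hQf s') fun v => by
    rw [omegaEquiv_apply, omegaEquiv_apply, ← hg, ← hg, hs', Matrix.mulVec_mulVec, Matrix.mul_assoc,
      show ((g⁻¹ : GL ι F) : Matrix ι ι F) * (g : Matrix ι ι F) = 1 from Units.inv_mul g, mul_one,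
      ← Matrix.mulVec_mulVec]
    congr 1
    exact POmegaAut.map_mulVec' σ _ v
  rw [← pgEquiv_mk Q hQf s, ← pgEquiv_mk Q hQf s'] at h
  change e (α (e.symm (e _))) = e _ at h
  rw [MulEquiv.symm_apply_apply] at h
  exact e.injective h

theorem gamma_eq_top [hQ8 : OCtx Q] : Cfsg.gammaPOmega F Qf = ⊤ := by
  rw [eq_top_iff]
  intro α _
  exact Subgroup.subset_closure (exists_semi Q hQf α)

/-- A semisimilarity inducing the identity is a scalar. -/
theorem scalar_of_induced_one {g : GL ι F} {σ : F ≃+* F} (hg : Cfsg.IsSemisimilarityPair Qf g σ)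
    (h1 : Cfsg.IsInducedBySemilinearPOmega Qf g σ (1 : MulAut (Cfsg.POmega F Qf))) :
    σ = RingEquiv.refl F ∧ ∃ l : F, (g : Matrix ι ι F) = l • 1 := by
  obtain ⟨c, hc⟩ := id hg
  let T : (ι → F) → (ι → F) := fun v => (g : Matrix ι ι F) *ᵥ fun i => σ (v i)
  obtain ⟨hσ, l, hl⟩ := scalar_of_centralising (Q := Q) T σ (c := c)
    (fun x y => by
      simp only [T, ← Matrix.mulVec_add]; congr 1; funext i; simp)
    (fun a x => by
      simp only [T, ← Matrix.mulVec_smul]; congr 1; funext i; simp)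
    (fun x => by rw [← hQf, hc, hQf])
    (fun x hx => by
      have hx' : (g : Matrix ι ι F) *ᵥ (fun i => σ (x i)) = 0 := hx
      have h0 := congrArg (fun w => ((g⁻¹ : GL ι F) : Matrix ι ι F) *ᵥ w) hx'
      simp only [Matrix.mulVec_mulVec, Units.inv_mul, Matrix.one_mulVec, Matrix.mulVec_zero] at h0
      funext i
      simpa using congrFun h0 i)
    (fun k => by
      obtain ⟨s, rfl⟩ := (omegaEquiv Q hQf).surjective k
      obtain ⟨s', hs'⟩ := POmegaAut.exists_semi_conj Qf hg s
      refine ⟨omegaEquiv Q hQf s', fun v => ?_, ?_⟩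
      · rw [omegaEquiv_apply, omegaEquiv_apply, hs']
        show _ *ᵥ (_ *ᵥ _) = _ *ᵥ _
        rw [Matrix.mulVec_mulVec, Matrix.mul_assoc,
          show ((g⁻¹ : GL ι F) : Matrix ι ι F) * (g : Matrix ι ι F) = 1 from Units.inv_mul g, mul_one,
          ← Matrix.mulVec_mulVec]
        congr 1
        exact POmegaAut.map_mulVec' σ _ v
      · rw [← pgEquiv_mk Q hQf, ← pgEquiv_mk Q hQf, ← h1 s s' hs']
        rfl)
  refine ⟨hσ, l, Matrix.ext_iff_mulVec.2 fun v => ?_⟩
  have := hl v
  subst hσ
  rw [Matrix.smul_mulVec, Matrix.one_mulVec]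
  exact this

end Matrices

end CfsgLib.KnownC.AutPOmega
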