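import Cfsg.Agent.Lib.KnownC.AutPOmega.Outer
import Mathlib.Algebra.QuadraticAlgebra.Basic
import Mathlib.Algebra.CharP.Lemmas

/-!
# A Frobenius semisimilarity of the minus-type form

The anisotropic plane is the norm form of the quadratic extension, on which the Frobenius map is semilinear; its
`f`-th power is the conjugation, a reflection.
-/

set_option autoImplicit false
set_option linter.unusedSectionVars false
set_option linter.style.haveILetI false

open Module QuadraticMap
open scoped Matrix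

namespace CfsgLib.KnownC.AutPOmega

open CfsgLib.Orth CfsgLib.Classical

universe u

variable {F : Type u} [Field F] [Fintype F]

/-- The map `x ↦ x ^ p ^ k` on the hyperbolic part and on the norm plane. -/
noncomputable def frobMap (m : ℕ) (A B : F) (p k : ℕ) (v : (Fin m ⊕ Fin m) ⊕ Fin 2 → F) :
    (Fin m ⊕ Fin m) ⊕ Fin 2 → F :=
  Sum.elim (fun i => v (Sum.inl i) ^ p ^ k)
    ![((⟨v (Sum.inr 0), v (Sum.inr 1)⟩ : QuadraticAlgebra F (-B) A) ^ p ^ k).re,
      ((⟨v (Sum.inr 0), v (Sum.inr 1)⟩ : QuadraticAlgebra F (-B) A) ^ p ^ k).im]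

/-- The conjugation of the norm plane, as a map of the whole space. -/
def conjMap (m : ℕ) (A : F) (v : (Fin m ⊕ Fin m) ⊕ Fin 2 → F) : (Fin m ⊕ Fin m) ⊕ Fin 2 → F :=
  Sum.elim (fun i => v (Sum.inl i)) ![v (Sum.inr 0) + A * v (Sum.inr 1), -v (Sum.inr 1)]

variable {m : ℕ} {A B : F}

theorem frobMap_succ (p k : ℕ) (v : (Fin m ⊕ Fin m) ⊕ Fin 2 → F) :
    frobMap m A B p (k + 1) v = frobMap m A B p 1 (frobMap m A B p k v) := by
  funext i
  rcases i with i | i
  · simp [frobMap, pow_succ, pow_mul]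
  · fin_cases i <;> simp [frobMap, pow_succ, pow_mul]

theorem conj_refl_eq (v : (Fin m ⊕ Fin m) ⊕ Fin 2 → F)
    (hQ0 : minusForm F m A B (Pi.single (Sum.inr 0) A + Pi.single (Sum.inr 1) (-2)) ≠ 0) :
    (refl (minusForm F m A B) (Pi.single (Sum.inr 0) A + Pi.single (Sum.inr 1) (-2))).1 v = conjMap m A v := by
  set v0 : (Fin m ⊕ Fin m) ⊕ Fin 2 → F := Pi.single (Sum.inr 0) A + Pi.single (Sum.inr 1) (-2) with hv0
  have hq : minusForm F m A B v0 = 4 * B - A ^ 2 := by
    rw [← minusForm_apply]; simp [Cfsg.quadFormMinus, v0]; ring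
  have hp : polar (minusForm F m A B) v0 v = (A ^ 2 - 4 * B) * v (Sum.inr 1) := by
    simp [minusForm_polar, v0]; ring
  rw [hq] at hQ0
  have hc : (4 * B - A ^ 2)⁻¹ * ((A ^ 2 - 4 * B) * v (Sum.inr 1)) = -v (Sum.inr 1) := by
    field_simp; ring
  rw [refl_apply, hq, hp, hc]
  funext i
  rcases i with i | i
  · simp [conjMap, v0]
  · fin_cases i <;> simp [conjMap, v0] <;> ring

variable (hab : ∀ z₁ z₂ : F, z₁ ^ 2 + A * z₁ * z₂ + B * z₂ ^ 2 = 0 → z₁ = 0 ∧ z₂ = 0)
include hab

theorem plane_fact : ∀ r : F, r ^ 2 ≠ -B + A * r := fun r h =>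
  neg_ne_zero.2 (one_ne_zero : (1 : F) ≠ 0) (hab r (-1) (by linear_combination h)).2

theorem conj_vec_ne {p : ℕ} [CharP F p] [Fact p.Prime] :
    minusForm F m A B (Pi.single (Sum.inr 0) A + Pi.single (Sum.inr 1) (-2)) ≠ 0 := by
  rw [← minusForm_apply]
  intro h
  have h' : A ^ 2 + A * A * (-2) + B * (-2 : F) ^ 2 = 0 := by
    simpa [Cfsg.quadFormMinus, Pi.single_apply] using h
  obtain ⟨hA, h2⟩ := hab A (-2) h'
  have h2' : (2 : F) = 0 := by linear_combination -h2
  haveI : CharP F 2 := CharTwo.of_one_ne_zero_of_two_eq_zero one_ne_zero h2'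
  obtain ⟨s, hs⟩ := FiniteField.isSquare_of_char_two (ringChar.eq F 2) B
  exact one_ne_zero (hab s 1 (by rw [hA]; linear_combination (s * s) * h2' + hs)).2

/-- The Frobenius semisimilarity and its `f`-th power. -/
theorem frob_facts {p f : ℕ} [Fact p.Prime] (hF : Fintype.card F = p ^ f) :
    ∃ φ : F ≃+* F, (∀ x, φ x = x ^ p) ∧ orderOf φ = f ∧
      (∀ x y, frobMap m A B p 1 (x + y) = frobMap m A B p 1 x + frobMap m A B p 1 y) ∧
      (∀ (a : F) x, frobMap m A B p 1 (a • x) = φ a • frobMap m A B p 1 x) ∧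
      (∀ x, minusForm F m A B (frobMap m A B p 1 x) = φ (minusForm F m A B x)) ∧
      (∀ x, frobMap m A B p 1 x = 0 → x = 0) ∧
      ∀ x, frobMap m A B p f x = conjMap m A x := by
  classical
  haveI : Fact (∀ r : F, r ^ 2 ≠ -B + A * r) := ⟨plane_fact hab⟩
  obtain ⟨c, hc⟩ := CharP.exists F
  obtain ⟨n, hcp, hcn⟩ := FiniteField.card F c
  have hf0 : f ≠ 0 := by
    rintro rfl
    have := Fintype.one_lt_card (α := F)
    simp [hF] at this
  obtain rfl : c = p := by
    rw [hcn] at hF
    exact (Nat.prime_dvd_prime_iff_eq hcp Fact.out).1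
      (hcp.dvd_of_dvd_pow (hF ▸ dvd_pow_self c n.pos.ne'))
  haveI : CharP (QuadraticAlgebra F (-B) A) c :=
    charP_of_injective_algebraMap (QuadraticAlgebra.algebraMap_injective (R := F)) c
  haveI : ExpChar F c := ExpChar.prime Fact.out
  haveI : ExpChar (QuadraticAlgebra F (-B) A) c := ExpChar.prime Fact.out
  let φ : F ≃+* F := RingEquiv.ofBijective (frobenius F c)
    (Finite.injective_iff_bijective.1 (frobenius F c).injective)
  have hφ : ∀ x, φ x = x ^ c := fun x => frobenius_def ..
  have hφk : ∀ (k : ℕ) x, (φ ^ k) x = x ^ c ^ k := by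
    intro k
    induction k with
    | zero => intro x; simp
    | succ k ih => intro x; rw [pow_succ', RingAut.mul_apply, hφ, ih, pow_succ, pow_mul]
  -- roots of `X ^ N - X`
  have hroots : ∀ {R : Type u} [Field R] [Fintype R] (N : ℕ), 1 < N → (∀ x : R, x ^ N = x) → Fintype.card R ≤ N := by
    intro R _ _ N hN hx
    have hne : (Polynomial.X ^ N - Polynomial.X : Polynomial R) ≠ 0 := FiniteField.X_pow_card_sub_X_ne_zero R hN
    have hsub : (Finset.univ : Finset R) ⊆ (Polynomial.X ^ N - Polynomial.X : Polynomial R).roots.toFinset := by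
      intro x _
      simp [Polynomial.mem_roots hne, hx x]
    calc Fintype.card R = (Finset.univ : Finset R).card := rfl
      _ ≤ _ := (Finset.card_le_card hsub).trans (Multiset.toFinset_card_le _)
      _ ≤ _ := Polynomial.card_roots' _
      _ = N := FiniteField.X_pow_card_sub_X_natDegree_eq R hN
  refine ⟨φ, hφ, ?_, ?_, ?_, ?_, ?_, ?_⟩
  · rw [orderOf_eq_iff (Nat.pos_of_ne_zero hf0)]
    refine ⟨RingEquiv.ext fun x => ?_, fun j hj hj0 e => ?_⟩
    · rw [hφk, ← hF, FiniteField.pow_card]; rfl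
    · have h1 := hroots (R := F) (c ^ j) (Nat.one_lt_pow hj0.ne' hcp.one_lt) fun x => by rw [← hφk, e]; rfl
      rw [hF] at h1
      exact absurd ((Nat.pow_le_pow_iff_right hcp.one_lt).1 h1) (by omega)
  · intro x y
    have e : (⟨x (Sum.inr 0) + y (Sum.inr 0), x (Sum.inr 1) + y (Sum.inr 1)⟩ : QuadraticAlgebra F (-B) A) =
        ⟨x (Sum.inr 0), x (Sum.inr 1)⟩ + ⟨y (Sum.inr 0), y (Sum.inr 1)⟩ := rfl
    funext i
    rcases i with i | i
    · simp [frobMap, add_pow_char]
    · fin_cases i <;> simp [frobMap, e, add_pow_char]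
  · intro a x
    have e : (⟨a * x (Sum.inr 0), a * x (Sum.inr 1)⟩ : QuadraticAlgebra F (-B) A) =
        a • ⟨x (Sum.inr 0), x (Sum.inr 1)⟩ := rfl
    funext i
    rcases i with i | i
    · simp [frobMap, hφ, mul_pow]
    · fin_cases i <;>
        simp only [frobMap, pow_one, Pi.smul_apply, smul_eq_mul, e, smul_pow, Sum.elim_inr] <;> simp [hφ]
  · intro x
    rw [← minusForm_apply, ← minusForm_apply]
    simp only [Cfsg.quadFormMinus, map_add φ, map_sum, map_mul]
    have hn := map_pow QuadraticAlgebra.norm (⟨x (Sum.inr 0), x (Sum.inr 1)⟩ : QuadraticAlgebra F (-B) A) c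
    rw [QuadraticAlgebra.norm_def, QuadraticAlgebra.norm_def] at hn
    congr 1
    · exact Finset.sum_congr rfl fun i _ => by simp [frobMap, hφ]
    · have e : ∀ u v : F, u ^ 2 + A * u * v + B * v ^ 2 = u * u + A * u * v - -B * v * v := fun u v => by ring
      rw [← map_mul, ← map_mul, ← map_mul, ← map_add, ← map_add, hφ, e, e]
      simpa [frobMap] using hn
  · intro x hx
    have hz : (⟨x (Sum.inr 0), x (Sum.inr 1)⟩ : QuadraticAlgebra F (-B) A) ^ c = 0 := by
      have h0 := congrFun hx (Sum.inr 0)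
      have h1 := congrFun hx (Sum.inr 1)
      simp [frobMap] at h0 h1
      exact QuadraticAlgebra.ext h0 h1
    have hz' := eq_zero_of_pow_eq_zero hz
    funext i
    rcases i with i | i
    · have := congrFun hx (Sum.inl i)
      simp [frobMap] at this
      exact this.1
    · fin_cases i
      · simpa using congrArg QuadraticAlgebra.re hz'
      · simpa using congrArg QuadraticAlgebra.im hz'
  · -- the `q`-th power is the conjugation
    let Θ : (QuadraticAlgebra F (-B) A) →+* (QuadraticAlgebra F (-B) A) := iterateFrobenius (QuadraticAlgebra F (-B) A) c f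
    have hΘ : ∀ z : (QuadraticAlgebra F (-B) A), Θ z = z ^ c ^ f := fun z => iterateFrobenius_def ..
    have hfix : ∀ a : F, Θ (algebraMap F (QuadraticAlgebra F (-B) A) a) = algebraMap F (QuadraticAlgebra F (-B) A) a := fun a => by
      rw [hΘ, ← map_pow, ← hF, FiniteField.pow_card]
    have hωeq : Θ QuadraticAlgebra.omega = star (QuadraticAlgebra.omega : (QuadraticAlgebra F (-B) A)) := by
      set w : (QuadraticAlgebra F (-B) A) := QuadraticAlgebra.omega
      have hw : w * w = algebraMap F (QuadraticAlgebra F (-B) A) (-B) + algebraMap F (QuadraticAlgebra F (-B) A) A * w := by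
        ext <;> simp [w, QuadraticAlgebra.algebraMap_eq]
      have hs : star w = algebraMap F (QuadraticAlgebra F (-B) A) A - w := by
        ext <;> simp [w, QuadraticAlgebra.algebraMap_eq]
      have hw' := congrArg Θ hw
      rw [map_mul, map_add, map_mul, hfix, hfix] at hw'
      have hprod : (Θ w - w) * (Θ w - star w) = 0 := by
        rw [hs]; linear_combination hw' - hw
      refine sub_eq_zero.1 ((mul_eq_zero.1 hprod).resolve_left fun h => ?_)
      rw [sub_eq_zero] at h
      haveI : Finite (QuadraticAlgebra F (-B) A) := Finite.of_equiv _ (QuadraticAlgebra.equivProd (-B) A).symm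
      letI := Fintype.ofFinite (QuadraticAlgebra F (-B) A)
      have hall : ∀ z : (QuadraticAlgebra F (-B) A), z ^ c ^ f = z := fun z => by
        rw [← hΘ, show z = algebraMap F (QuadraticAlgebra F (-B) A) z.re + algebraMap F (QuadraticAlgebra F (-B) A) z.im * w by
          ext <;> simp [w, QuadraticAlgebra.algebraMap_eq], map_add, map_mul, hfix, hfix, h]
      have hcard := hroots (R := (QuadraticAlgebra F (-B) A)) (c ^ f) (Nat.one_lt_pow hf0 hcp.one_lt) hall
      rw [Fintype.card_congr (QuadraticAlgebra.equivProd (-B) A), Fintype.card_prod, hF] at hcard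
      have : 1 < c ^ f := Nat.one_lt_pow hf0 hcp.one_lt
      nlinarith
    intro x
    have hz : (⟨x (Sum.inr 0), x (Sum.inr 1)⟩ : (QuadraticAlgebra F (-B) A)) ^ c ^ f =
        ⟨x (Sum.inr 0) + A * x (Sum.inr 1), -x (Sum.inr 1)⟩ := by
      rw [← hΘ, show (⟨x (Sum.inr 0), x (Sum.inr 1)⟩ : (QuadraticAlgebra F (-B) A)) =
        algebraMap F (QuadraticAlgebra F (-B) A) (x (Sum.inr 0)) + algebraMap F (QuadraticAlgebra F (-B) A) (x (Sum.inr 1)) * QuadraticAlgebra.omega by
          ext <;> simp [QuadraticAlgebra.algebraMap_eq], map_add, map_mul, hfix, hfix, hωeq]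
      ext <;> simp [QuadraticAlgebra.algebraMap_eq] <;> ring
    funext i
    rcases i with i | i
    · simp [frobMap, conjMap, ← hF, FiniteField.pow_card]
    · fin_cases i <;> simp [frobMap, conjMap, hz]

end CfsgLib.KnownC.AutPOmega
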