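import Cfsg.Agent.Lib.KnownC.AutPOmega.Standard
import Cfsg.Agent.Lib.KnownC.AutPSL.Outer

/-!
# The group of outer automorphisms, as an extension by the field automorphisms
-/

set_option autoImplicit false
set_option linter.unusedSectionVars false
set_option linter.style.haveILetI false

open Module QuadraticMap MulAction
open scoped Matrix

namespace CfsgLib.KnownC.AutPOmega

open CfsgLib.Orth CfsgLib.Classical
open CfsgLib.KnownC.POmegaAut (IsSemiInduced GS Φ induced_iff exists_semi_conj semi_mul pgoAut_eq inn_eq)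

universe u

variable {F : Type u} [Field F] [Fintype F] {ι : Type} [Fintype ι] [DecidableEq ι] {Qf : (ι → F) → F}

theorem om_ext {s t : ↥(Cfsg.Omega F Qf)}
    (h : ((s.1 : GL ι F) : Matrix ι ι F) = ((t.1 : GL ι F) : Matrix ι ι F)) : s = t :=
  Subtype.ext (Subtype.ext (Units.ext h))

theorem mk_eq_of_mat {s t : ↥(Cfsg.Omega F Qf)}
    (h : ((s.1 : GL ι F) : Matrix ι ι F) = ((t.1 : GL ι F) : Matrix ι ι F)) :
    (QuotientGroup.mk s : Cfsg.POmega F Qf) = QuotientGroup.mk t := by rw [om_ext h]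

theorem induced_unique {g : GL ι F} {σ : F ≃+* F} {β β' : MulAut (Cfsg.POmega F Qf)}
    (h : IsSemiInduced Qf g σ β) (h' : IsSemiInduced Qf g σ β') : β = β' := by
  refine MulEquiv.ext fun x => ?_
  induction x using QuotientGroup.induction_on with
  | _ s =>
    obtain ⟨s', hs'⟩ := exists_semi_conj Qf h.1 s
    rw [h.2 s s' hs', h'.2 s s' hs']

/-- A semisimilarity induces an automorphism. -/
theorem exists_induced {g : GL ι F} {σ : F ≃+* F} (hg : Cfsg.IsSemisimilarityPair Qf g σ) :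
    ∃ β : MulAut (Cfsg.POmega F Qf), IsSemiInduced Qf g σ β := by
  choose θ hθ using fun s => exists_semi_conj Qf hg s
  have hmul : ∀ a b, θ (a * b) = θ a * θ b := fun a b => om_ext (by
    rw [hθ]
    show _ = ((θ a).1 : GL ι F).1 * ((θ b).1 : GL ι F).1
    rw [hθ, hθ, show (((a * b).1 : GL ι F) : Matrix ι ι F) = ((a.1 : GL ι F) : Matrix ι ι F) * ((b.1 : GL ι F) : Matrix ι ι F)
      from rfl, Matrix.map_mul]
    simp only [Matrix.mul_assoc]
    rw [← Matrix.mul_assoc ((g⁻¹ : GL ι F) : Matrix ι ι F) (g : Matrix ι ι F), Units.inv_mul, one_mul])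
  have hinj : Function.Injective θ := by
    intro a b h
    refine om_ext ?_
    have h1 := hθ a
    rw [h, hθ b] at h1
    have h2 := congrArg (fun M => ((g⁻¹ : GL ι F) : Matrix ι ι F) * M * (g : Matrix ι ι F)) h1
    simp only [Matrix.mul_assoc, Units.inv_mul, mul_one] at h2
    rw [← Matrix.mul_assoc, ← Matrix.mul_assoc ((g⁻¹ : GL ι F) : Matrix ι ι F), Units.inv_mul, one_mul, one_mul] at h2
    exact (Matrix.map_injective σ.injective h2).symm
  let e : MulAut ↥(Cfsg.Omega F Qf) :=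
    MulEquiv.ofBijective (MonoidHom.mk' θ hmul) (Finite.injective_iff_bijective.1 hinj)
  refine ⟨POmegaAut.quotCenter e, hg, fun s s' hs' => ?_⟩
  show (QuotientGroup.mk (θ s) : Cfsg.POmega F Qf) = QuotientGroup.mk s'
  exact mk_eq_of_mat (by rw [hθ, hs'])

theorem one_induced : IsSemiInduced Qf (1 : GL ι F) (RingEquiv.refl F) 1 :=
  ⟨⟨1, fun v => by simp⟩, fun s s' hs' => mk_eq_of_mat (by rw [hs']; simp)⟩

/-- A field automorphism fixing the coefficients. -/
theorem std_pair {σ : F ≃+* F} (h : ∀ v, Qf (fun i => σ (v i)) = σ (Qf v)) :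
    Cfsg.IsSemisimilarityPair Qf (1 : GL ι F) σ :=
  ⟨1, fun v => by simp [h]⟩

theorem induced_std_iff (σ : F ≃+* F) (β : MulAut (Cfsg.POmega F Qf)) :
    Cfsg.IsInducedBySemilinearPOmega Qf (1 : GL ι F) σ β ↔ Cfsg.IsFieldAutPOmegaOf Qf σ β := by
  simp only [Cfsg.IsInducedBySemilinearPOmega, Cfsg.IsFieldAutPOmegaOf, Units.val_one, inv_one, one_mul, mul_one]

variable (Q : QuadraticForm F (ι → F)) (hQf : ∀ v, Qf v = Q v) [hQ : OCtx Q]
include hQf hQ

/-- The field automorphism of an automorphism. -/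
theorem exists_field_hom :
    ∃ π : MulAut (Cfsg.POmega F Qf) →* (F ≃+* F),
      (∀ g σ β, IsSemiInduced Qf g σ β → π β = σ) ∧ ∀ β, π β = 1 ↔ β ∈ Cfsg.pgoAut F Qf := by
  choose g σ hgσ using fun α => exists_semi Q hQf α
  have hI : ∀ α, IsSemiInduced Qf (g α) (σ α) α := fun α => hgσ α
  have huniq : ∀ {h : GL ι F} {τ : F ≃+* F} {α}, IsSemiInduced Qf h τ α → σ α = τ := by
    intro h τ α hα
    have h1 := semi_mul Qf (hI α⁻¹) (hI α)
    have h2 := semi_mul Qf (hI α⁻¹) hα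
    rw [inv_mul_cancel] at h1 h2
    obtain ⟨e1, -⟩ := scalar_of_induced_one Q hQf h1.1 h1.2
    obtain ⟨e2, -⟩ := scalar_of_induced_one Q hQf h2.1 h2.2
    refine RingEquiv.ext fun x => (σ α⁻¹).injective ?_
    have := RingEquiv.congr_fun (e1.trans e2.symm) x
    simpa using this
  let π : MulAut (Cfsg.POmega F Qf) →* (F ≃+* F) :=
    MonoidHom.mk' σ fun a b => huniq (semi_mul Qf (hI a) (hI b))
  refine ⟨π, fun h τ β hb => huniq hb, fun β => ⟨fun hb => ?_, fun hb => ?_⟩⟩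
  · have h := hI β
    rw [show σ β = RingEquiv.refl F from hb] at h
    obtain ⟨c, hc⟩ := h.1
    rw [pgoAut_eq]
    exact ⟨⟨g β, c, fun v => hc v⟩, trivial, ((induced_iff Qf ⟨g β, c, fun v => hc v⟩ β).1 h.2).symm⟩
  · rw [pgoAut_eq] at hb
    obtain ⟨x, -, rfl⟩ := hb
    obtain ⟨c, hc⟩ := x.2
    exact huniq ⟨⟨c, fun v => hc v⟩, (induced_iff Qf x _).2 rfl⟩

theorem conj_injective :
    Function.Injective (MulAut.conj : Cfsg.POmega F Qf → MulAut (Cfsg.POmega F Qf)) := by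
  intro a b h
  let e := pgEquiv Q hQf
  refine e.injective (mul_inv_eq_one.1 ?_)
  have hcen : ∀ z : PG Q, e (b⁻¹ * a) * z = z * e (b⁻¹ * a) := by
    intro z
    obtain ⟨w, rfl⟩ := e.surjective z
    rw [← map_mul, ← map_mul]
    congr 1
    have := MulEquiv.congr_fun h w
    simp only [MulAut.conj_apply] at this
    calc b⁻¹ * a * w = b⁻¹ * (a * w * a⁻¹) * a := by group
      _ = b⁻¹ * (b * w * b⁻¹) * a := by rw [this]
      _ = w * (b⁻¹ * a) := by group
  have h1 : e (b⁻¹ * a) = 1 := by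
    refine pg_ext fun P => ?_
    rw [one_smul]
    refine eq_of_rad_fix fun x hx => ?_
    rw [← mul_smul, ← hcen, mul_smul, mem_stabilizer_iff.1 (rad_le_stab P hx)]
  rw [map_mul, map_inv, inv_mul_eq_one] at h1
  rw [h1, mul_inv_cancel]

theorem card_inn : Nat.card (Cfsg.Inn (Cfsg.POmega F Qf)) = Nat.card (Cfsg.POmega F Qf) :=
  (Nat.card_congr (MonoidHom.ofInjective (conj_injective Q hQf)).toEquiv).symm

/-- The order of the automorphism group. -/
theorem card_mulAut (hall : ∀ σ : F ≃+* F, ∃ g : GL ι F, Cfsg.IsSemisimilarityPair Qf g σ) :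
    Nat.card (MulAut (Cfsg.POmega F Qf)) =
      (Cfsg.Inn (Cfsg.POmega F Qf)).relIndex (Cfsg.pgoAut F Qf) * Nat.card (F ≃+* F) *
        Nat.card (Cfsg.POmega F Qf) := by
  obtain ⟨π, hπ, hker⟩ := exists_field_hom Q hQf
  have hsurj : Function.Surjective π := fun σ => by
    obtain ⟨g, hg⟩ := hall σ
    obtain ⟨β, hβ⟩ := exists_induced hg
    exact ⟨β, hπ g σ β hβ⟩
  have hk : π.ker = Cfsg.pgoAut F Qf := Subgroup.ext hker
  have hle : Cfsg.Inn (Cfsg.POmega F Qf) ≤ Cfsg.pgoAut F Qf := by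
    rw [inn_eq, pgoAut_eq]
    exact Subgroup.map_mono le_top
  rw [← π.ker.card_mul_index, Subgroup.index_ker, MonoidHom.range_eq_top.2 hsurj, Subgroup.card_top, hk,
    ← card_inn Q hQf]
  have h2 := Subgroup.card_mul_index ((Cfsg.Inn (Cfsg.POmega F Qf)).subgroupOf (Cfsg.pgoAut F Qf))
  rw [← h2, Nat.card_congr (Subgroup.subgroupOfEquivOfLe hle).toEquiv, ← Subgroup.relIndex]
  ring

omit hQ hQf [Fintype F] in
/-- The relative index from a surjection. -/
theorem relIndex_of_hom {G A : Type*} [Group G] [Group A] {I P : Subgroup G} (φ : P →* A) (hs : Function.Surjective φ)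
    (hk : φ.ker = I.subgroupOf P) : I.relIndex P = Nat.card A := by
  rw [Subgroup.relIndex, ← hk, Subgroup.index_ker, MonoidHom.range_eq_top.2 hs, Subgroup.card_top]

/-- The outer group as a direct product, when the field automorphisms act trivially on `PGO/Inn`. -/
theorem out_prod {A : Type*} [Group A] (φ : ↥(Cfsg.pgoAut F Qf) →* A) (hφ : Function.Surjective φ)
    (hφk : φ.ker = (Cfsg.Inn (Cfsg.POmega F Qf)).subgroupOf (Cfsg.pgoAut F Qf))
    (π : MulAut (Cfsg.POmega F Qf) →* (F ≃+* F)) (hker : ∀ β, π β = 1 ↔ β ∈ Cfsg.pgoAut F Qf)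
    (sec : (F ≃+* F) →* MulAut (Cfsg.POmega F Qf)) (hsec : ∀ σ, π (sec σ) = σ)
    (hinv : ∀ σ (x : ↥(Cfsg.pgoAut F Qf)) (h : sec σ * x.1 * (sec σ)⁻¹ ∈ Cfsg.pgoAut F Qf),
      φ ⟨_, h⟩ = φ x) :
    Nonempty (Cfsg.Out (Cfsg.POmega F Qf) ≃* A × (F ≃+* F)) := by
  classical
  have hmem : ∀ α, α * (sec (π α))⁻¹ ∈ Cfsg.pgoAut F Qf := fun α => (hker _).1 (by
    rw [map_mul, map_inv, hsec, mul_inv_cancel])
  let Ψ : MulAut (Cfsg.POmega F Qf) →* A × (F ≃+* F) := MonoidHom.mk'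
    (fun α => (φ ⟨_, hmem α⟩, π α)) fun a b => by
      have hb : sec (π a) * (b * (sec (π b))⁻¹) * (sec (π a))⁻¹ ∈ Cfsg.pgoAut F Qf := (hker _).1 (by
        simp only [map_mul, map_inv, hsec]; group)
      refine Prod.ext ?_ (map_mul π a b)
      show φ ⟨_, hmem (a * b)⟩ = φ ⟨_, hmem a⟩ * φ ⟨_, hmem b⟩
      rw [← hinv (π a) ⟨_, hmem b⟩ hb, ← map_mul]
      congr 1
      refine Subtype.ext ?_
      show a * b * (sec (π (a * b)))⁻¹ = a * (sec (π a))⁻¹ * (sec (π a) * (b * (sec (π b))⁻¹) * (sec (π a))⁻¹)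
      rw [map_mul π a b, map_mul sec]
      group
  have hsurj : Function.Surjective Ψ := by
    rintro ⟨x, σ⟩
    obtain ⟨y, rfl⟩ := hφ x
    refine ⟨y.1 * sec σ, ?_⟩
    have hy : π (y.1 * sec σ) = σ := by rw [map_mul, (hker _).2 y.2, hsec, one_mul]
    refine Prod.ext ?_ hy
    show φ ⟨_, hmem _⟩ = φ y
    congr 1
    exact Subtype.ext (by show y.1 * sec σ * (sec (π (y.1 * sec σ)))⁻¹ = y.1; rw [hy, mul_inv_cancel_right])
  have hk : Ψ.ker = Cfsg.Inn (Cfsg.POmega F Qf) := by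
    ext α
    have hle : Cfsg.Inn (Cfsg.POmega F Qf) ≤ Cfsg.pgoAut F Qf := by
      rw [inn_eq, pgoAut_eq]
      exact Subgroup.map_mono le_top
    rw [MonoidHom.mem_ker]
    show (φ ⟨_, hmem α⟩, π α) = (1, 1) ↔ _
    rw [Prod.mk_inj, ← MonoidHom.mem_ker (f := φ), hφk, Subgroup.mem_subgroupOf]
    constructor
    · rintro ⟨h1, h2⟩
      simpa [h2] using h1
    · intro h
      have h2 : π α = 1 := (hker α).2 (hle h)
      exact ⟨by simpa [h2] using h, h2⟩
  exact ⟨(QuotientGroup.quotientMulEquivOfEq hk.symm).trans (QuotientGroup.quotientKerEquivOfSurjective Ψ hsurj)⟩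

omit hQ hQf in
/-- Standard field automorphisms form a section. -/
theorem exists_std_section (h : ∀ (σ : F ≃+* F) v, Qf (fun i => σ (v i)) = σ (Qf v)) :
    ∃ sec : (F ≃+* F) →* MulAut (Cfsg.POmega F Qf), ∀ σ, IsSemiInduced Qf (1 : GL ι F) σ (sec σ) := by
  choose s hs using fun σ => exists_induced (std_pair (Qf := Qf) (h σ))
  refine ⟨MonoidHom.mk' s fun a b => ?_, hs⟩
  have h1 := semi_mul Qf (hs a) (hs b)
  rw [map_one, mul_one] at h1
  exact induced_unique (hs _) h1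

end CfsgLib.KnownC.AutPOmega
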