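import Cfsg.Agent.Lib.KnownC.AutPOmega.FieldCommon
import Cfsg.Agent.Lib.KnownC.AutPOmega.MinusOut
import Cfsg.Agent.Lib.KnownC.OrthTools

/-!
# Proper similitudes

In odd characteristic a similitude with multiplier `μ` of a form in `2n` variables is proper when its determinant is
`μ ^ n`; in characteristic two when it induces an inner automorphism.  The notion is stable under base change.
-/

set_option autoImplicit false
set_option linter.unusedSectionVars false
set_option linter.style.haveILetI false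

open Module QuadraticMap
open scoped Matrix

namespace CfsgLib.KnownC.AutPOmega

open CfsgLib.Orth CfsgLib.Classical
open CfsgLib.KnownC.POmegaAut (GS Φ lin lin_apply lin_injective ofOrth lin_ofOrth exists_mult det_lin omegaSub
  mem_omegaSub_iff scalars scalars_le_ker inn_eq mkGS lin_mkGS)

universe u v

theorem charTwo_of_zero {F : Type*} [Field F] (h : (2 : F) = 0) : CharP F 2 :=
  CharTwo.of_one_ne_zero_of_two_eq_zero one_ne_zero h

theorem exists_value_ne {F : Type u} [Field F] {ι : Type} [Fintype ι] [DecidableEq ι]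
    (Q : QuadraticForm F (ι → F)) [hQ : OCtx0 Q] : ∃ w, Q w ≠ 0 := by
  by_contra h
  push Not at h
  obtain ⟨i⟩ : Nonempty ι := by
    rw [← Fintype.card_pos_iff]
    have := hQ.seven
    rw [Module.finrank_fintype_fun_eq_card] at this
    omega
  have := hQ.nd.1 (Pi.single i 1) fun y => by simp [polar, h]
  simpa using congrFun this i

section Proper

variable {F : Type u} [Field F] [Fintype F] {ι : Type} [Fintype ι] [DecidableEq ι] {Qf : (ι → F) → F}
  (Q : QuadraticForm F (ι → F)) (hQf : ∀ v, Qf v = Q v)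

/-- Similitudes whose determinant is the expected power of the multiplier. -/
noncomputable def detSub (n : ℕ) [hQ : OCtx0 Q] : Subgroup (GS Qf) where
  carrier := {g | ∀ μ, IsSimil Q (lin Qf g) μ → (g.1 : Matrix ι ι F).det = μ ^ n}
  one_mem' μ hμ := by
    obtain ⟨w, hw⟩ := exists_value_ne Q
    have h := hμ w
    rw [map_one] at h
    have h1 : μ = 1 := mul_right_cancel₀ hw ((h.symm.trans (one_mul _).symm))
    rw [h1, one_pow]; simp
  mul_mem' {a b} ha hb μ hμ := by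
    obtain ⟨w, hw⟩ := exists_value_ne Q
    obtain ⟨ca, hca⟩ := a.2
    obtain ⟨cb, hcb⟩ := b.2
    have h1 : IsSimil Q (lin Qf a) ca := fun v => by rw [lin_apply, ← hQf, ← hQf]; exact hca v
    have h2 : IsSimil Q (lin Qf b) cb := fun v => by rw [lin_apply, ← hQf, ← hQf]; exact hcb v
    have e : μ = ca * cb := mul_right_cancel₀ hw (by
      rw [← hμ w, map_mul]; show Q (lin Qf a (lin Qf b w)) = _; rw [h1, h2, mul_assoc])
    show ((a.1 : Matrix ι ι F) * (b.1 : Matrix ι ι F)).det = _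
    rw [Matrix.det_mul, ha _ h1, hb _ h2, e, mul_pow]
  inv_mem' {a} ha μ hμ := by
    have hd : (a.1 : Matrix ι ι F).det * ((a⁻¹ : GS Qf).1 : Matrix ι ι F).det = 1 := by
      rw [← Matrix.det_mul, ← Units.val_mul]; simp
    have hμ0 : μ ≠ 0 := fun h0 => by
      obtain ⟨w, hw⟩ := exists_value_ne Q
      obtain ⟨v, rfl⟩ := (lin Qf a⁻¹).surjective w
      exact hw (by rw [hμ, h0, zero_mul])
    have h : IsSimil Q (lin Qf a) μ⁻¹ := fun v => by
      have := hμ (lin Qf a v)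
      rw [map_inv, show (lin Qf a)⁻¹ (lin Qf a v) = v from (lin Qf a).symm_apply_apply v] at this
      rw [this, inv_mul_cancel_left₀ hμ0]
    rw [ha _ h, inv_pow] at hd
    exact (inv_mul_eq_one₀ (pow_ne_zero _ hμ0)).1 hd |>.symm

open _root_.Classical in
/-- The proper similitudes. -/
noncomputable def properSub (n : ℕ) [hQ : OCtx0 Q] : Subgroup (GS Qf) :=
  if (2 : F) = 0 then (Cfsg.Inn (Cfsg.POmega F Qf)).comap (Φ Qf) else detSub Q hQf n

variable [hQ : OCtx0 Q] {n : ℕ}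

theorem mem_proper_two (h : (2 : F) = 0) (g : GS Qf) :
    g ∈ properSub Q hQf n ↔ Φ Qf g ∈ Cfsg.Inn (Cfsg.POmega F Qf) := by
  rw [properSub, if_pos h]; rfl

theorem mem_proper_odd (h : (2 : F) ≠ 0) (g : GS Qf) {μ : F} (hμ : IsSimil Q (lin Qf g) μ) :
    g ∈ properSub Q hQf n ↔ (g.1 : Matrix ι ι F).det = μ ^ n := by
  rw [properSub, if_neg h]
  refine ⟨fun hg => hg μ hμ, fun hg ν hν => ?_⟩
  obtain ⟨w, hw⟩ := exists_value_ne Q
  rwa [mul_right_cancel₀ hw ((hν w).symm.trans (hμ w))]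

variable (hn : Fintype.card ι = 2 * n)

theorem phi_mem_inn {w : GS Qf} (hw : w ∈ omegaSub Qf) : Φ Qf w ∈ Cfsg.Inn (Cfsg.POmega F Qf) := by
  rw [inn_eq]; exact ⟨w, hw, rfl⟩

include hn in
theorem ker_le_proper : (Φ Qf).ker ≤ properSub Q hQf n := by
  intro g hg
  by_cases h : (2 : F) = 0
  · rw [mem_proper_two Q hQf h, MonoidHom.mem_ker.1 hg]; exact one_mem _
  obtain ⟨c, hc⟩ := (phi_eq_one Q hQf g).1 hg
  rw [mem_proper_odd Q hQf h g (μ := c * c) (fun v => by
    rw [lin_apply, hc, Matrix.smul_mulVec, Matrix.one_mulVec, quad_smul'])]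
  rw [hc, Matrix.det_smul, Matrix.det_one, mul_one, hn, pow_mul, pow_two]

include hn in
theorem omega_le_proper : omegaSub Qf ≤ properSub Q hQf n := by
  intro g hg
  by_cases h : (2 : F) = 0
  · rw [mem_proper_two Q hQf h]; exact phi_mem_inn hg
  obtain ⟨k, hk, rfl⟩ := (mem_omegaSub_iff Qf Q hQf g).1 hg
  rw [mem_proper_odd Q hQf h _ (μ := 1) (fun v => by rw [lin_ofOrth, one_mul]; exact apply_quad k v), one_pow,
    ← det_lin, lin_ofOrth]
  let δ : orthGroup Q →* Fˣ := LinearEquiv.det.comp (orthGroup Q).subtype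
  have : δ k = 1 := MonoidHom.mem_ker.1 (Abelianization.commutator_subset_ker δ hk)
  simpa [δ, LinearEquiv.coe_det] using congrArg Units.val this

include hn in
theorem inn_le_proper : Cfsg.Inn (Cfsg.POmega F Qf) ≤ (properSub Q hQf n).map (Φ Qf) := by
  rw [inn_eq]; exact Subgroup.map_mono (omega_le_proper Q hQf hn)

theorem refl_not_proper {a : ι → F} (ha : Q a ≠ 0) : ofOrth Qf Q hQf (refl Q a) ∉ properSub Q hQf n := by
  by_cases h : (2 : F) = 0
  swap
  · rw [mem_proper_odd Q hQf h _ (μ := 1) (fun v => by rw [lin_ofOrth, one_mul]; exact apply_quad _ v), one_pow,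
      ← det_lin, lin_ofOrth, det_refl Q ha]
    exact fun e => h (by linear_combination -e)
  rw [mem_proper_two Q hQf h]
  haveI := charTwo_of_zero h
  intro hm
  rw [inn_eq] at hm
  obtain ⟨w, hw, e⟩ := hm
  obtain ⟨k, hk, rfl⟩ := (mem_omegaSub_iff Qf Q hQf w).1 hw
  have hz : Φ Qf (ofOrth Qf Q hQf (k⁻¹ * refl Q a)) = 1 := by
    rw [map_mul (ofOrth Qf Q hQf), map_mul (Φ Qf), map_inv, map_inv, e, inv_mul_cancel]
  obtain ⟨l, hl⟩ := (phi_eq_one Q hQf _).1 hz
  have hlv : ∀ v, (k⁻¹ * refl Q a).1 v = l • v := fun v => by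
    rw [← lin_ofOrth Qf Q hQf, lin_apply, hl, Matrix.smul_mulVec, Matrix.one_mulVec]
  have hll := apply_quad (k⁻¹ * refl Q a) a
  rw [hlv, quad_smul'] at hll
  have hl1 : l = 1 := by
    have : l * l = 1 := mul_right_cancel₀ ha (hll.trans (one_mul _).symm)
    rcases mul_self_eq_one_iff.1 this with h1 | h1
    · exact h1
    · rw [h1, CharTwo.neg_eq]
  have e1 : k⁻¹ * refl Q a = 1 := Subtype.ext (LinearEquiv.ext fun v => by rw [hlv, hl1, one_smul]; rfl)
  rw [inv_mul_eq_one] at e1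
  obtain ⟨κ, hκ⟩ := exists_dickson Q hQ.nd
  rw [e1, mem_commutator_two hQ.nd (good (Q := Q)) κ hκ, hκ a ha, ofAdd_eq_one] at hk
  exact one_ne_zero hk

/-- In characteristic two a similitude is a scalar times an isometry. -/
theorem exists_orth_of_two (h : (2 : F) = 0) (g : GS Qf) :
    ∃ k : orthGroup Q, Φ Qf g = Φ Qf (ofOrth Qf Q hQf k) ∧
      ∃ c : F, c ≠ 0 ∧ (g.1 : Matrix ι ι F) = c • matOf Q k := by
  haveI := charTwo_of_zero h
  obtain ⟨μ, hμ0, hμ⟩ := exists_mult Qf Q hQf g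
  obtain ⟨c, hc⟩ := FiniteField.isSquare_of_char_two (ringChar.eq F 2) μ
  have hc0 : c ≠ 0 := fun e => hμ0 (by rw [hc, e, mul_zero])
  let k : orthGroup Q := ⟨(lin Qf g).trans (LinearEquiv.smulOfUnit (Units.mk0 c hc0)⁻¹), fun v => by
    show Q (c⁻¹ • lin Qf g v) = _
    rw [quad_smul', hμ v, hc]; field_simp⟩
  have hgk : (g.1 : Matrix ι ι F) = c • matOf Q k := Matrix.ext_iff_mulVec.2 fun v => by
    rw [Matrix.smul_mulVec, matOf_mulVec, ← lin_apply]
    show _ = c • c⁻¹ • lin Qf g v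
    rw [smul_inv_smul₀ hc0]
  refine ⟨k, ?_, c, hc0, hgk⟩
  rw [← inv_mul_eq_one, ← map_inv, ← map_mul]
  refine MonoidHom.mem_ker.1 (scalars_le_ker _ ⟨c⁻¹, Matrix.ext_iff_mulVec.2 fun v => ?_⟩)
  rw [← lin_apply, Matrix.smul_mulVec, Matrix.one_mulVec]
  apply (lin Qf g).injective
  rw [map_smul, ← LinearEquiv.mul_apply, ← map_mul, mul_inv_cancel_left]
  show lin _ _ v = _
  rw [lin_ofOrth]; rfl

include hn in
theorem det_sq_simil (g : GS Qf) {μ : F} (hμ : IsSimil Q (lin Qf g) μ) :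
    (g.1 : Matrix ι ι F).det ^ 2 = μ ^ (2 * n) := by
  set L : (ι → F) →ₗ[F] (ι → F) := (lin Qf g).toLinearMap
  have h : (QuadraticMap.polarBilin Q).compl₁₂ L L = μ • QuadraticMap.polarBilin Q :=
    LinearMap.ext fun u => LinearMap.ext fun v => hμ.polar u v
  have hd := congrArg (fun B => (LinearMap.toMatrix₂' F B).det) h
  simp only [LinearMap.toMatrix₂'_compl₁₂, Matrix.det_mul, Matrix.det_transpose, LinearMap.det_toMatrix', map_smul,
    Matrix.det_smul, hn, L, det_lin] at hd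
  have hne : (LinearMap.toMatrix₂' F (QuadraticMap.polarBilin Q)).det ≠ 0 :=
    Matrix.nondegenerate_iff_det_ne_zero.1 ((LinearMap.nondegenerate_toMatrix₂'_iff).2 hQ.nd)
  apply mul_right_cancel₀ hne
  linear_combination hd

include hn in
/-- Two improper similitudes multiply to a proper one. -/
theorem proper_index_two {g h : GS Qf} (hg : g ∉ properSub Q hQf n) (hh : h ∉ properSub Q hQf n) :
    g * h ∈ properSub Q hQf n := by
  by_cases h2 : (2 : F) = 0
  swap
  · obtain ⟨μ, hμ0, hμ⟩ := exists_mult Qf Q hQf g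
    obtain ⟨ν, hν0, hν⟩ := exists_mult Qf Q hQf h
    rw [mem_proper_odd Q hQf h2 g hμ] at hg
    rw [mem_proper_odd Q hQf h2 h hν] at hh
    rw [mem_proper_odd Q hQf h2 (g * h) (μ := μ * ν) (fun v => by
      rw [map_mul]; show Q (lin Qf g (lin Qf h v)) = _; rw [hμ, hν, mul_assoc])]
    show ((g.1 : Matrix ι ι F) * (h.1 : Matrix ι ι F)).det = _
    have e : ∀ (x : GS Qf) (c : F), IsSimil Q (lin Qf x) c → (x.1 : Matrix ι ι F).det ≠ c ^ n →
        (x.1 : Matrix ι ι F).det = -c ^ n := fun x c hc hne => by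
      have := det_sq_simil Q hn x hc
      rw [mul_comm 2 n, pow_mul] at this
      exact (sq_eq_sq_iff_eq_or_eq_neg.1 this).resolve_left hne
    rw [Matrix.det_mul, e g μ hμ hg, e h ν hν hh, mul_pow]; ring
  haveI := charTwo_of_zero h2
  obtain ⟨x, hx, -⟩ := exists_orth_of_two Q hQf h2 g
  obtain ⟨y, hy, -⟩ := exists_orth_of_two Q hQf h2 h
  obtain ⟨κ, hκ⟩ := exists_dickson Q hQ.nd
  have hcases : ∀ z : orthGroup Q, κ z = 1 ∨ κ z = Multiplicative.ofAdd 1 := fun z => by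
    obtain ⟨L, hL, rfl⟩ := exists_refl_list hQ.nd (good (Q := Q)) z
    induction L with
    | nil => exact Or.inl (map_one κ)
    | cons a L ih =>
      rw [List.map_cons, List.prod_cons, map_mul, hκ a (hL a List.mem_cons_self)]
      rcases ih (fun b hb => hL b (List.mem_cons_of_mem a hb)) with e | e <;> rw [e]
      · exact Or.inr (mul_one _)
      · exact Or.inl (by rw [← ofAdd_add, CharTwo.add_self_eq_zero]; rfl)
  have hin : ∀ z : orthGroup Q, κ z = 1 → Φ Qf (ofOrth Qf Q hQf z) ∈ Cfsg.Inn (Cfsg.POmega F Qf) := fun z hz =>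
    phi_mem_inn ((mem_omegaSub_iff Qf Q hQf _).2 ⟨z, (mem_commutator_two hQ.nd (good (Q := Q)) κ hκ z).2 hz, rfl⟩)
  have hnot : ∀ z : orthGroup Q, Φ Qf (ofOrth Qf Q hQf z) ∉ Cfsg.Inn (Cfsg.POmega F Qf) →
      κ z = Multiplicative.ofAdd 1 := fun z hz => (hcases z).resolve_left fun e => hz (hin z e)
  rw [mem_proper_two Q hQf h2] at hg hh ⊢
  rw [hx] at hg
  rw [hy] at hh
  rw [map_mul, hx, hy, ← map_mul, ← map_mul]
  refine hin _ ?_
  rw [map_mul, hnot x hg, hnot y hh, ← ofAdd_add, CharTwo.add_self_eq_zero]; rfl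

include hn in
theorem proper_mul_iff {g : GS Qf} (hg : g ∉ properSub Q hQf n) (h : GS Qf) :
    g * h ∈ properSub Q hQf n ↔ h ∉ properSub Q hQf n := by
  refine ⟨fun hgh hh => hg ?_, proper_index_two Q hQf hn hg⟩
  simpa using Subgroup.mul_mem _ hgh (inv_mem hh)

include hn in
theorem prod_refl_proper (L : List (ι → F)) (hL : ∀ a ∈ L, Q a ≠ 0) :
    ofOrth Qf Q hQf (L.map (refl Q)).prod ∈ properSub Q hQf n ↔ Even L.length := by
  induction L with
  | nil => simp
  | cons a L ih =>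
    rw [List.map_cons, List.prod_cons, map_mul, proper_mul_iff Q hQf hn (refl_not_proper Q hQf (hL a List.mem_cons_self)),
      ih (fun b hb => hL b (List.mem_cons_of_mem a hb)), List.length_cons, Nat.even_add_one]

include hn in
theorem proper_map_normal : ((properSub Q hQf n).map (Φ Qf)).Normal ↔
    ∀ α, ∀ g ∈ properSub Q hQf n, α * Φ Qf g * α⁻¹ ∈ (properSub Q hQf n).map (Φ Qf) :=
  ⟨fun h α g hg => h.conj_mem _ ⟨g, hg, rfl⟩ α, fun h => ⟨by rintro _ ⟨g, hg, rfl⟩ α; exact h α g hg⟩⟩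

include hn in
/-- The proper classes are normal in the automorphism group. -/
theorem proper_normal [hQ8 : OCtx Q] : ((properSub Q hQf n).map (Φ Qf)).Normal := by
  rw [proper_map_normal Q hQf hn]
  intro α g hg
  by_cases h2 : (2 : F) = 0
  · exact inn_le_proper Q hQf hn ((POmegaAut.inn_normal _).conj_mem _ ((mem_proper_two Q hQf h2 g).1 hg) α)
  obtain ⟨a, τ, hα⟩ := exists_semi Q hQf α
  obtain ⟨h, he, hdet, hsim⟩ := semi_conj_gs Q hQf hα g
  obtain ⟨μ, -, hμ⟩ := exists_mult Qf Q hQf g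
  refine ⟨h, ?_, he.symm⟩
  show h ∈ properSub Q hQf n
  rw [mem_proper_odd Q hQf h2 h (hsim μ hμ), hdet, (mem_proper_odd Q hQf h2 g hμ).1 hg, map_pow]

end Proper

section Base

variable {F : Type u} [Field F] [Fintype F] {ι : Type} [Fintype ι] [DecidableEq ι] {Qf : (ι → F) → F}
  {F₀ : Type v} [Field F₀] [Fintype F₀] {κ : Type} [Fintype κ] [DecidableEq κ]
  {Q : QuadraticForm F (ι → F)} {A : GL ι F} {σ : F ≃+* F} {emb : F₀ →+* F}
  {P₀ : QuadraticForm F₀ (κ → F₀)} {P : QuadraticForm F (κ → F)} {P₀f : (κ → F₀) → F₀}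
  (hQf : ∀ v, Qf v = Q v) (hP₀f : ∀ w, P₀f w = P₀ w) [hQ : OCtx0 Q] [hP : OCtx0 P₀] {n : ℕ}

include hQ hP in
/-- Properness is stable under base change. -/
theorem Desc.bc_proper (D : Desc Q A σ emb P₀ P) (hn : Fintype.card ι = 2 * n) (hκ : Fintype.card κ = 2 * n)
    (B : GS P₀f) : D.bc hQf hP₀f B ∈ properSub Q hQf n ↔ B ∈ properSub P₀ hP₀f n := by
  obtain ⟨μ, hμ0, hμ⟩ := exists_mult P₀f P₀ hP₀f B
  by_cases h2 : (2 : F) = 0
  swap
  · have h20 : (2 : F₀) ≠ 0 := fun h => h2 (by rw [← map_ofNat emb 2, h, map_zero])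
    rw [mem_proper_odd Q hQf h2 _ (D.bc_simil hQf hP₀f B hμ), mem_proper_odd P₀ hP₀f h20 B hμ, D.bc_det, ← map_pow,
      emb.injective.eq_iff]
  have h20 : (2 : F₀) = 0 := emb.injective (by rw [map_ofNat, map_zero, h2])
  obtain ⟨k, hk, -⟩ := exists_orth_of_two P₀ hP₀f h20 B
  obtain ⟨L, hL, rfl⟩ := exists_refl_list hP.nd (good (Q := P₀)) k
  set B' := ofOrth P₀f P₀ hP₀f (L.map (refl P₀)).prod
  have hbc : Φ Qf (D.bc hQf hP₀f B) = Φ Qf (D.bc hQf hP₀f B') := by
    rw [← inv_mul_eq_one, ← map_inv, ← map_mul, ← map_inv, ← map_mul, D.bc_phi_one, map_mul, map_inv, hk,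
      inv_mul_cancel]
  rw [mem_proper_two Q hQf h2, mem_proper_two P₀ hP₀f h20, hbc, hk, ← mem_proper_two Q hQf h2 (n := n),
    ← mem_proper_two P₀ hP₀f h20 (n := n), D.bc_prod_refl, prod_refl_proper P₀ hP₀f hκ L hL,
    prod_refl_proper Q hQf hn _ (by
      intro a ha
      obtain ⟨b, hb, rfl⟩ := List.mem_map.1 ha
      rw [D.hQ, D.hemb]
      exact mul_ne_zero D.hz ((map_ne_zero emb).2 (hL b hb))),
    List.length_map]

include hQ hP in
theorem Desc.centralizer_proper (D : Desc Q A σ emb P₀ P) (hn : Fintype.card ι = 2 * n) (hκ : Fintype.card κ = 2 * n)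
    (hι : ∀ x, σ x = x ↔ x ∈ Set.range emb) {β : MulAut (Cfsg.POmega F Qf)}
    (hβ : POmegaAut.IsSemiInduced Qf A σ β) :
    Nonempty (↥((properSub Q hQf n).map (Φ Qf) ⊓ Subgroup.centralizer {β}) ≃* ↥((properSub P₀ hP₀f n).map (Φ P₀f))) :=
  D.centralizer hQf hP₀f hι hβ _ _ (ker_le_proper Q hQf hn) (D.bc_proper hQf hP₀f hn hκ)

include hQ hP in
/-- Two elements over one form are conjugate by a proper similitude. -/
theorem Desc.conj_proper {A' : GL ι F} (D : Desc Q A σ emb P₀ P) (D' : Desc Q A' σ emb P₀ P)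
    (hn : Fintype.card ι = 2 * n) (hσ : ∀ a, σ (emb a) = emb a) {β β' : MulAut (Cfsg.POmega F Qf)}
    (hβ : POmegaAut.IsSemiInduced Qf A σ β) (hβ' : POmegaAut.IsSemiInduced Qf A' σ β') :
    Cfsg.IsConjUnder ((properSub Q hQf n).map (Φ Qf)) β β' := by
  obtain ⟨g, hg, -⟩ := D.conj hQf D' hβ hβ'
  by_cases hgp : g ∈ properSub Q hQf n
  · exact ⟨Φ Qf g, ⟨g, hgp, rfl⟩, hg⟩
  obtain ⟨a, ha⟩ := exists_value_ne P₀
  set R := D.bc hQf (P₀f := fun w => P₀ w) (fun _ => rfl) (ofOrth _ P₀ (fun _ => rfl) (refl P₀ a))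
  have hR : R ∉ properSub Q hQf n := by
    simp only [R, D.bc_refl]
    exact refl_not_proper Q hQf (by rw [D.hQ, D.hemb]; exact mul_ne_zero D.hz ((map_ne_zero emb).2 ha))
  refine ⟨Φ Qf (g * R), ⟨g * R, proper_index_two Q hQf hn hgp hR, rfl⟩, ?_⟩
  have hc := D.bc_commute hQf (P₀f := fun w => P₀ w) (fun _ => rfl) hσ hβ
    (ofOrth _ P₀ (fun _ => rfl) (refl P₀ a))
  rw [hg, map_mul]
  calc Φ Qf g * β * (Φ Qf g)⁻¹ = Φ Qf g * (β * Φ Qf R) * (Φ Qf R)⁻¹ * (Φ Qf g)⁻¹ := by group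
    _ = Φ Qf g * (Φ Qf R * β) * (Φ Qf R)⁻¹ * (Φ Qf g)⁻¹ := by rw [hc]
    _ = _ := by group

end Base

end CfsgLib.KnownC.AutPOmega
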