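import Cfsg.Agent.Lib.KnownC.AutPOmega.Radical

/-!
# Every automorphism of `PΩ(Q)` acts on the singular points as a semisimilitude
-/

set_option autoImplicit false
set_option linter.unusedSectionVars false
set_option linter.style.haveILetI false

open Module QuadraticMap MulAction
open scoped LinearAlgebra.Projectivization

namespace CfsgLib.KnownC.AutPOmega

open CfsgLib.Orth CfsgLib.Classical

variable {F : Type*} [Field F] {V : Type*} [AddCommGroup V] [Module F V] {Q : QuadraticForm F V}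

variable [FiniteDimensional F V] [hQ : OCtx0 Q]
include hQ

theorem EE_mem_rad_orth {r w : V} (hr : Q r = 0) (hw0 : w ≠ 0) (hw : Q w = 0) (hrw : polar Q r w = 0) (t : F) :
    EE Q r (t • w) ∈ rad (pt Q hw0 hw) := by
  have hu : polar Q r (t • w) = 0 := by rw [polar_smul_r', hrw, mul_zero]
  have hwr : polar Q w r = 0 := by rw [polar_comm]; exact hrw
  have hs : IsSiegel (sg Q r (t • w)).1 w ((-t) • r) := by
    refine ⟨hw, by rw [polar_smul_r', hwr, mul_zero], fun v => ?_⟩
    rw [sg_apply hr hu, quad_smul', quad_smul', hr, hw, polar_smul_l', polar_smul_l']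
    module
  exact (mem_rad hw0 hw).2 ⟨_, hs.2.1, congrArg QuotientGroup.mk (eq_sg hs)⟩

/-- A vector orthogonal to `r` is determined by its perpendicular pattern on the affine complement. -/
theorem prop_of_pattern {M : Submodule F V} (hnd : ∀ x ∈ M, (∀ y ∈ M, polar Q x y = 0) → x = 0) {z₁ z₂ : V}
    (h₁ : z₁ ∈ M) (h₂ : z₂ ∈ M) (hz₁ : z₁ ≠ 0) (hz₂ : z₂ ≠ 0) {a₁ a₂ : F}
    (h : ∀ u ∈ M, a₁ + polar Q z₁ u = 0 → a₂ + polar Q z₂ u = 0) : ∃ l : F, l ≠ 0 ∧ a₂ = l * a₁ ∧ z₂ = l • z₁ := by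
  obtain ⟨y, hy, hy1⟩ : ∃ y ∈ M, polar Q z₁ y ≠ 0 := by
    by_contra! h'
    exact hz₁ (hnd z₁ h₁ h')
  set y' := (polar Q z₁ y)⁻¹ • y with hy'
  have hy'M : y' ∈ M := M.smul_mem _ hy
  have hy'1 : polar Q z₁ y' = 1 := by rw [hy', polar_smul_r', inv_mul_cancel₀ hy1]
  set l := polar Q z₂ y' with hl
  have e1 : a₂ = l * a₁ := by
    have := h ((-a₁) • y') (M.smul_mem _ hy'M) (by rw [polar_smul_r', hy'1]; ring)
    rw [polar_smul_r'] at this
    linear_combination this
  have e2 : ∀ u ∈ M, polar Q z₂ u = l * polar Q z₁ u := by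
    intro u hu
    have := h (u - (polar Q z₁ u + a₁) • y') (M.sub_mem hu (M.smul_mem _ hy'M))
      (by rw [polar_sub_right, polar_smul_r', hy'1]; ring)
    rw [polar_sub_right, polar_smul_r', ← hl, e1] at this
    linear_combination this
  have e3 : z₂ = l • z₁ := sub_eq_zero.1 (hnd _ (M.sub_mem h₂ (M.smul_mem _ h₁)) fun u hu => by
    rw [polar_sub_left, polar_smul_l', e2 u hu, sub_self])
  exact ⟨l, fun h0 => hz₂ (by rw [e3, h0, zero_smul]), e1, e3⟩

/-- An automorphism fixing two non-orthogonal points acts as a semisimilitude. -/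
theorem pinned (α : MulAut (PG Q)) {f : SingPts Q ≃ SingPts Q} (hf : IsPtMap α f) {r s : V} (hr0 : r ≠ 0)
    (hr : Q r = 0) (hs0 : s ≠ 0) (hs : Q s = 0) (hrs : polar Q r s = 1) (hfP : f (pt Q hr0 hr) = pt Q hr0 hr)
    (hfS : f (pt Q hs0 hs) = pt Q hs0 hs) :
    ∃ (T : V → V) (σ : F ≃+* F) (c : F), c ≠ 0 ∧ (∀ x y, T (x + y) = T x + T y) ∧
      (∀ (a : F) x, T (a • x) = σ a • T x) ∧ (∀ x, Q (T x) = c * σ (Q x)) ∧
      ∀ (v : V) (hv : v ≠ 0) (hv0 : Q v = 0) (hv' : T v ≠ 0) (hv'0 : Q (T v) = 0),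
        f (pt Q hv hv0) = pt Q hv' hv'0 := by
  classical
  haveI := hQ.fin
  have hsr : polar Q s r = 1 := by rw [polar_comm]; exact hrs
  have hrr : polar Q r r = 0 := by rw [polar_self', hr, mul_zero]
  have hss : polar Q s s = 0 := by rw [polar_self', hs, mul_zero]
  set M := perp Q (Submodule.span F {r, s}) with hM
  have hMr : ∀ {z}, z ∈ M → polar Q r z = 0 := fun hz => hz r (Submodule.subset_span (by simp))
  have hMs : ∀ {z}, z ∈ M → polar Q s z = 0 := fun hz => hz s (Submodule.subset_span (by simp))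
  have hMmk : ∀ {z}, polar Q r z = 0 → polar Q s z = 0 → z ∈ M := fun {z} h1 h2 => mem_perp_span.2 (by
    rintro y (rfl | rfl) <;> assumption)
  have hMnd : ∀ x ∈ M, (∀ y ∈ M, polar Q x y = 0) → x = 0 := perp_pair_nondeg hr hs hrs
  let pr : V → V := fun x => x - polar Q s x • r - polar Q r x • s
  have hpr : ∀ x, pr x ∈ M := fun x => hMmk
    (by simp only [pr, polar_sub_right, polar_smul_r', hrr, hrs]; ring)
    (by simp only [pr, polar_sub_right, polar_smul_r', hsr, hss]; ring)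
  have hMspan : ∀ {z}, z ∈ M → z ∈ F ∙ r → z = 0 := fun {z} hz hzr => by
    obtain ⟨a, rfl⟩ := Submodule.mem_span_singleton.1 hzr
    have := hMs hz
    rw [polar_smul_r', hsr, mul_one] at this
    rw [this, zero_smul]
  -- the induced map of the Siegel group
  have hex : ∀ z : V, ∃ z', z' ∈ M ∧ (z ∈ M → α (EE Q r z) = EE Q r z') := by
    intro z
    by_cases hz : z ∈ M
    · have h1 : α (EE Q r z) ∈ rad (pt Q hr0 hr) := by
        have h2 : α (EE Q r z) ∈ (rad (pt Q hr0 hr)).map α.toMonoidHom := ⟨_, (mem_rad _ _).2 ⟨z, hMr hz, rfl⟩, rfl⟩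
        rwa [hf.rad_map, hfP] at h2
      obtain ⟨u, hu, hue⟩ := (mem_rad hr0 hr).1 h1
      refine ⟨u - polar Q s u • r, hMmk ?_ ?_, fun _ => ?_⟩
      · rw [polar_sub_right, polar_smul_r', hrr, hu]; ring
      · rw [polar_sub_right, polar_smul_r', hsr]; ring
      · rw [hue, EE, EE, sub_eq_add_neg, ← neg_smul, sg_shift hr hu]
    · exact ⟨0, M.zero_mem, fun h => absurd h hz⟩
  choose φ hφM hφ using hex
  have huniq : ∀ {z w : V}, z ∈ M → w ∈ M → EE Q r z = EE Q r w → z = w := fun {z w} hz hw h =>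
    sub_eq_zero.1 (hMspan (M.sub_mem hz hw) ((EE_inj hr0 hr (hMr hz) (hMr hw)).1 h))
  have hφadd : ∀ x ∈ M, ∀ y ∈ M, φ (x + y) = φ x + φ y := fun x hx y hy =>
    huniq (hφM _) (M.add_mem (hφM _) (hφM _)) (by
      rw [← hφ _ (M.add_mem hx hy), ← EE_mul hr (hMr (hφM x)) (hMr (hφM y)), ← EE_mul hr (hMr hx) (hMr hy), map_mul,
        hφ x hx, hφ y hy])
  have hφzero : φ 0 = 0 := by
    have := hφadd 0 M.zero_mem 0 M.zero_mem
    rw [add_zero] at this
    exact left_eq_add.1 this
  have hφinj : ∀ x ∈ M, ∀ y ∈ M, φ x = φ y → x = y := fun x hx y hy h =>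
    huniq hx hy (α.injective (by rw [hφ x hx, hφ y hy, h]))
  have hφsurj : ∀ y ∈ M, ∃ x ∈ M, φ x = y := by
    intro y hy
    haveI := finite_vec (Q := Q)
    obtain ⟨x, hx⟩ := Finite.surjective_of_injective (f := fun x : M => (⟨φ x, hφM x⟩ : M))
      (fun a b h => Subtype.ext (hφinj a a.2 b b.2 (congrArg Subtype.val h))) ⟨y, hy⟩
    exact ⟨x, x.2, congrArg Subtype.val hx⟩
  have hφne : ∀ {z}, z ∈ M → z ≠ 0 → φ z ≠ 0 := fun {z} hz h0 h =>
    h0 (hφinj z hz 0 M.zero_mem (h.trans hφzero.symm))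
  -- singular lines
  have hline : ∀ {z}, z ∈ M → ∀ (hz0 : z ≠ 0) (hz : Q z = 0), ∃ (h0' : φ z ≠ 0) (hz' : Q (φ z) = 0),
      f (pt Q hz0 hz) = pt Q h0' hz' ∧ ∀ t : F, ∃ a : F, φ (t • z) = a • φ z := by
    intro z hzM hz0 hz
    obtain ⟨w, hw0, hw, hfw⟩ := singPt_surjective (f (pt Q hz0 hz))
    have hrw : polar Q r w = 0 := by
      rw [← ort_pt hr0 hr hw0 hw]
      show Ort (pt Q hr0 hr) (singPt Q hw0 hw)
      rw [← hfw, ← hfP, hf.ort, ort_pt]
      exact hMr hzM
    have hsw : polar Q s w = 0 := by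
      rw [← ort_pt hs0 hs hw0 hw]
      show Ort (pt Q hs0 hs) (singPt Q hw0 hw)
      rw [← hfw, ← hfS, hf.ort, ort_pt]
      exact hMs hzM
    have hwr : w ∉ F ∙ r := fun h => hw0 (hMspan (hMmk hrw hsw) h)
    have hl : ∀ t : F, ∃ a : F, φ (t • z) = a • w := by
      intro t
      have h1 : α (EE Q r (t • z)) ∈ rad (pt Q hw0 hw) := by
        have h2 : α (EE Q r (t • z)) ∈ (rad (pt Q hz0 hz)).map α.toMonoidHom :=
          ⟨_, EE_mem_rad_orth hr hz0 hz (hMr hzM) t, rfl⟩
        rwa [hf.rad_map, hfw] at h2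
      rw [hφ _ (M.smul_mem t hzM)] at h1
      obtain ⟨a, ha⟩ := inter_line hr0 hr hw0 hw hwr hrw (hMr (hφM _)) h1
      exact ⟨a, sub_eq_zero.1 (hMspan (M.sub_mem (hφM _) (M.smul_mem a (hMmk hrw hsw))) ha)⟩
    obtain ⟨b, hb⟩ := hl 1
    rw [one_smul] at hb
    have hb0 : b ≠ 0 := fun h => hφne hzM hz0 (by rw [hb, h, zero_smul])
    refine ⟨hφne hzM hz0, by rw [hb, quad_smul', hw, mul_zero], hfw.trans ?_, fun t => ?_⟩
    · exact pt_eq_iff.2 ⟨b⁻¹, by rw [hb, smul_smul, inv_mul_cancel₀ hb0, one_smul]⟩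
    · obtain ⟨a, ha⟩ := hl t
      exact ⟨a * b⁻¹, by rw [ha, hb, smul_smul, mul_assoc, inv_mul_cancel₀ hb0, mul_one]⟩
  choose! sd hsd using fun z (h : z ∈ M ∧ z ≠ 0 ∧ Q z = 0) (t : F) => (hline h.1 h.2.1 h.2.2).2.2.2 t
  have hort : ∀ {z w}, z ∈ M → z ≠ 0 → Q z = 0 → w ∈ M → w ≠ 0 → Q w = 0 →
      (polar Q (φ z) (φ w) = 0 ↔ polar Q z w = 0) := by
    intro z w hzM hz0 hz hwM hw0 hw
    obtain ⟨h1, h2, h3, -⟩ := hline hzM hz0 hz
    obtain ⟨k1, k2, k3, -⟩ := hline hwM hw0 hw
    rw [← ort_pt h1 h2 k1 k2, ← h3, ← k3, hf.ort, ort_pt]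
  have hsd_same : ∀ {z w}, z ∈ M → z ≠ 0 → Q z = 0 → w ∈ M → w ∉ F ∙ z → Q w = 0 → polar Q z w = 0 →
      sd z = sd w := by
    intro z w hzM hz0 hz hwM hwz hw hzw
    have hw0 : w ≠ 0 := fun h => hwz (h ▸ Submodule.zero_mem _)
    have hx0 : z + w ≠ 0 := fun h => hwz (by
      rw [eq_neg_of_add_eq_zero_right h]
      exact neg_mem (Submodule.mem_span_singleton_self z))
    have hx : Q (z + w) = 0 := by rw [quad_add', hz, hw, hzw]; ring
    have hxM := M.add_mem hzM hwM
    obtain ⟨h1, h2, h3, -⟩ := hline hzM hz0 hz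
    obtain ⟨k1, k2, k3, -⟩ := hline hwM hw0 hw
    funext t
    have e := hsd (z + w) ⟨hxM, hx0, hx⟩ t
    rw [smul_add, hφadd _ (M.smul_mem t hzM) _ (M.smul_mem t hwM), hφadd _ hzM _ hwM, hsd z ⟨hzM, hz0, hz⟩ t,
      hsd w ⟨hwM, hw0, hw⟩ t] at e
    have e' : (sd z t - sd (z + w) t) • φ z = (sd (z + w) t - sd w t) • φ w := by
      linear_combination (norm := module) e
    by_cases hzero : sd (z + w) t - sd w t = 0
    · rw [hzero, zero_smul, smul_eq_zero] at e'
      linear_combination e'.resolve_right h1 + hzero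
    · exfalso
      refine hwz ?_
      have hpt : pt Q hw0 hw = pt Q hz0 hz := by
        refine f.injective ?_
        rw [k3, h3]
        exact pt_eq_iff.2 ⟨(sd (z + w) t - sd w t)⁻¹ * (sd z t - sd (z + w) t), by
          rw [← smul_smul, e', smul_smul, inv_mul_cancel₀ hzero, one_smul]⟩
      obtain ⟨a, ha⟩ := pt_eq_iff.1 hpt
      exact Submodule.mem_span_singleton.2 ⟨a, ha⟩
  obtain ⟨d₀, hd₀M, e₀, he₀M, hd₀, he₀, hde⟩ := pair_perp_frame hr hs hrs
  have hd₀0 : d₀ ≠ 0 := fun h => by simp [h] at hde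
  have he₀0 : e₀ ≠ 0 := fun h => by simp [h] at hde
  have hcommon : ∀ z w : V, ∃ d ∈ M, d ≠ 0 ∧ Q d = 0 ∧ polar Q z d = 0 ∧ polar Q w d = 0 := by
    intro z w
    obtain ⟨d, hd, hd0, hdq⟩ := exists_sing_sub (Q := Q) (W := perp Q (Submodule.span F {r, s} ⊔ Submodule.span F {z, w})) (by
      rw [perp_finrank]
      have := Submodule.finrank_add_le_finrank_add_finrank (Submodule.span F ({r, s} : Set V))
        (Submodule.span F ({z, w} : Set V))
      have := finrank_span_pair_le (F := F) r s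
      have := finrank_span_pair_le (F := F) z w
      have := hQ.seven
      omega)
    exact ⟨d, fun x hx => hd x (Submodule.mem_sup_left hx), hd0, hdq,
      hd z (Submodule.mem_sup_right (Submodule.subset_span (by simp))),
      hd w (Submodule.mem_sup_right (Submodule.subset_span (by simp)))⟩
  have hother : ∀ z, ∃ d ∈ M, d ∉ F ∙ z ∧ Q d = 0 ∧ polar Q z d = 0 := by
    intro z
    set H := perp Q (Submodule.span F {r, s} ⊔ (F ∙ z)) with hH
    obtain ⟨Y, hY⟩ := Submodule.exists_isCompl ((F ∙ z).comap H.subtype)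
    obtain ⟨_, ⟨d, hdY, rfl⟩, hd0, hdq⟩ := exists_sing_sub (Q := Q) (W := Y.map H.subtype) (by
      rw [Submodule.finrank_map_subtype_eq]
      have h1 := Submodule.finrank_add_eq_of_isCompl hY
      have h2 : finrank F ((F ∙ z).comap H.subtype) ≤ 1 := by
        rw [← Submodule.finrank_map_subtype_eq H]
        exact (Submodule.finrank_mono (Submodule.map_comap_le _ _)).trans (finrank_span_singleton_le _)
      have h3 : finrank F V - 3 ≤ finrank F H := by
        rw [hH, perp_finrank]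
        have := Submodule.finrank_add_le_finrank_add_finrank (Submodule.span F ({r, s} : Set V)) (F ∙ z)
        have := finrank_span_pair_le (F := F) r s
        have := finrank_span_singleton_le (F := F) z
        omega
      have := hQ.seven
      omega)
    exact ⟨d, fun x hx => d.2 x (Submodule.mem_sup_left hx), fun h => hd0 (by
      rw [Submodule.disjoint_def.1 hY.disjoint d h hdY]; simp), hdq,
      d.2 z (Submodule.mem_sup_right (Submodule.mem_span_singleton_self z))⟩
  have hsd_all : ∀ {z}, z ∈ M → z ≠ 0 → Q z = 0 → sd z = sd d₀ := by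
    intro z hzM hz0 hz
    by_cases hp : polar Q z d₀ = 0
    · by_cases hm : z ∈ F ∙ d₀
      · obtain ⟨d, hdM, hdn, hdq, hdp⟩ := hother d₀
        obtain ⟨b, rfl⟩ := Submodule.mem_span_singleton.1 hm
        have hb : b ≠ 0 := fun h => hz0 (by rw [h, zero_smul])
        have hdn' : d ∉ F ∙ (b • d₀) := fun h => hdn (by
          rwa [Submodule.span_singleton_smul_eq (isUnit_iff_ne_zero.2 hb)] at h)
        exact (hsd_same hzM hz0 hz hdM hdn' hdq (by rw [polar_smul_l', hdp, mul_zero])).trans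
          (hsd_same hd₀M hd₀0 hd₀ hdM hdn hdq hdp).symm
      · exact (hsd_same hd₀M hd₀0 hd₀ hzM hm hz (by rw [polar_comm]; exact hp)).symm
    · obtain ⟨d, hdM, hd0, hdq, hdz, hdd⟩ := hcommon z d₀
      have hdn : d ∉ F ∙ z := fun h => by
        obtain ⟨b, rfl⟩ := Submodule.mem_span_singleton.1 h
        rw [polar_smul_r', polar_comm _ d₀ z] at hdd
        exact hd0 (by rw [(mul_eq_zero.1 hdd).resolve_right hp, zero_smul])
      have hdn' : d ∉ F ∙ d₀ := fun h => by
        obtain ⟨b, rfl⟩ := Submodule.mem_span_singleton.1 h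
        rw [polar_smul_r'] at hdz
        exact hd0 (by rw [(mul_eq_zero.1 hdz).resolve_right hp, zero_smul])
      exact (hsd_same hzM hz0 hz hdM hdn hdq hdz).trans (hsd_same hd₀M hd₀0 hd₀ hdM hdn' hdq hdd).symm
  have hd₀' : d₀ ∈ M ∧ d₀ ≠ 0 ∧ Q d₀ = 0 := ⟨hd₀M, hd₀0, hd₀⟩
  have hinj : ∀ {a b : F}, φ (a • d₀) = φ (b • d₀) → a = b := fun {a b} h =>
    smul_left_injective F hd₀0 (hφinj _ (M.smul_mem a hd₀M) _ (M.smul_mem b hd₀M) h)
  have hsmul0 : Function.Injective fun a : F => a • φ d₀ := smul_left_injective F (hφne hd₀M hd₀0)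
  let σh : F →+* F :=
    { toFun := sd d₀
      map_one' := hsmul0 (show sd d₀ 1 • φ d₀ = (1 : F) • φ d₀ by rw [← hsd d₀ hd₀' 1, one_smul, one_smul])
      map_mul' := fun a b => hsmul0 (show sd d₀ (a * b) • φ d₀ = (sd d₀ a * sd d₀ b) • φ d₀ by
        rw [← hsd d₀ hd₀' (a * b), mul_smul]
        by_cases hb : b = 0
        · have h0 : sd d₀ b = 0 := hsmul0 (show sd d₀ b • φ d₀ = (0 : F) • φ d₀ by
            rw [← hsd d₀ hd₀' b, hb, zero_smul, zero_smul, hφzero])
          rw [h0, mul_zero, zero_smul, hb, zero_smul, smul_zero, hφzero]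
        · have hbd : b • d₀ ∈ M ∧ b • d₀ ≠ 0 ∧ Q (b • d₀) = 0 :=
            ⟨M.smul_mem b hd₀M, smul_ne_zero hb hd₀0, by rw [quad_smul', hd₀, mul_zero]⟩
          rw [hsd _ hbd a, hsd_all hbd.1 hbd.2.1 hbd.2.2, hsd d₀ hd₀' b, smul_smul])
      map_zero' := hsmul0 (show sd d₀ 0 • φ d₀ = (0 : F) • φ d₀ by rw [← hsd d₀ hd₀' 0, zero_smul, zero_smul, hφzero])
      map_add' := fun a b => hsmul0 (show sd d₀ (a + b) • φ d₀ = (sd d₀ a + sd d₀ b) • φ d₀ by
        rw [← hsd d₀ hd₀' (a + b), add_smul, add_smul, hφadd _ (M.smul_mem a hd₀M) _ (M.smul_mem b hd₀M),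
          hsd d₀ hd₀' a, hsd d₀ hd₀' b]) }
  let σ : F ≃+* F := RingEquiv.ofBijective σh (Finite.injective_iff_bijective.1 σh.injective)
  have hσ : ∀ a, σ a = sd d₀ a := fun a => rfl
  have hMspanS : ∀ {v}, v ∈ M → v ∈ Submodule.span F {v | v ∈ M ∧ Q v = 0} := fun hv =>
    mem_span_sing hd₀M he₀M hd₀ he₀ hde hv
  have hsemi : ∀ v ∈ M, ∀ a : F, φ (a • v) = σ a • φ v := by
    have key : ∀ v ∈ Submodule.span F {v | v ∈ M ∧ Q v = 0}, v ∈ M ∧ ∀ a : F, φ (a • v) = σ a • φ v := by
      intro v hv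
      induction hv using Submodule.span_induction with
      | mem w hw =>
        refine ⟨hw.1, fun a => ?_⟩
        by_cases hw0 : w = 0
        · rw [hw0, smul_zero, hφzero, smul_zero]
        · rw [hsd w ⟨hw.1, hw0, hw.2⟩ a, hsd_all hw.1 hw0 hw.2, hσ]
      | zero => exact ⟨M.zero_mem, fun a => by rw [smul_zero, hφzero, smul_zero]⟩
      | add x y _ _ hx hy => exact ⟨M.add_mem hx.1 hy.1, fun a => by
          rw [smul_add, hφadd _ (M.smul_mem a hx.1) _ (M.smul_mem a hy.1), hφadd _ hx.1 _ hy.1, hx.2, hy.2, smul_add]⟩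
      | smul b x _ hx => exact ⟨M.smul_mem b hx.1, fun a => by rw [smul_smul, hx.2, hx.2, map_mul, smul_smul]⟩
    exact fun v hv => (key v (hMspanS hv)).2
  -- the multiplier
  set c := polar Q (φ d₀) (φ e₀) with hc
  have hc0 : c ≠ 0 := fun h => by
    have := (hort hd₀M hd₀0 hd₀ he₀M he₀0 he₀).1 h
    rw [hde] at this
    exact one_ne_zero this
  have hφd : Q (φ d₀) = 0 := (hline hd₀M hd₀0 hd₀).2.1
  have hφe : Q (φ e₀) = 0 := (hline he₀M he₀0 he₀).2.1
  have hQφ : ∀ x ∈ M, Q (φ x) = c * σ (Q x) := by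
    set X := perp Q (Submodule.span F {r, s} ⊔ Submodule.span F {d₀, e₀}) with hX
    have hXM : ∀ {x}, x ∈ X → x ∈ M := fun hx y hy => hx y (Submodule.mem_sup_left hy)
    have hXd : ∀ {x}, x ∈ X → polar Q d₀ x = 0 := fun hx =>
      hx d₀ (Submodule.mem_sup_right (Submodule.subset_span (by simp)))
    have hXe : ∀ {x}, x ∈ X → polar Q e₀ x = 0 := fun hx =>
      hx e₀ (Submodule.mem_sup_right (Submodule.subset_span (by simp)))
    have hXmk : ∀ {x}, x ∈ M → polar Q d₀ x = 0 → polar Q e₀ x = 0 → x ∈ X := by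
      intro x hxM h1 h2 y hy
      obtain ⟨a, ha, b, hb, rfl⟩ := Submodule.mem_sup.1 hy
      obtain ⟨u, v, rfl⟩ := Submodule.mem_span_pair.1 hb
      show polar Q (a + (u • d₀ + v • e₀)) x = 0
      rw [polar_add_left, polar_add_left, polar_smul_l', polar_smul_l', h1, h2, show polar Q a x = 0 from hxM a ha]
      ring
    have hde' : polar Q e₀ d₀ = 1 := by rw [polar_comm]; exact hde
    have hdd : polar Q d₀ d₀ = 0 := by rw [polar_self', hd₀, mul_zero]
    have hee : polar Q e₀ e₀ = 0 := by rw [polar_self', he₀, mul_zero]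
    have hproj : ∀ {x}, x ∈ M → x - polar Q e₀ x • d₀ - polar Q d₀ x • e₀ ∈ X := fun {x} hx =>
      hXmk (M.sub_mem (M.sub_mem hx (M.smul_mem _ hd₀M)) (M.smul_mem _ he₀M))
        (by simp only [polar_sub_right, polar_smul_r', hdd, hde]; ring)
        (by simp only [polar_sub_right, polar_smul_r', hee, hde']; ring)
    obtain ⟨d₁, hd₁X, e₁, he₁X, hd₁, he₁, hde₁⟩ := exists_pair_in (Q := Q) (X := X) (by
        rw [hX, perp_finrank]
        have := Submodule.finrank_add_le_finrank_add_finrank (Submodule.span F ({r, s} : Set V))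
          (Submodule.span F ({d₀, e₀} : Set V))
        have := finrank_span_pair_le (F := F) r s
        have := finrank_span_pair_le (F := F) d₀ e₀
        have := hQ.seven
        omega)
      (fun x hx hperp => hMnd x (hXM hx) fun y hy => by
        have h1 := hperp _ (hproj hy)
        rw [polar_sub_right, polar_sub_right, polar_smul_r', polar_smul_r', polar_comm _ x d₀, polar_comm _ x e₀, hXd hx,
          hXe hx] at h1
        linear_combination h1)
    have hperp0 : ∀ z ∈ X, polar Q (φ d₀) (φ z) = 0 ∧ polar Q (φ e₀) (φ z) = 0 := by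
      have key : ∀ z ∈ Submodule.span F {v | v ∈ X ∧ Q v = 0},
          z ∈ M ∧ polar Q (φ d₀) (φ z) = 0 ∧ polar Q (φ e₀) (φ z) = 0 := by
        intro z hz
        induction hz using Submodule.span_induction with
        | mem w hw =>
          refine ⟨hXM hw.1, ?_⟩
          by_cases hw0 : w = 0
          · rw [hw0, hφzero, polar_zero_right, polar_zero_right]; exact ⟨rfl, rfl⟩
          · exact ⟨(hort hd₀M hd₀0 hd₀ (hXM hw.1) hw0 hw.2).2 (hXd hw.1),
              (hort he₀M he₀0 he₀ (hXM hw.1) hw0 hw.2).2 (hXe hw.1)⟩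
        | zero => exact ⟨M.zero_mem, by rw [hφzero, polar_zero_right], by rw [hφzero, polar_zero_right]⟩
        | add x y _ _ hx hy => exact ⟨M.add_mem hx.1 hy.1,
            by rw [hφadd _ hx.1 _ hy.1, polar_add_right, hx.2.1, hy.2.1, add_zero],
            by rw [hφadd _ hx.1 _ hy.1, polar_add_right, hx.2.2, hy.2.2, add_zero]⟩
        | smul a x _ hx => exact ⟨M.smul_mem a hx.1, by rw [hsemi x hx.1, polar_smul_r', hx.2.1, mul_zero],
            by rw [hsemi x hx.1, polar_smul_r', hx.2.2, mul_zero]⟩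
      exact fun z hz => (key z (mem_span_sing hd₁X he₁X hd₁ he₁ hde₁ hz)).2
    have hφed : polar Q (φ e₀) (φ d₀) = c := by rw [polar_comm]
    have hcomb : ∀ (a b : F) (z : V), z ∈ X →
        Q (φ (z + a • d₀ + b • e₀)) = Q (φ z) + σ a * σ b * c := by
      intro a b z hz
      obtain ⟨h1, h2⟩ := hperp0 z hz
      rw [hφadd _ (M.add_mem (hXM hz) (M.smul_mem a hd₀M)) _ (M.smul_mem b he₀M),
        hφadd _ (hXM hz) _ (M.smul_mem a hd₀M), hsemi d₀ hd₀M, hsemi e₀ he₀M]
      simp only [quad_add', quad_smul', polar_add_left, polar_smul_l', polar_smul_r', hφd, hφe, polar_comm _ (φ z) (φ d₀),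
        polar_comm _ (φ z) (φ e₀), h1, h2, ← hc]
      ring
    have hQX : ∀ z ∈ X, Q (φ z) = c * σ (Q z) := by
      intro z hz
      have hw0 : Q (z + (1 : F) • d₀ + (-Q z) • e₀) = 0 := by
        simp only [quad_add', quad_smul', polar_add_left, polar_smul_l', polar_smul_r', hd₀, he₀, hde,
          polar_comm _ z d₀, polar_comm _ z e₀, hXd hz, hXe hz]
        ring
      have hwM : z + (1 : F) • d₀ + (-Q z) • e₀ ∈ M :=
        M.add_mem (M.add_mem (hXM hz) (M.smul_mem _ hd₀M)) (M.smul_mem _ he₀M)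
      have hq : Q (φ (z + (1 : F) • d₀ + (-Q z) • e₀)) = 0 := by
        by_cases h0 : z + (1 : F) • d₀ + (-Q z) • e₀ = 0
        · rw [h0, hφzero, map_zero]
        · exact (hline hwM h0 hw0).2.1
      rw [hcomb 1 (-Q z) z hz, map_one, map_neg] at hq
      linear_combination hq
    intro x hx
    set z := x - polar Q e₀ x • d₀ - polar Q d₀ x • e₀ with hz
    have hxz : x = z + polar Q e₀ x • d₀ + polar Q d₀ x • e₀ := by rw [hz]; abel
    have hzX : z ∈ X := hproj hx
    have hQx : Q x = Q z + polar Q e₀ x * polar Q d₀ x := by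
      conv_lhs => rw [hxz]
      simp only [quad_add', quad_smul', polar_add_left, polar_smul_l', polar_smul_r', hd₀, he₀, hde,
        polar_comm _ z d₀, polar_comm _ z e₀, hXd hzX, hXe hzX]
      ring
    conv_lhs => rw [hxz, hcomb _ _ z hzX, hQX z hzX]
    rw [hQx, map_add, map_mul]
    ring
  -- the semisimilitude
  let T : V → V := fun x => (σ (polar Q s x) * c) • r + σ (polar Q r x) • s + φ (pr x)
  have hpradd : ∀ x y, pr (x + y) = pr x + pr y := fun x y => by
    simp only [pr, polar_add_right]; module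
  have hprsmul : ∀ (a : F) x, pr (a • x) = a • pr x := fun a x => by
    simp only [pr, polar_smul_r']; module
  have hTadd : ∀ x y, T (x + y) = T x + T y := fun x y => by
    simp only [T, polar_add_right, map_add, hpradd, hφadd _ (hpr x) _ (hpr y)]; module
  have hTsmul : ∀ (a : F) x, T (a • x) = σ a • T x := fun a x => by
    simp only [T, polar_smul_r', map_mul, hprsmul, hsemi _ (hpr x) a]; module
  have hexpand : ∀ x, x = polar Q s x • r + polar Q r x • s + pr x := fun x => by simp only [pr]; abel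
  have hQxp : ∀ (a b : F) (z : V), z ∈ M → Q (a • r + b • s + z) = a * b + Q z := fun a b z hz => by
    simp only [quad_add', quad_smul', polar_add_left, polar_smul_l', polar_smul_r', hr, hs, hrs, hMr hz, hMs hz]
    ring
  have hQT : ∀ x, Q (T x) = c * σ (Q x) := by
    intro x
    conv_rhs => rw [hexpand x, hQxp _ _ _ (hpr x), map_add, map_mul]
    show Q ((σ (polar Q s x) * c) • r + σ (polar Q r x) • s + φ (pr x)) = _
    rw [hQxp _ _ _ (hφM _), hQφ _ (hpr x)]
    ring
  have hTr : T r = c • r := by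
    have : pr r = 0 := by simp only [pr, hsr, hrr]; module
    simp only [T, hsr, hrr, map_one, map_zero, this, hφzero]; module
  have hTpolar : ∀ x y, polar Q (T x) (T y) = c * σ (polar Q x y) := fun x y => by
    simp only [polar, ← hTadd, hQT, map_sub]; ring
  -- the points off the orthogonal space of `r`
  have hoff : ∀ u ∈ M, ∀ (h1 : s + u + (-Q u) • r ≠ 0) (h2 : Q (s + u + (-Q u) • r) = 0)
      (h1' : T (s + u + (-Q u) • r) ≠ 0) (h2' : Q (T (s + u + (-Q u) • r)) = 0),
      f (pt Q h1 h2) = pt Q h1' h2' := by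
    intro u hu h1 h2 h1' h2'
    have himg : ∀ w ∈ M, (sg Q r w).1.1 s = s + w + (-Q w) • r := by
      intro w hw
      rw [sg_apply hr (hMr hw), hrs, polar_comm _ w s, hMs hw]
      module
    have e : pt Q h1 h2 = EE Q r u • pt Q hs0 hs := by
      rw [EE, pg_smul, smul_pt]
      exact pt_eq_iff.2 ⟨1, by rw [one_smul, himg u hu]⟩
    rw [e, hf.equiv, hfS, hφ u hu, EE, pg_smul, smul_pt]
    refine pt_eq_iff.2 ⟨1, ?_⟩
    rw [one_smul, himg _ (hφM u)]
    have hp1 : pr (s + u + (-Q u) • r) = u := by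
      simp only [pr, polar_add_right, polar_smul_r', hrs, hsr, hrr, hss, hMr hu, hMs hu]; module
    simp only [T, hp1, polar_add_right, polar_smul_r', hrs, hsr, hrr, hss, hMr hu, hMs hu, hQφ u hu]
    simp
    module
  refine ⟨T, σ, c, hc0, hTadd, hTsmul, hQT, ?_⟩
  intro v hv hv0 hv' hv'0
  by_cases hrv : polar Q r v = 0
  · -- orthogonal to `r`
    have hprv : v = polar Q s v • r + pr v := by
      conv_lhs => rw [hexpand v, hrv, zero_smul, add_zero]
    by_cases hp0 : pr v = 0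
    · have hv2 : v = polar Q s v • r := by rw [hp0, add_zero] at hprv; exact hprv
      have ha : polar Q s v ≠ 0 := fun h => hv (by rw [hv2, h, zero_smul])
      have e : pt Q hv hv0 = pt Q hr0 hr := pt_eq_iff.2 ⟨_, hv2.symm⟩
      rw [e, hfP]
      refine pt_eq_iff.2 ⟨(σ (polar Q s v) * c)⁻¹, ?_⟩
      have hTv : T v = (σ (polar Q s v) * c) • r := by
        conv_lhs => rw [hv2, hTsmul, hTr, smul_smul]
      rw [hTv, smul_smul, inv_mul_cancel₀ (mul_ne_zero ((map_ne_zero σ).2 ha) hc0), one_smul]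
    obtain ⟨w, hw0, hw, hfw⟩ := singPt_surjective (f (pt Q hv hv0))
    have hrw : polar Q r w = 0 := by
      rw [← ort_pt hr0 hr hw0 hw]
      show Ort (pt Q hr0 hr) (singPt Q hw0 hw)
      rw [← hfw, ← hfP, hf.ort, ort_pt]
      exact hrv
    have hprw : w = polar Q s w • r + pr w := by
      conv_lhs => rw [hexpand w, hrw, zero_smul, add_zero]
    have hpw0 : pr w ≠ 0 := by
      intro h
      rw [h, add_zero] at hprw
      have : f (pt Q hv hv0) = f (pt Q hr0 hr) := by
        rw [hfw, hfP]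
        exact pt_eq_iff.2 ⟨_, hprw.symm⟩
      obtain ⟨a, ha⟩ := pt_eq_iff.1 (f.injective this)
      apply hp0
      simp only [pr, ← ha, polar_smul_r', hsr, hrr]
      module
    have hTv : T v = (σ (polar Q s v) * c) • r + φ (pr v) := by
      simp only [T, hrv, map_zero, zero_smul, add_zero]
    obtain ⟨l, hl0, hl1, hl2⟩ := prop_of_pattern hMnd (hφM (pr v)) (hpr w) (hφne (hpr v) hp0) hpw0
      (a₁ := σ (polar Q s v) * c) (a₂ := polar Q s w) (fun u' hu' h => by
        obtain ⟨u, hu, rfl⟩ := hφsurj u' hu'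
        have h1 : s + u + (-Q u) • r ≠ 0 := fun h0 => by
          have := congrArg (polar Q r) h0
          rw [polar_add_right, polar_add_right, polar_smul_r', hrs, hMr hu, hrr, polar_zero_right] at this
          simp at this
        have h2 : Q (s + u + (-Q u) • r) = 0 := by
          have := hQxp (-Q u) 1 u hu
          rw [show s + u + (-Q u) • r = (-Q u) • r + (1 : F) • s + u by module, this]; ring
        have hTx : T (s + u + (-Q u) • r) = (-(c * σ (Q u))) • r + (1 : F) • s + φ u := by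
          have hp1 : pr (s + u + (-Q u) • r) = u := by
            simp only [pr, polar_add_right, polar_smul_r', hrs, hsr, hrr, hss, hMr hu, hMs hu]; module
          simp only [T, hp1, polar_add_right, polar_smul_r', hrs, hsr, hrr, hss, hMr hu, hMs hu]
          simp
          module
        have h1' : T (s + u + (-Q u) • r) ≠ 0 := fun h0 => by
          have := congrArg (polar Q r) h0
          rw [hTx, polar_add_right, polar_add_right, polar_smul_r', polar_smul_r', hrs, hrr, hMr (hφM u),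
            polar_zero_right] at this
          simp at this
        have h2' : Q (T (s + u + (-Q u) • r)) = 0 := by rw [hQT, h2, map_zero, mul_zero]
        have key : polar Q (T v) (T (s + u + (-Q u) • r)) = 0 := by
          rw [hTv, hTx]
          simp only [polar_add_left, polar_add_right, polar_smul_l', polar_smul_r', hrr, hrs, hMr (hφM u),
            polar_comm _ (φ (pr v)) r, polar_comm _ (φ (pr v)) s, hMr (hφM (pr v)), hMs (hφM (pr v))]
          linear_combination h
        have hv_u : polar Q v (s + u + (-Q u) • r) = 0 := by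
          rw [hTpolar] at key
          exact (map_eq_zero σ).1 ((mul_eq_zero.1 key).resolve_left hc0)
        have hort' := (hf.ort (pt Q hv hv0) (pt Q h1 h2)).2 ((ort_pt hv hv0 h1 h2).2 hv_u)
        rw [hfw, hoff u hu h1 h2 h1' h2'] at hort'
        have hw_u : polar Q w (T (s + u + (-Q u) • r)) = 0 := (ort_pt hw0 hw h1' h2').1 hort'
        rw [hTx, hprw] at hw_u
        simp only [polar_add_left, polar_add_right, polar_smul_l', polar_smul_r', hrr, hrs, hMr (hφM u),
          polar_comm _ (pr w) r, polar_comm _ (pr w) s, hMr (hpr w), hMs (hpr w)] at hw_u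
        linear_combination hw_u)
    rw [hfw]
    refine pt_eq_iff.2 ⟨l, ?_⟩
    rw [hTv, smul_add, smul_smul, ← hl1, ← hl2, ← hprw]
  · -- not orthogonal to `r`
    set b := polar Q r v with hb
    set u := b⁻¹ • pr v with hu
    have huM : u ∈ M := M.smul_mem _ (hpr v)
    have hvu : s + u + (-Q u) • r = b⁻¹ • v := by
      have h := hv0
      rw [hexpand v, hQxp _ _ _ (hpr v), ← hb] at h
      have hq : -Q u = b⁻¹ * polar Q s v := by
        rw [hu, quad_smul']
        field_simp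
        linear_combination -h
      rw [hq, hu]
      conv_rhs => rw [hexpand v, ← hb]
      rw [smul_add, smul_add, smul_smul, smul_smul, inv_mul_cancel₀ hrv, one_smul]
      abel
    have h1 : s + u + (-Q u) • r ≠ 0 := by rw [hvu]; exact smul_ne_zero (inv_ne_zero hrv) hv
    have h2 : Q (s + u + (-Q u) • r) = 0 := by rw [hvu, quad_smul', hv0, mul_zero]
    have h1' : T (s + u + (-Q u) • r) ≠ 0 := by
      rw [hvu, hTsmul]; exact smul_ne_zero ((map_ne_zero σ).2 (inv_ne_zero hrv)) hv'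
    have h2' : Q (T (s + u + (-Q u) • r)) = 0 := by rw [hQT, h2, map_zero, mul_zero]
    have e : pt Q hv hv0 = pt Q h1 h2 :=
      pt_eq_iff.2 ⟨b, by rw [hvu, smul_smul, mul_inv_cancel₀ hrv, one_smul]⟩
    rw [e, hoff u huM h1 h2 h1' h2']
    exact pt_eq_iff.2 ⟨σ b⁻¹, by rw [hvu, hTsmul]⟩

/-- Every automorphism is conjugation by a semisimilitude. -/
theorem exists_semisimilitude [hQ8 : OCtx Q] (α : MulAut (PG Q)) :
    ∃ (T : V → V) (σ : F ≃+* F) (c : F), c ≠ 0 ∧ (∀ x y, T (x + y) = T x + T y) ∧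
      (∀ (a : F) x, T (a • x) = σ a • T x) ∧ (∀ x, Q (T x) = c * σ (Q x)) ∧
      ∀ g g' : Om Q, (∀ v, g'.1.1 (T v) = T (g.1.1 v)) → α (QuotientGroup.mk g) = QuotientGroup.mk g' := by
  obtain ⟨hp⟩ := hyp (Q := Q)
  have hf0 : hp.f₀ ≠ 0 := fun h => by simpa [h] using hp.h00
  set P := pt Q hp.e₀_ne_zero hp.he₀
  set S := pt Q hf0 hp.hf₀
  have hPS : ¬ Ort P S := by rw [ort_pt, hp.h00]; exact one_ne_zero
  obtain ⟨f, hf⟩ := exists_ptMap α
  obtain ⟨y₀, hy₀⟩ := exists_smul_eq (PG Q) (f P) P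
  have hort₀ : ∀ (y : PG Q) (A B : SingPts Q), Ort (y • A) (y • B) ↔ Ort A B := by
    intro y A B
    obtain ⟨g, rfl⟩ := QuotientGroup.mk_surjective y
    rw [pg_smul, pg_smul, pt_rep A, pt_rep B, smul_pt, smul_pt, ort_pt, ort_pt, polar_isom]
  obtain ⟨u, hu, hue⟩ := rad_transitive (P := P) (R := y₀ • f S) (R' := S) (by
    rw [← hy₀, hort₀, hf.ort]; exact hPS) hPS
  obtain ⟨yy, hyy⟩ := QuotientGroup.mk_surjective (u * y₀)
  set y := u * y₀ with hy
  let α' : MulAut (PG Q) := MulAut.conj y * α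
  let f' : SingPts Q ≃ SingPts Q := f.trans (MulAction.toPerm y)
  have hf' : IsPtMap α' f' := by
    refine ⟨fun x A => ?_, fun A => ?_⟩
    · show y • f (x • A) = (y * α x * y⁻¹) • y • f A
      rw [hf.equiv, mul_smul (y * α x) y⁻¹, inv_smul_smul, mul_smul, hy, mul_smul, mul_smul]
    · show _ = rad (y • f A)
      rw [← map_conj_rad, ← hf.rad_map, Subgroup.map_map]
      rfl
  have hf'P : f' P = P := by
    show (u * y₀) • f P = P
    rw [mul_smul, hy₀]
    exact mem_stabilizer_iff.1 (rad_le_stab P hu)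
  have hf'S : f' S = S := by
    show (u * y₀) • f S = S
    rw [mul_smul, hue]
  obtain ⟨T, σ, c, hc, hadd, hsmul, hQT, hpt⟩ := pinned α' hf' hp.e₀_ne_zero hp.he₀ hf0 hp.hf₀ hp.h00 hf'P hf'S
  refine ⟨fun v => yy⁻¹.1.1 (T v), σ, c, hc, fun a b => by simp only [hadd, map_add],
    fun a b => by simp only [hsmul, map_smul], fun v => by simp only [apply_quad, hQT], fun g g' h => ?_⟩
  have hTinj : ∀ v, T v = 0 → v = 0 := by
    intro v hv
    refine eq_zero_of_polar hQ.nd fun w => ?_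
    have : polar Q (T v) (T w) = c * σ (polar Q v w) := by
      simp only [polar, ← hadd, hQT, map_sub]; ring
    rw [hv, polar_zero_left] at this
    exact (map_eq_zero σ).1 ((mul_eq_zero.1 this.symm).resolve_left hc)
  have hconj : α' (QuotientGroup.mk g) = QuotientGroup.mk (yy * g' * yy⁻¹) := by
    refine pg_ext fun R => ?_
    obtain ⟨R₀, rfl⟩ := f'.surjective R
    obtain ⟨v, hv, hv0, rfl⟩ := singPt_surjective R₀
    have hgv : g.1.1 v ≠ 0 := by simpa using hv
    have hgv0 : Q (g.1.1 v) = 0 := (apply_quad g.1 v).trans hv0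
    have hTv : T v ≠ 0 := fun e => hv (hTinj v e)
    have hTgv : T (g.1.1 v) ≠ 0 := fun e => hgv (hTinj _ e)
    have hTv0 : Q (T v) = 0 := by rw [hQT, hv0, map_zero, mul_zero]
    have hTgv0 : Q (T (g.1.1 v)) = 0 := by rw [hQT, hgv0, map_zero, mul_zero]
    rw [← hf'.equiv, pg_smul, smul_pt, hpt _ hgv hgv0 hTgv hTgv0, hpt _ hv hv0 hTv hTv0, pg_smul, smul_pt]
    refine pt_eq_iff.2 ⟨1, ?_⟩
    rw [one_smul]
    show yy.1.1 (g'.1.1 (yy⁻¹.1.1 (T v))) = T (g.1.1 v)
    rw [h v]
    exact yy.1.1.apply_symm_apply _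
  change y * α (QuotientGroup.mk g) * y⁻¹ = _ at hconj
  rw [QuotientGroup.mk_mul, QuotientGroup.mk_mul, QuotientGroup.mk_inv, hyy] at hconj
  exact mul_left_cancel (mul_right_cancel hconj)

end CfsgLib.KnownC.AutPOmega
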