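import Cfsg.Agent.Lib.KnownC.AutPOmega.Swap
import Mathlib.LinearAlgebra.Projectivization.Cardinality

/-!
# Automorphisms carry stabilisers of singular points to stabilisers of singular points

The image of a point stabiliser fixes a totally singular subspace; the stabiliser of a point has two orbits on the other
points, and its Siegel group is transitive on the non-orthogonal ones, which forces the subspace to be a point.
-/

set_option autoImplicit false
set_option linter.unusedSectionVars false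
set_option linter.style.haveILetI false

open Module QuadraticMap MulAction
open scoped LinearAlgebra.Projectivization

namespace CfsgLib.KnownC.AutPOmega

open CfsgLib.Orth CfsgLib.Classical

variable {F : Type*} [Field F] {V : Type*} [AddCommGroup V] [Module F V] {Q : QuadraticForm F V}

variable [FiniteDimensional F V] [hQ : OCtx0 Q]
include hQ

/-- The Siegel group is transitive on the non-orthogonal points. -/
theorem rad_transitive {P R R' : SingPts Q} (h : ¬ Ort P R) (h' : ¬ Ort P R') : ∃ x ∈ rad P, x • R = R' := by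
  rw [pt_rep P, pt_rep R, ort_pt] at h
  rw [pt_rep P, pt_rep R', ort_pt] at h'
  set r := P.1.rep
  set s := (polar Q r R.1.rep)⁻¹ • R.1.rep with hs
  set s' := (polar Q r R'.1.rep)⁻¹ • R'.1.rep with hs'
  have hrs : polar Q r s = 1 := by rw [hs, polar_smul_r', inv_mul_cancel₀ h]
  have hrs' : polar Q r s' = 1 := by rw [hs', polar_smul_r', inv_mul_cancel₀ h']
  have hQs : Q s = 0 := by rw [hs, quad_smul', R.2, mul_zero]
  have hQs' : Q s' = 0 := by rw [hs', quad_smul', R'.2, mul_zero]
  have hu : polar Q r (s' - s) = 0 := by rw [polar_sub_right, hrs, hrs', sub_self]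
  have hmap : (sg Q r (s' - s)).1.1 s = s' := by
    rw [sg_apply P.2 hu, hrs]
    have e1 : polar Q (s' - s) s = polar Q s' s := by rw [polar_sub_left, polar_self', hQs]; ring
    have e2 : Q (s' - s) = -polar Q s' s := by
      rw [sub_eq_add_neg, quad_add', QuadraticMap.map_neg, polar_neg_right, hQs, hQs']; ring
    rw [e1, e2]
    module
  refine ⟨EE Q r (s' - s), ?_, ?_⟩
  · rw [pt_rep P]
    exact (mem_rad _ _).2 ⟨_, hu, rfl⟩
  · rw [pt_rep R, pt_rep R', EE, pg_smul, smul_pt]
    refine pt_eq_iff.2 ⟨polar Q r R.1.rep * (polar Q r R'.1.rep)⁻¹, ?_⟩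
    have e : R.1.rep = polar Q r R.1.rep • s := by rw [hs, smul_smul, mul_inv_cancel₀ h, one_smul]
    rw [mul_smul, ← hs']
    conv_rhs => rw [e, map_smul, hmap]

theorem notMem_span_of_ne {P R : SingPts Q} (h : R ≠ P) : R.1.rep ∉ F ∙ P.1.rep := fun hm => h (by
  obtain ⟨a, ha⟩ := Submodule.mem_span_singleton.1 hm
  rw [pt_rep R, pt_rep P]
  exact pt_eq_iff.2 ⟨a, ha⟩)

/-- The point stabiliser is transitive on the other orthogonal points. -/
theorem stab_orth_transitive {P R R' : SingPts Q} (h : Ort P R) (h' : Ort P R') (hne : R ≠ P) (hne' : R' ≠ P) :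
    ∃ x ∈ stabilizer (PG Q) P, x • R = R' := by
  obtain ⟨hp⟩ := hyp (Q := Q)
  obtain ⟨r, hr, hPr, hRr, hR'r⟩ := exists_common hQ.nd (five_le (Q := Q)) P.2 R.2 R'.2 h h' (notMem_span_of_ne hne)
    (notMem_span_of_ne hne')
  obtain ⟨g, hg, -, hmove, hfix⟩ := exists_move hQ.nd (good (Q := Q)) hp (five_le (Q := Q)) hr R.2 R'.2
    (by rw [polar_comm]; exact hRr) (by rw [polar_comm]; exact hR'r)
  have hP : g.1 P.1.rep = P.1.rep := hfix _ (by rw [polar_comm]; exact hPr) (by rw [polar_comm]; exact h)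
    (by rw [polar_comm]; exact h')
  refine ⟨QuotientGroup.mk (⟨g, hg⟩ : Om Q), ?_, ?_⟩
  · rw [mem_stabilizer_iff, pg_smul, pt_rep P, smul_pt]
    exact pt_eq_iff.2 ⟨1, by rw [one_smul]; exact hP.symm⟩
  · rw [pg_smul, pt_rep R, pt_rep R', smul_pt]
    exact pt_eq_iff.2 ⟨_, hmove.symm⟩

theorem exists_nonorth (P : SingPts Q) : ∃ R : SingPts Q, ¬ Ort P R := by
  obtain ⟨s, hs, hrs⟩ := exists_partner (Q := Q) P.1.rep_nonzero P.2
  have hs0 : s ≠ 0 := fun h => by simp [h] at hrs
  refine ⟨pt Q hs0 hs, ?_⟩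
  rw [pt_rep P, ort_pt, hrs]
  exact one_ne_zero

theorem nontrivial_pts : Nontrivial (SingPts Q) := by
  obtain ⟨hp⟩ := hyp (Q := Q)
  obtain ⟨R, hR⟩ := exists_nonorth (pt Q hp.e₀_ne_zero hp.he₀)
  refine ⟨⟨pt Q hp.e₀_ne_zero hp.he₀, R, fun h => hR ?_⟩⟩
  rw [← h, ort_pt, polar_self', hp.he₀, mul_zero]

theorem isCoatom_stab (P : SingPts Q) : IsCoatom (stabilizer (PG Q) P) := by
  haveI := nontrivial_pts (Q := Q)
  haveI := isPreprimitive (Q := Q)
  exact (isCoatom_stabilizer_iff_preprimitive (PG Q) P).2 inferInstance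

/-- The stabiliser of a subspace in `Ω(Q)`. -/
def stOm (W : Submodule F V) : Subgroup (Om Q) := (stab (Q := Q) W).subgroupOf (commutator (orthGroup Q))

/-- The stabiliser of a subspace in `PΩ(Q)`. -/
def stW (W : Submodule F V) : Subgroup (PG Q) := (stOm (Q := Q) W).map (QuotientGroup.mk' _)

theorem img_center {z : Om Q} (hz : z ∈ Subgroup.center (Om Q)) (W : Submodule F V) : img z.1 W = W := by
  obtain ⟨c, -, hc⟩ := center_scalar hz
  exact mem_stab_of_le fun u hu => by rw [hc]; exact W.smul_mem _ hu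

theorem img_of_mk_eq {g g' : Om Q} (h : (QuotientGroup.mk g : PG Q) = QuotientGroup.mk g') (W : Submodule F V) :
    img g.1 W = img g'.1 W := by
  have hz := QuotientGroup.eq.1 h
  conv_rhs => rw [show g'.1 = g.1 * (g⁻¹ * g').1 by simp]
  rw [img_mul, img_center hz]

theorem mk_mem_stW {W : Submodule F V} {g : Om Q} : (QuotientGroup.mk g : PG Q) ∈ stW (Q := Q) W ↔ img g.1 W = W := by
  constructor
  · rintro ⟨g', hg', e⟩
    rw [← img_of_mk_eq e]
    exact hg'
  · intro h
    exact ⟨g, h, rfl⟩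

theorem stW_span {v : V} (hv : v ≠ 0) (h0 : Q v = 0) : stW (Q := Q) (F ∙ v) = stabilizer (PG Q) (pt Q hv h0) := by
  ext x
  obtain ⟨g, rfl⟩ := QuotientGroup.mk_surjective x
  rw [mk_mem_stW, mem_stabilizer_iff, pg_smul, smul_pt, pt_eq_iff, AutPOmega.img, Submodule.map_span,
    Set.image_singleton]
  show Submodule.span F {g.1.1 v} = _ ↔ _
  refine ⟨fun h => ?_, fun ⟨a, ha⟩ => ?_⟩
  · exact Submodule.mem_span_singleton.1 (h ▸ Submodule.mem_span_singleton_self _)
  · rw [← ha]
    refine Submodule.span_singleton_smul_eq (isUnit_iff_ne_zero.2 fun h => ?_) v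
    rw [h, zero_smul] at ha
    exact hv (g.1.1.injective (ha.symm.trans (map_zero _).symm))

/-- Elements of order dividing the characteristic lift to elements of that order. -/
theorem exists_lift {x : PG Q} {p : ℕ} [Fact p.Prime] [CharP F p] (hx : x ^ p = 1) :
    ∃ g : Om Q, QuotientGroup.mk g = x ∧ g ^ p = 1 := by
  obtain ⟨g, rfl⟩ := QuotientGroup.mk_surjective x
  have hz : g ^ p ∈ Subgroup.center (Om Q) := by
    rw [← QuotientGroup.eq_one_iff, QuotientGroup.mk_pow, hx]
  obtain ⟨c, hc1, hc⟩ := center_scalar hz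
  by_cases hc0 : g ^ p = 1
  · exact ⟨g, rfl, hc0⟩
  have hodd : Odd p := by
    refine (Fact.out (p := p.Prime)).odd_of_ne_two fun h2 => hc0 ?_
    subst h2
    haveI : CharP F 2 := inferInstance
    have : c = 1 := by rcases hc1 with h | h <;> simp [h, CharTwo.neg_eq]
    exact Subtype.ext (Subtype.ext (LinearEquiv.ext fun v => by rw [hc, this, one_smul]; rfl))
  have hzz : g ^ p * g ^ p = 1 := Subtype.ext (Subtype.ext (LinearEquiv.ext fun v => by
    show (g ^ p).1.1 ((g ^ p).1.1 v) = v
    rw [hc, hc, smul_smul, show c * c = 1 by rcases hc1 with h | h <;> simp [h], one_smul]))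
  refine ⟨g ^ p * g, ?_, ?_⟩
  · rw [QuotientGroup.mk_mul, (QuotientGroup.eq_one_iff _).2 hz, one_mul]
  · rw [(Commute.pow_self g p).mul_pow]
    obtain ⟨k, rfl⟩ := hodd
    rw [pow_succ, pow_mul, pow_two, hzz, one_pow, one_mul, hzz]

/-- The image of a point stabiliser fixes a totally singular subspace, pointwise fixed by the image of the Siegel
group. -/
theorem exists_fixed_ts (α : MulAut (PG Q)) (P0 : SingPts Q) (p : ℕ) [Fact p.Prime] [CharP F p] :
    ∃ W : Submodule F V, W ≠ ⊥ ∧ TS Q W ∧ (stabilizer (PG Q) P0).map α.toMonoidHom ≤ stW (Q := Q) W ∧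
      ∀ g : Om Q, (∃ a ∈ rad P0, α a = QuotientGroup.mk g) → g ^ p = 1 → ∀ w ∈ W, g.1.1 w = w := by
  classical
  haveI := hQ.fin
  haveI := finite_vec (Q := Q)
  letI := Fintype.ofFinite F
  set A : Subgroup (PG Q) := (rad P0).map α.toMonoidHom with hA
  have hAc : ∀ x ∈ A, ∀ y ∈ A, x * y = y * x := by
    rintro _ ⟨x, hx, rfl⟩ _ ⟨y, hy, rfl⟩
    rw [← map_mul, ← map_mul, rad_comm hx hy]
  let S : Subgroup (Om Q) :=
    { carrier := {g | (QuotientGroup.mk g : PG Q) ∈ A ∧ g ^ p = 1}
      one_mem' := ⟨A.one_mem, one_pow p⟩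
      inv_mem' := fun {g} hg => ⟨by rw [QuotientGroup.mk_inv]; exact A.inv_mem hg.1, by rw [inv_pow, hg.2, inv_one]⟩
      mul_mem' := fun {g h} hg hh => by
        have hz : g * h * g⁻¹ * h⁻¹ ∈ Subgroup.center (Om Q) := by
          rw [← QuotientGroup.eq_one_iff]
          simp only [QuotientGroup.mk_mul, QuotientGroup.mk_inv]
          rw [hAc _ hg.1 _ hh.1]; group
        have hconj : (g * h * g⁻¹) ^ p = 1 := by
          rw [← MulAut.conj_apply, ← map_pow, hh.2, map_one]
        have h1 : g * h * g⁻¹ * h⁻¹ = 1 := by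
          refine center_pow_eq_one hz (p := p) ?_
          have hcomm : Commute (g * h * g⁻¹ * h⁻¹) h := (Subgroup.mem_center_iff.1 hz h).symm
          have e : (g * h * g⁻¹ * h⁻¹ * h) ^ p = (g * h * g⁻¹ * h⁻¹) ^ p * h ^ p := hcomm.mul_pow p
          rw [hh.2, mul_one, inv_mul_cancel_right, hconj] at e
          exact e.symm
        have hcm : Commute g h := by
          show g * h = h * g
          rw [mul_inv_eq_one] at h1
          conv_rhs => rw [← h1]
          group
        exact ⟨by rw [QuotientGroup.mk_mul]; exact A.mul_mem hg.1 hh.1, by rw [hcm.mul_pow, hg.2, hh.2, one_mul]⟩ }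
  have hS : IsPGroup p S := fun g => ⟨1, Subtype.ext (by rw [pow_one, Subgroup.coe_pow]; exact g.2.2)⟩
  let C : Submodule F V := ⨅ g : S, LinearMap.ker (((g : Om Q).1.1 : V →ₗ[F] V) - LinearMap.id)
  have hC : ∀ x, x ∈ C ↔ ∀ g ∈ S, g.1.1 x = x := fun x => by
    simp [C, Submodule.mem_iInf, LinearMap.mem_ker, sub_eq_zero]
  set D := C ⊓ perp Q C with hD
  have hDne : D ≠ ⊥ := by
    intro hbot
    have hperp : perp Q C ≠ ⊥ := by
      intro h
      have hCtop : C = ⊤ := by
        refine Submodule.eq_top_of_finrank_eq ?_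
        have := perp_finrank (Q := Q) C
        rw [h, finrank_bot] at this
        have := Submodule.finrank_le C
        omega
      obtain ⟨y, hy, hy1⟩ := exists_rad_ne_one P0
      obtain ⟨g, hg, hgp⟩ := exists_lift (x := α y) (by rw [← map_pow, rad_pow_char p hy, map_one])
      have hgS : g ∈ S := ⟨hg.symm ▸ ⟨y, hy, rfl⟩, hgp⟩
      have hg1 : g = 1 :=
        Subtype.ext (Subtype.ext (LinearEquiv.ext fun x => (hC x).1 (hCtop ▸ Submodule.mem_top) g hgS))
      rw [hg1, QuotientGroup.mk_one] at hg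
      exact hy1 (α.injective (by rw [map_one]; exact hg.symm))
    have hinv : ∀ g ∈ S, ∀ x ∈ perp Q C, g.1.1 x ∈ perp Q C := fun g hg x hx w hw => by
      show polar Q w (g.1.1 x) = 0
      rw [← (hC w).1 hw g hg, polar_isom]
      exact hx w hw
    let act : MulAction S (perp Q C) :=
      { smul := fun g x => ⟨(g : Om Q).1.1 (x : V), hinv g g.2 x x.2⟩
        one_smul := fun x => Subtype.ext rfl
        mul_smul := fun g h x => Subtype.ext rfl }
    have hdvd : p ∣ Nat.card (perp Q C) := by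
      rw [Module.natCard_eq_pow_finrank (K := F) (V := perp Q C)]
      obtain ⟨f, -, hf⟩ := FiniteField.card F p
      refine dvd_pow ?_ (fun h0 => hperp (Submodule.finrank_eq_zero.1 h0))
      rw [Nat.card_eq_fintype_card, hf]
      exact dvd_pow_self p f.ne_zero
    have h0 : (0 : perp Q C) ∈ fixedPoints S (perp Q C) := fun g => Subtype.ext (map_zero (g : Om Q).1.1)
    obtain ⟨x, hx, hx0⟩ := hS.exists_fixed_point_of_prime_dvd_card_of_fixed_point (perp Q C) hdvd h0
    have hxC : (x : V) ∈ C := (hC _).2 fun g hg => congrArg Subtype.val (hx ⟨g, hg⟩)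
    exact hx0 (Subtype.ext ((Submodule.mem_bot F).1 (hbot ▸ ⟨hxC, x.2⟩)).symm)
  have hDperp : ∀ x ∈ D, ∀ y ∈ D, polar Q x y = 0 := fun x hx y hy => hy.2 x hx.1
  -- the stabiliser of the point preserves `D` and its singular vectors
  have hstab : ∀ y ∈ stabilizer (PG Q) P0, ∀ t : Om Q, QuotientGroup.mk t = α y → ∀ x ∈ D, t.1.1 x ∈ D := by
    intro y hy t ht
    have hnorm : ∀ g ∈ S, t⁻¹ * g * t ∈ S := by
      rintro g ⟨⟨a, ha, hga⟩, hg⟩
      refine ⟨⟨y⁻¹ * a * y, ?_, ?_⟩, ?_⟩
      · have := conj_rad_mem y⁻¹ P0 ha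
        rwa [inv_inv, mem_stabilizer_iff.1 (inv_mem hy)] at this
      · change α (y⁻¹ * a * y) = _
        change α a = _ at hga
        rw [map_mul, map_mul, map_inv, hga, ← ht]; rfl
      · have e : (MulAut.conj t⁻¹ g) ^ p = 1 := by rw [← map_pow, hg, map_one]
        rwa [MulAut.conj_apply, inv_inv] at e
    have hmap : ∀ x ∈ C, t.1.1 x ∈ C := fun x hx => (hC _).2 fun g hg => by
      have h2 := (hC x).1 hx _ (hnorm g hg)
      have h3 := congrArg t.1.1 h2
      change t.1.1 ((t⁻¹ : Om Q).1.1 (g.1.1 (t.1.1 x))) = _ at h3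
      rwa [show ∀ v, t.1.1 ((t⁻¹ : Om Q).1.1 v) = v from t.1.1.apply_symm_apply] at h3
    have hCmap : img t.1 C = C := mem_stab_of_le hmap
    intro x hx
    refine ⟨hmap x hx.1, fun w hw => ?_⟩
    obtain ⟨w', hw', rfl⟩ := hCmap.ge hw
    exact (polar_isom t.1 w' x).trans (hx.2 w' hw')
  have hquad : ∀ x ∈ D, ∀ a : F, ∀ y ∈ D, Q (a • x + y) = a * a * Q x + Q y := fun x hx a y hy => by
    rw [quad_add', quad_smul', polar_smul_l', hDperp x hx y hy, mul_zero, add_zero]
  let W : Submodule F V :=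
    { carrier := {x | x ∈ D ∧ Q x = 0}
      zero_mem' := ⟨D.zero_mem, map_zero Q⟩
      add_mem' := fun {a b} ha hb => ⟨D.add_mem ha.1 hb.1, by
        have := hquad a ha.1 1 b hb.1
        rwa [one_smul, ha.2, hb.2, mul_zero, zero_add] at this⟩
      smul_mem' := fun c a ha => ⟨D.smul_mem _ ha.1, by rw [quad_smul', ha.2, mul_zero]⟩ }
  have hle : (stabilizer (PG Q) P0).map α.toMonoidHom ≤ stW (Q := Q) W ∧
      (stabilizer (PG Q) P0).map α.toMonoidHom ≤ stW (Q := Q) D := by
    constructor <;>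
    · rintro _ ⟨y, hy, rfl⟩
      obtain ⟨t, ht⟩ := QuotientGroup.mk_surjective (α y)
      show α y ∈ _
      rw [← ht, mk_mem_stW]
      refine mem_stab_of_le fun x hx => ?_
      first
      | exact ⟨hstab y hy t ht x hx.1, (apply_quad t.1 x).trans hx.2⟩
      | exact hstab y hy t ht x hx
  refine ⟨W, fun hW => ?_, fun w hw => hw.2, hle.1, fun g hg hgp w hw => ?_⟩
  swap
  · obtain ⟨a, ha, hag⟩ := hg
    exact (hC w).1 hw.1.1 g ⟨⟨a, ha, hag⟩, hgp⟩
  -- there would be as many non-singular points as singular ones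
  obtain ⟨d, hd, hd0⟩ := Submodule.exists_mem_ne_zero_of_ne_bot hDne
  have hQd : Q d ≠ 0 := fun h => hd0 ((Submodule.mem_bot F).1 (hW ▸ (⟨hd, h⟩ : d ∈ W)))
  have h2 : (2 : F) = 0 := by
    have := hDperp d hd d hd
    rw [polar_self', mul_eq_zero] at this
    exact this.resolve_right hQd
  haveI : CharP F 2 := CharTwo.of_one_ne_zero_of_two_eq_zero one_ne_zero h2
  have hDd : D = F ∙ d := by
    refine le_antisymm (fun x hx => ?_) ((Submodule.span_singleton_le_iff_mem _ _).2 hd)
    obtain ⟨s, hs⟩ := FiniteField.isSquare_of_char_two (ringChar.eq F 2) (Q x / Q d)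
    have hzero : Q (s • d + x) = 0 := by
      rw [hquad d hd s x hx, ← hs, div_mul_cancel₀ _ hQd, CharTwo.add_self_eq_zero]
    have hxW : s • d + x = 0 := (Submodule.mem_bot F).1 (hW ▸ (⟨D.add_mem (D.smul_mem _ hd) hx, hzero⟩ : _ ∈ W))
    exact Submodule.mem_span_singleton.2 ⟨-s, by rw [neg_smul]; exact (eq_neg_of_add_eq_zero_right hxW).symm⟩
  set K := (stabilizer (PG Q) P0).map α.toMonoidHom with hK
  let X : ℙ F V := Projectivization.mk F d hd0
  have horbit : orbit (Om Q) X = {p : ℙ F V | Q p.rep ≠ 0} := by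
    ext p
    constructor
    · rintro ⟨g, rfl⟩
      show Q (g.1 • X).rep ≠ 0
      rw [orth_smul_mk, Ne, sing_rep, apply_quad]
      exact hQd
    · intro hp
      obtain ⟨g, hg, t, ht, he⟩ := commutator_transitive_line hQ.nd (good (Q := Q)) hQd (hp : Q p.rep ≠ 0)
      refine ⟨⟨g, hg⟩, ?_⟩
      show g • X = p
      rw [orth_smul_mk]
      conv_rhs => rw [← Projectivization.mk_rep p]
      exact (Projectivization.mk_eq_mk_iff' _ _ _ _ _).2 ⟨t, he.symm⟩
  have hst : (stW (Q := Q) D).comap (QuotientGroup.mk' _) = stabilizer (Om Q) X := by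
    ext g
    rw [Subgroup.mem_comap, QuotientGroup.mk'_apply, mk_mem_stW, mem_stabilizer_iff]
    show _ ↔ g.1 • X = X
    rw [orth_smul_mk, Projectivization.mk_eq_mk_iff', hDd, AutPOmega.img, Submodule.map_span, Set.image_singleton]
    show Submodule.span F {g.1.1 d} = _ ↔ _
    refine ⟨fun h => Submodule.mem_span_singleton.1 (h ▸ Submodule.mem_span_singleton_self _), fun ⟨a, ha⟩ => ?_⟩
    rw [← ha]
    refine Submodule.span_singleton_smul_eq (isUnit_iff_ne_zero.2 fun h => hd0 ?_) d
    rw [h, zero_smul] at ha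
    exact g.1.1.injective (ha.symm.trans (map_zero _).symm)
  have hindex : (stW (Q := Q) D).index = ({p : ℙ F V | Q p.rep ≠ 0} : Set (ℙ F V)).ncard := by
    rw [← horbit, ← index_stabilizer, ← hst, Subgroup.index_comap_of_surjective _ (QuotientGroup.mk'_surjective _)]
  have hKi : K.index = Nat.card (SingPts Q) := by
    rw [hK, Subgroup.index_map_of_injective _ (show Function.Injective α.toMonoidHom from α.injective),
      MonoidHom.range_eq_top.2 (show Function.Surjective α.toMonoidHom from α.surjective), Subgroup.index_top,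
      mul_one, index_stabilizer_of_transitive]
  have hco : IsCoatom K := by
    have := isCoatom_stab P0
    refine ⟨fun h => this.1 ?_, fun L hL => ?_⟩
    · exact Subgroup.map_injective α.injective (h.trans (Subgroup.map_top_of_surjective _ α.surjective).symm)
    · have h1 : stabilizer (PG Q) P0 < L.comap α.toMonoidHom := by
        rw [← Subgroup.map_lt_map_iff_of_injective (f := α.toMonoidHom) α.injective,
          Subgroup.map_comap_eq_self_of_surjective α.surjective]
        exact hL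
      rw [← Subgroup.map_comap_eq_self_of_surjective (f := α.toMonoidHom) α.surjective L, this.2 _ h1,
        Subgroup.map_top_of_surjective _ α.surjective]
  have hcard : ({p : ℙ F V | Q p.rep ≠ 0} : Set (ℙ F V)).ncard + Nat.card (SingPts Q) = Nat.card (ℙ F V) := by
    rw [← Nat.card_coe_set_eq, ← Nat.card_sum]
    exact Nat.card_congr ((Equiv.sumComm _ _).trans (Equiv.sumCompl fun p : ℙ F V => Q p.rep = 0))
  have hne : ({p : ℙ F V | Q p.rep ≠ 0} : Set (ℙ F V)).ncard ≠ 1 := by
    intro h1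
    obtain ⟨q, hq⟩ := Set.ncard_eq_one.1 h1
    obtain ⟨hp⟩ := hyp (Q := Q)
    have hspan := hp.span_anisotropic
    have : Submodule.span F {v : V | Q v ≠ 0} ≤ F ∙ q.rep := by
      rw [Submodule.span_le]
      intro v hv
      have hv0 : v ≠ 0 := fun h => hv (by rw [h, map_zero])
      have hm : Projectivization.mk F v hv0 ∈ ({p : ℙ F V | Q p.rep ≠ 0} : Set (ℙ F V)) :=
        fun h => hv ((sing_rep hv0).1 h)
      rw [hq, Set.mem_singleton_iff, ← Projectivization.mk_rep q, Projectivization.mk_eq_mk_iff'] at hm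
      obtain ⟨a, ha⟩ := hm
      exact Submodule.mem_span_singleton.2 ⟨a, ha⟩
    rw [hspan, top_le_iff] at this
    have h3 := congrArg (fun U : Submodule F V => finrank F U) this
    simp only [finrank_top, finrank_span_singleton q.rep_nonzero] at h3
    have := hQ.seven
    omega
  rcases hle.2.eq_or_lt with he | hlt
  · rw [← he, hKi] at hindex
    have hodd : Odd (Nat.card (ℙ F V)) := by
      have h1 := Projectivization.card' (k := F) (V := V)
      obtain ⟨f, -, hf⟩ := FiniteField.card F 2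
      rw [Module.natCard_eq_pow_finrank (K := F) (V := V), Nat.card_eq_fintype_card (α := F), hf] at h1
      have h2' : Even (((2 : ℕ) ^ (f : ℕ)) ^ finrank F V) := by
        rw [← pow_mul]
        exact Nat.even_pow.2 ⟨even_two, Nat.mul_ne_zero f.ne_zero (by have := hQ.seven; omega)⟩
      rw [h1, Nat.even_add_one, Nat.even_mul, not_or] at h2'
      exact Nat.not_even_iff_odd.1 h2'.1
    rw [← hcard, ← hindex] at hodd
    exact Nat.not_odd_iff_even.2 ⟨_, rfl⟩ hodd
  · rw [hco.2 _ hlt, Subgroup.index_top] at hindex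
    exact hne hindex.symm

theorem isCoatom_map (α : MulAut (PG Q)) (P0 : SingPts Q) :
    IsCoatom ((stabilizer (PG Q) P0).map α.toMonoidHom) := by
  have := isCoatom_stab P0
  refine ⟨fun h => this.1 ?_, fun L hL => ?_⟩
  · exact Subgroup.map_injective α.injective (h.trans (Subgroup.map_top_of_surjective _ α.surjective).symm)
  · have h1 : stabilizer (PG Q) P0 < L.comap α.toMonoidHom := by
      rw [← Subgroup.map_lt_map_iff_of_injective (f := α.toMonoidHom) α.injective,
        Subgroup.map_comap_eq_self_of_surjective α.surjective]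
      exact hL
    rw [← Subgroup.map_comap_eq_self_of_surjective (f := α.toMonoidHom) α.surjective L, this.2 _ h1,
      Subgroup.map_top_of_surjective _ α.surjective]

theorem stW_ne_top {W : Submodule F V} (hW0 : W ≠ ⊥) (hW : TS Q W) : stW (Q := Q) W ≠ ⊤ := by
  intro h
  obtain ⟨e, he, he0⟩ := Submodule.exists_mem_ne_zero_of_ne_bot hW0
  obtain ⟨s, hs, hes⟩ := exists_partner (Q := Q) he0 (hW e he)
  have hs0 : s ≠ 0 := fun h' => by simp [h'] at hes
  obtain ⟨x, hx⟩ := exists_smul_eq (PG Q) (pt Q he0 (hW e he)) (pt Q hs0 hs)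
  obtain ⟨g, rfl⟩ := QuotientGroup.mk_surjective x
  rw [pg_smul, smul_pt, pt_eq_iff] at hx
  obtain ⟨a, ha⟩ := hx
  have hge : g.1.1 e ∈ W := (mk_mem_stW.1 (h ▸ Subgroup.mem_top _)).le (mem_img g.1 he)
  have := hW.polar he hge
  rw [← ha, polar_smul_r', hes, mul_one] at this
  rw [this, zero_smul] at ha
  exact he0 (g.1.1.injective (ha.symm.trans (map_zero _).symm))

/-- The stabiliser of a totally singular subspace is irreducible on it. -/
theorem stW_irreducible {W X : Submodule F V} (hW : TS Q W) (hX : X ≤ W)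
    (hinv : ∀ g : Om Q, img g.1 W = W → img g.1 X = X) : X = ⊥ ∨ X = W := by
  by_cases hb : X = ⊥
  · exact Or.inl hb
  refine Or.inr (le_antisymm hX ?_)
  obtain ⟨x, hx, hx0⟩ := Submodule.exists_mem_ne_zero_of_ne_bot hb
  intro d hd
  by_cases hdx : x ∈ F ∙ d
  · obtain ⟨a, ha⟩ := Submodule.mem_span_singleton.1 hdx
    have ha0 : a ≠ 0 := fun h => hx0 (by rw [← ha, h, zero_smul])
    rw [show d = a⁻¹ • x by rw [← ha, smul_smul, inv_mul_cancel₀ ha0, one_smul]]
    exact X.smul_mem _ hx
  obtain ⟨z, hz, hz1⟩ := exists_dual_zero (Q := Q) hdx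
  set u := z + (-Q z) • x with hu
  have hQx : Q x = 0 := hW x (hX hx)
  have hux : polar Q u x = 1 := by
    rw [hu, polar_add_left, polar_smul_l', polar_self', hQx, polar_comm _ z x, hz1]; ring
  have hdu : polar Q d u = 0 := by
    rw [hu, polar_add_right, polar_smul_r', hW.polar hd (hX hx), hz d (Submodule.mem_span_singleton_self d)]; ring
  have hgW : img (sg Q d u).1 W = W := mem_stab_of_le fun w hw => by
    rw [sg_apply (hW d hd) hdu, hW.polar hd hw, zero_smul, add_zero]
    exact W.add_mem hw (W.smul_mem _ hd)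
  have := (hinv _ hgW).le (mem_img (sg Q d u).1 hx)
  rw [sg_apply (hW d hd) hdu, hW.polar hd (hX hx), hux, zero_smul, add_zero, mul_zero, sub_zero, neg_smul,
    one_smul] at this
  simpa using X.sub_mem hx this

/-- Automorphisms carry point stabilisers to point stabilisers. -/
theorem exists_stab_image [hQ8 : OCtx Q] (α : MulAut (PG Q)) (P0 : SingPts Q) :
    ∃ Q0 : SingPts Q, (stabilizer (PG Q) P0).map α.toMonoidHom = stabilizer (PG Q) Q0 := by
  classical
  haveI := hQ.fin
  obtain ⟨p, _⟩ := CharP.exists F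
  haveI : Fact p.Prime := ⟨CharP.char_is_prime F p⟩
  obtain ⟨W, hW0, hW, hle, hfix⟩ := exists_fixed_ts α P0 p
  have heq : (stabilizer (PG Q) P0).map α.toMonoidHom = stW (Q := Q) W :=
    ((isCoatom_map α P0).le_iff_eq (stW_ne_top hW0 hW)).1 hle |>.symm
  have hk : finrank F W = 1 := by
    by_contra hk1
    have h2 : 2 ≤ finrank F W := by
      have := mt Submodule.finrank_eq_zero.1 hW0
      omega
    obtain ⟨g₁, g₂, h1, h2', hdiff⟩ := exists_two_positions hW h2
    have hW' : ∀ g : Om Q, W ⊓ img g.1 W ≠ W → α.symm (QuotientGroup.mk g) • P0 ≠ P0 := by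
      intro g hg h
      apply hg
      have : (QuotientGroup.mk g : PG Q) ∈ stW (Q := Q) W := heq ▸ ⟨_, h, α.apply_symm_apply _⟩
      rw [mk_mem_stW.1 this, inf_idem]
    have horth : ∀ g : Om Q, W ⊓ img g.1 W ≠ ⊥ → W ⊓ img g.1 W ≠ W → Ort P0 (α.symm (QuotientGroup.mk g) • P0) := by
      intro g hg0 hg1
      by_contra hno
      have hinv : ∀ h : Om Q, img h.1 W = W → img h.1 (W ⊓ img g.1 W) = W ⊓ img g.1 W := by
        intro h hh
        set x := α.symm (QuotientGroup.mk h) with hx
        have hxs : x ∈ stabilizer (PG Q) P0 := by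
          obtain ⟨y, hy, e⟩ := heq.ge (mk_mem_stW.2 hh)
          rwa [hx, ← show α y = QuotientGroup.mk h from e, α.symm_apply_apply]
        have hno' : ¬ Ort P0 (x • α.symm (QuotientGroup.mk g) • P0) := by
          intro ho
          apply hno
          obtain ⟨g', hg'⟩ := QuotientGroup.mk_surjective x
          rw [← hg'] at ho
          have hxs : (QuotientGroup.mk g' : PG Q) ∈ stabilizer (PG Q) P0 := hg' ▸ hxs
          set R := α.symm (QuotientGroup.mk g) • P0
          rw [pt_rep P0, pt_rep R] at ho ⊢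
          rw [pg_smul, smul_pt, ort_pt] at ho
          rw [ort_pt]
          have hxs' := mem_stabilizer_iff.1 hxs
          rw [pg_smul, pt_rep P0, smul_pt, pt_eq_iff] at hxs'
          obtain ⟨a, ha⟩ := hxs'
          have := polar_isom g'.1 P0.1.rep R.1.rep
          rw [← ha, polar_smul_l', ho, mul_zero] at this
          exact this.symm
        obtain ⟨u, hu, hue⟩ := rad_transitive hno hno'
        obtain ⟨a, ha, hap⟩ := exists_lift (x := α u) (by rw [← map_pow, rad_pow_char p hu, map_one])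
        have hz : (g⁻¹ * a⁻¹ * h * g : Om Q) ∈ stOm (Q := Q) W := by
          have hm : (α.symm (QuotientGroup.mk g))⁻¹ * u⁻¹ * x * α.symm (QuotientGroup.mk g) ∈ stabilizer (PG Q) P0 := by
            rw [mem_stabilizer_iff, mul_smul, mul_smul, ← hue, mul_smul, inv_smul_smul, inv_smul_smul]
          have hm' := heq.le ⟨_, hm, rfl⟩
          simp only [MulEquiv.coe_toMonoidHom, map_mul, map_inv, hx, MulEquiv.apply_symm_apply, ← ha] at hm'
          exact (mk_mem_stW (g := g⁻¹ * a⁻¹ * h * g)).1 hm'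
        have hz' : img (g⁻¹ * a⁻¹ * h * g).1 W = W := hz
        have hhg : img h.1 (img g.1 W) = img a.1 (img g.1 W) := by
          conv_rhs => rw [← hz']
          rw [← img_mul, ← img_mul, ← img_mul]
          congr 1
          simp [mul_assoc]
        have hafix : ∀ w ∈ W, a.1.1 w = w := hfix a ⟨u, hu, ha.symm⟩ hap
        have haW : img a.1 W = W := mem_stab_of_le fun w hw => by rw [hafix w hw]; exact hw
        show img h.1 _ = _
        rw [img_inf, hh, hhg]
        rw [show W ⊓ img a.1 (img g.1 W) = img a.1 (W ⊓ img g.1 W) by rw [img_inf, haW]]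
        refine le_antisymm ?_ fun v hv => ⟨v, hv, hafix v hv.1⟩
        rintro _ ⟨v, hv, rfl⟩
        show a.1.1 v ∈ _
        rw [hafix v hv.1]; exact hv
      rcases stW_irreducible hW inf_le_left hinv with he | he
      · exact hg0 he
      · exact hg1 he
    obtain ⟨x, hx, hxe⟩ := stab_orth_transitive (horth g₁ h1.1 h1.2) (horth g₂ h2'.1 h2'.2) (hW' g₁ h1.2) (hW' g₂ h2'.2)
    obtain ⟨h, hh⟩ := QuotientGroup.mk_surjective (α x)
    have hhW : img h.1 W = W := mk_mem_stW.1 (by rw [hh]; exact heq.le ⟨x, hx, rfl⟩)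
    refine hdiff h.1 hhW ?_
    have hm : (α.symm (QuotientGroup.mk g₂))⁻¹ * x * α.symm (QuotientGroup.mk g₁) ∈ stabilizer (PG Q) P0 := by
      rw [mem_stabilizer_iff, mul_smul, mul_smul, hxe, inv_smul_smul]
    have hm' := heq.le ⟨_, hm, rfl⟩
    simp only [MulEquiv.coe_toMonoidHom, map_mul, map_inv, MulEquiv.apply_symm_apply, ← hh] at hm'
    have hz' : img (g₂⁻¹ * h * g₁).1 W = W :=
      (mk_mem_stW (g := g₂⁻¹ * h * g₁)).1 hm'
    conv_rhs => rw [← hz']
    rw [← img_mul, ← img_mul]
    congr 1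
    simp [mul_assoc]
  obtain ⟨v, hv0, hspan⟩ := finrank_eq_one_iff'.1 hk
  have hv0' : (v : V) ≠ 0 := fun h => hv0 (Subtype.ext h)
  refine ⟨pt Q hv0' (hW v v.2), ?_⟩
  rw [heq, ← stW_span]
  congr 1
  refine le_antisymm (fun y hy => ?_) ((Submodule.span_singleton_le_iff_mem _ _).2 v.2)
  obtain ⟨a, ha⟩ := hspan ⟨y, hy⟩
  exact Submodule.mem_span_singleton.2 ⟨a, congrArg Subtype.val ha⟩

end CfsgLib.KnownC.AutPOmega
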