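import Cfsg.Agent.Lib.KnownC.AutPOmega.Point

/-!
# The Siegel groups are permuted by automorphisms, and encode orthogonality
-/

set_option autoImplicit false
set_option linter.unusedSectionVars false
set_option linter.style.haveILetI false

open Module QuadraticMap MulAction
open scoped LinearAlgebra.Projectivization

namespace CfsgLib.KnownC.AutPOmega

open CfsgLib.Orth CfsgLib.Classical

variable {F : Type*} [Field F] {V : Type*} [AddCommGroup V] [Module F V] {Q : QuadraticForm F V}

variable [FiniteDimensional F V] [hQ : OCtx0 Q]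
include hQ

omit hQ in
theorem finrank_span_singleton_le (a : V) : finrank F (F ∙ a) ≤ 1 := by
  rcases eq_or_ne a 0 with rfl | h
  · rw [Submodule.span_zero_singleton, finrank_bot]; omega
  · rw [finrank_span_singleton h]

omit hQ in
theorem finrank_span_pair_le (a b : V) : finrank F (Submodule.span F ({a, b} : Set V)) ≤ 2 := by
  rw [Submodule.span_insert]
  have := Submodule.finrank_add_le_finrank_add_finrank (F ∙ a) (F ∙ b)
  have := finrank_span_singleton_le (F := F) a
  have := finrank_span_singleton_le (F := F) b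
  omega

omit hQ in
theorem finrank_span_triple_le (a b c : V) : finrank F (Submodule.span F ({a, b, c} : Set V)) ≤ 3 := by
  rw [Submodule.span_insert]
  have := Submodule.finrank_add_le_finrank_add_finrank (F ∙ a) (Submodule.span F ({b, c} : Set V))
  have := finrank_span_singleton_le (F := F) a
  have := finrank_span_pair_le (F := F) b c
  omega

/-- The orthogonal space of a hyperbolic pair, with vectors in it. -/
theorem perp_pair_nondeg {r s : V} (hr : Q r = 0) (hs : Q s = 0) (hrs : polar Q r s = 1) :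
    ∀ x ∈ perp Q (Submodule.span F {r, s}), (∀ y ∈ perp Q (Submodule.span F {r, s}), polar Q x y = 0) → x = 0 := by
  intro x hx hperp
  refine eq_zero_of_polar hQ.nd fun w => ?_
  set z := w - polar Q s w • r - polar Q r w • s with hz
  have hzX : z ∈ perp Q (Submodule.span F {r, s}) := mem_perp_span.2 (by
    rintro y (rfl | rfl)
    · simp only [hz, polar_sub_right, polar_smul_r', polar_self', hr, hrs]; ring
    · simp only [hz, polar_sub_right, polar_smul_r', polar_self', hs, polar_comm _ y r, hrs]; ring)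
  have h1 := hperp z hzX
  have hxr : polar Q x r = 0 := by rw [polar_comm]; exact hx r (Submodule.subset_span (by simp))
  have hxs : polar Q x s = 0 := by rw [polar_comm]; exact hx s (Submodule.subset_span (by simp))
  rw [hz, polar_sub_right, polar_sub_right, polar_smul_r', polar_smul_r', hxr, hxs] at h1
  linear_combination h1

theorem pair_perp_frame {r s : V} (hr : Q r = 0) (hs : Q s = 0) (hrs : polar Q r s = 1) :
    ∃ d ∈ perp Q (Submodule.span F {r, s}), ∃ e ∈ perp Q (Submodule.span F {r, s}),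
      Q d = 0 ∧ Q e = 0 ∧ polar Q d e = 1 := by
  refine exists_pair_in ?_ (perp_pair_nondeg hr hs hrs)
  rw [perp_finrank]
  have := finrank_span_pair_le (F := F) r s
  have := hQ.seven
  omega

/-- An isometry that is unipotent on the flag of a singular vector is a Siegel transformation. -/
theorem exists_isSiegel_of_unipotent {r : V} (hr0 : r ≠ 0) (hr : Q r = 0) {g : orthGroup Q} (hgr : g.1 r = r)
    (hz : ∀ z, polar Q r z = 0 → g.1 z - z ∈ F ∙ r) : ∃ u, IsSiegel g r u := by
  obtain ⟨s, hs, hrs⟩ := exists_partner (Q := Q) hr0 hr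
  set u := g.1 s - s with hu
  have hru : polar Q r u = 0 := by
    have h := polar_isom g r s
    rw [hgr, hrs] at h
    rw [hu, polar_sub_right, h, hrs, sub_self]
  have hgs : g.1 s = s + u := by rw [hu]; abel
  have hus : polar Q u s = -Q u := by
    have h := apply_quad g s
    rw [hgs, quad_add', hs, polar_comm _ s u] at h
    linear_combination h
  refine ⟨u, hr, hru, fun v => ?_⟩
  set z := v - polar Q r v • s with hzd
  have hrz : polar Q r z = 0 := by rw [hzd, polar_sub_right, polar_smul_r', hrs]; ring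
  obtain ⟨φ, hφ⟩ := Submodule.mem_span_singleton.1 (hz z hrz)
  have hgz : g.1 z = z + φ • r := by rw [hφ]; abel
  have hφ' : φ = -polar Q u z := by
    have h := polar_isom g s z
    rw [hgs, hgz, polar_add_left, polar_add_right, polar_add_right, polar_smul_r', polar_smul_r', polar_comm _ s r, hrs,
      polar_comm _ u r, hru] at h
    linear_combination h
  have hv : v = z + polar Q r v • s := by rw [hzd]; abel
  conv_lhs => rw [hv, map_add, map_smul, hgs, hgz]
  have huv : polar Q u v = polar Q u z + polar Q r v * -Q u := by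
    conv_lhs => rw [hv, polar_add_right, polar_smul_r', hus]
  rw [huv, hφ']
  conv_rhs => rw [show v + polar Q r v • u = z + polar Q r v • s + polar Q r v • u by rw [← hv]]
  module

/-- The Siegel group is its own centraliser in the point stabiliser. -/
theorem centralizer_rad {P : SingPts Q} {x : PG Q} (hx : x ∈ stabilizer (PG Q) P)
    (hc : ∀ y ∈ rad P, x * y = y * x) : x ∈ rad P := by
  obtain ⟨g, rfl⟩ := QuotientGroup.mk_surjective x
  rw [pt_rep P] at hx hc ⊢
  set r := P.1.rep with hr
  have hr0 : r ≠ 0 := P.1.rep_nonzero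
  have hQr : Q r = 0 := P.2
  rw [mem_stabilizer_iff, pg_smul, smul_pt, pt_eq_iff] at hx
  obtain ⟨a, ha⟩ := hx
  have ha0 : a ≠ 0 := fun h => hr0 (g.1.1.injective (by rw [map_zero, ← ha, h, zero_smul]))
  have key : ∀ z, polar Q r z = 0 → a • g.1.1 z - z ∈ F ∙ r := by
    intro z hz
    have hgz : polar Q r (g.1.1 z) = 0 := by
      have h := polar_isom g.1 r z
      rw [← ha, polar_smul_l', hz] at h
      exact (mul_eq_zero.1 h).resolve_left ha0
    have e : (QuotientGroup.mk g : PG Q) * EE Q r z * (QuotientGroup.mk g)⁻¹ = EE Q r z := by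
      rw [hc _ ((mem_rad hr0 hQr).2 ⟨z, hz, rfl⟩), mul_inv_cancel_right]
    rw [EE_conj g hQr hz, ← ha, EE, sg_scale ha0 hQr hgz] at e
    exact (EE_inj hr0 hQr (by rw [polar_smul_r', hgz, mul_zero]) hz).1 e
  -- the scalar is a sign
  obtain ⟨s, hs, hrs⟩ := exists_partner (Q := Q) hr0 hQr
  obtain ⟨d, hd, e', he', hd0, he0, hde⟩ := pair_perp_frame hQr hs hrs
  have hdr : polar Q r d = 0 := hd r (Submodule.subset_span (by simp))
  have her : polar Q r e' = 0 := he' r (Submodule.subset_span (by simp))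
  have haa : a * a = 1 := by
    obtain ⟨t₁, h₁⟩ := Submodule.mem_span_singleton.1 (key d hdr)
    obtain ⟨t₂, h₂⟩ := Submodule.mem_span_singleton.1 (key e' her)
    have h := polar_isom g.1 d e'
    rw [hde] at h
    have e1 : a • g.1.1 d = d + t₁ • r := by rw [h₁]; abel
    have e2 : a • g.1.1 e' = e' + t₂ • r := by rw [h₂]; abel
    have e3 : polar Q (a • g.1.1 d) (a • g.1.1 e') = 1 := by
      rw [e1, e2, polar_add_left, polar_add_right, polar_add_right, polar_smul_l', polar_smul_l', polar_smul_r',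
        polar_smul_r', polar_self', hQr, hde, her, polar_comm _ d r, hdr]
      ring
    rw [polar_smul_l', polar_smul_r', h, mul_one] at e3
    exact e3
  let g' : orthGroup Q := ⟨(LinearEquiv.smulOfUnit (Units.mk0 a ha0)).trans g.1.1, fun v => by
    show Q (g.1.1 (a • v)) = Q v
    rw [apply_quad, quad_smul', haa, one_mul]⟩
  have hg' : ∀ v, g'.1 v = a • g.1.1 v := fun v => map_smul g.1.1 a v
  obtain ⟨u, hu⟩ := exists_isSiegel_of_unipotent (g := g') hr0 hQr
    (by rw [hg', ← ha, smul_smul, haa, one_smul]) (fun z hz => by rw [hg']; exact key z hz)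
  refine (mem_rad hr0 hQr).2 ⟨u, hu.2.1, ?_⟩
  refine QuotientGroup.eq.2 (Subgroup.mem_center_iff.2 fun k => ?_)
  have hscal : ∀ v, (g⁻¹ * sg Q r u).1.1 v = a • v := by
    intro v
    show g.1.1.symm ((sg Q r u).1.1 v) = _
    rw [sg_apply hQr hu.2.1, ← hu.2.2, hg', map_smul, LinearEquiv.symm_apply_apply]
  exact Subtype.ext (Subtype.ext (LinearEquiv.ext fun v => by
    show k.1.1 ((g⁻¹ * sg Q r u).1.1 v) = (g⁻¹ * sg Q r u).1.1 (k.1.1 v)
    rw [hscal, hscal, map_smul]))

/-- The stabiliser of a point is irreducible on its Siegel group. -/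
theorem rad_irreducible {P : SingPts Q} {N : Subgroup (PG Q)} (hN : N ≤ rad P) (hne : N ≠ ⊥)
    (hnorm : ∀ x ∈ stabilizer (PG Q) P, ∀ y ∈ N, x * y * x⁻¹ ∈ N) : rad P ≤ N := by
  rw [pt_rep P] at hN hnorm ⊢
  set r := P.1.rep with hr
  have hr0 : r ≠ 0 := P.1.rep_nonzero
  have hQr : Q r = 0 := P.2
  set X : Set V := {u | polar Q r u = 0 ∧ EE Q r u ∈ N} with hX
  have hXr : ∀ a : F, a • r ∈ X := fun a => ⟨by rw [polar_smul_r', polar_self', hQr]; ring, by
    rw [EE, sg_smul_self hQr]; exact N.one_mem⟩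
  have hXadd : ∀ u ∈ X, ∀ w ∈ X, u + w ∈ X := fun u hu w hw => ⟨by rw [polar_add_right, hu.1, hw.1, add_zero], by
    rw [← EE_mul hQr hu.1 hw.1]; exact N.mul_mem hu.2 hw.2⟩
  have hXneg : ∀ u ∈ X, -u ∈ X := fun u hu => ⟨by rw [polar_neg_right, hu.1, neg_zero], by
    have hn : polar Q r (-u) = 0 := by rw [polar_neg_right, hu.1, neg_zero]
    have : EE Q r (-u) = (EE Q r u)⁻¹ := by
      rw [eq_inv_iff_mul_eq_one, EE_mul hQr hn hu.1, neg_add_cancel, EE, sg_zero hQr]; rfl
    rw [this]; exact N.inv_mem hu.2⟩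
  -- a singular direction from any element
  have step : ∀ x ∈ X, ∀ d, Q d = 0 → polar Q r d = 0 → polar Q x d = 0 → x ∉ Submodule.span F {r, d} →
      ∀ c : F, c • d ∈ X := by
    intro x hx d hd hrd hxd hns c
    obtain ⟨z, hz, hz1⟩ := exists_dual_zero (Q := Q) hns
    set w := c • z with hw
    have hrw : polar Q r w = 0 := by rw [hw, polar_smul_r', hz r (Submodule.subset_span (by simp)), mul_zero]
    have hdw : polar Q d w = 0 := by rw [hw, polar_smul_r', hz d (Submodule.subset_span (by simp)), mul_zero]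
    set g := sg Q d w with hg
    have hgr : g.1.1 r = r := by
      rw [hg, sg_apply hd hdw, polar_comm _ d r, hrd, polar_comm _ w r, hrw]; simp
    have hgx : g.1.1 x = x - c • d := by
      rw [hg, sg_apply hd hdw, polar_comm _ d x, hxd, polar_comm _ w x, hw, polar_smul_r', hz1]
      module
    have hstab : (QuotientGroup.mk g : PG Q) ∈ stabilizer (PG Q) (pt Q hr0 hQr) := by
      rw [mem_stabilizer_iff, pg_smul, smul_pt]
      exact pt_eq_iff.2 ⟨1, by rw [one_smul, hgr]⟩
    have h1 := hnorm _ hstab _ hx.2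
    rw [EE_conj g hQr hx.1, hgr, hgx] at h1
    have h2 : x - c • d ∈ X := ⟨by rw [polar_sub_right, hx.1, polar_smul_r', hrd]; ring, h1⟩
    have := hXadd _ hx _ (hXneg _ h2)
    rwa [← sub_eq_add_neg, sub_sub_cancel] at this
  obtain ⟨⟨x, hxN⟩, hx1'⟩ := Subgroup.ne_bot_iff_exists_ne_one.1 hne
  have hx1 : x ≠ 1 := fun h => hx1' (Subtype.ext h)
  obtain ⟨x₀, hrx, rfl⟩ := (mem_rad hr0 hQr).1 (hN hxN)
  have hxr : x₀ ∉ F ∙ r := fun h => hx1 (by rw [EE, (sg_eq_one_iff hr0 hQr hrx).2 h]; rfl)
  -- a singular vector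
  obtain ⟨d₀, hd₀, hd₀0, hrd₀, hxd₀⟩ : ∃ d, Q d = 0 ∧ d ∉ F ∙ r ∧ polar Q r d = 0 ∧ polar Q x₀ d = 0 ∧
      x₀ ∉ Submodule.span F {r, d} := by
    set H := perp Q (Submodule.span F {r, x₀}) with hH
    obtain ⟨Y, hY⟩ := Submodule.exists_isCompl ((Submodule.span F {r, x₀}).comap H.subtype)
    obtain ⟨_, ⟨d, hdY, rfl⟩, hd0, hQd⟩ := exists_sing_sub (Q := Q) (W := Y.map H.subtype) (by
      rw [Submodule.finrank_map_subtype_eq]
      have h1 := Submodule.finrank_add_eq_of_isCompl hY
      have h2 : finrank F ((Submodule.span F {r, x₀}).comap H.subtype) ≤ 2 := by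
        rw [← Submodule.finrank_map_subtype_eq H]
        exact (Submodule.finrank_mono (Submodule.map_comap_le _ _)).trans (finrank_span_pair_le _ _)
      have h3 : finrank F V - 2 ≤ finrank F H := by
        rw [hH, perp_finrank]
        have := finrank_span_pair_le (F := F) r x₀
        omega
      have := hQ.seven
      omega)
    have hnot : (d : V) ∉ Submodule.span F {r, x₀} := fun h => hd0 (by
      rw [Submodule.disjoint_def.1 hY.disjoint d h hdY]; simp)
    refine ⟨d, hQd, fun h => hnot (Submodule.span_mono (by simp) h), d.2 r (Submodule.subset_span (by simp)),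
      d.2 x₀ (Submodule.subset_span (by simp)), fun h => ?_⟩
    obtain ⟨u, v, huv⟩ := Submodule.mem_span_pair.1 h
    rcases eq_or_ne v 0 with rfl | hv
    · exact hxr (Submodule.mem_span_singleton.2 ⟨u, by rw [← huv, zero_smul, add_zero]⟩)
    · refine hnot (Submodule.mem_span_pair.2 ⟨-(v⁻¹ * u), v⁻¹, ?_⟩)
      rw [← huv, smul_add, smul_smul, smul_smul, inv_mul_cancel₀ hv, one_smul, neg_smul]
      show _ = (d : V)
      abel
  have hfirst := step x₀ ⟨hrx, hxN⟩ d₀ hd₀ hrd₀ hxd₀.1 hxd₀.2
  have orthstep : ∀ d, d ∈ X → d ∉ F ∙ r → ∀ e, Q e = 0 → polar Q r e = 0 → polar Q d e = 0 → (∀ c : F, c • d ∈ X) →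
      ∀ c : F, c • e ∈ X := by
    intro d hd hd0 e he hre hde hline c
    by_cases h : e ∈ Submodule.span F {r, d}
    · obtain ⟨u, v, rfl⟩ := Submodule.mem_span_pair.1 h
      rw [smul_add, smul_smul, smul_smul]
      exact hXadd _ (hXr _) _ (hline _)
    · refine step d hd e he hre hde (fun h' => ?_) c
      obtain ⟨u, v, huv⟩ := Submodule.mem_span_pair.1 h'
      rcases eq_or_ne v 0 with rfl | hv
      · exact hd0 (Submodule.mem_span_singleton.2 ⟨u, by rw [← huv, zero_smul, add_zero]⟩)
      · refine h (Submodule.mem_span_pair.2 ⟨-(v⁻¹ * u), v⁻¹, ?_⟩)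
        rw [← huv, smul_add, smul_smul, smul_smul, inv_mul_cancel₀ hv, one_smul, neg_smul]
        abel
  have hall : ∀ e, Q e = 0 → polar Q r e = 0 → ∀ c : F, c • e ∈ X := by
    intro e he hre c
    have hd₀X : d₀ ∈ X := by simpa using hfirst 1
    by_cases hde : polar Q d₀ e = 0
    · exact orthstep d₀ hd₀X hd₀0 e he hre hde hfirst c
    set H := perp Q (Submodule.span F {r, d₀, e}) with hH
    obtain ⟨Y, hY⟩ := Submodule.exists_isCompl ((Submodule.span F {r, d₀, e}).comap H.subtype)
    obtain ⟨_, ⟨d, hdY, rfl⟩, hd0, hQd⟩ := exists_sing_sub (Q := Q) (W := Y.map H.subtype) (by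
      rw [Submodule.finrank_map_subtype_eq]
      have h1 := Submodule.finrank_add_eq_of_isCompl hY
      have h2 : finrank F ((Submodule.span F {r, d₀, e}).comap H.subtype) ≤ 1 := by
        rw [← Submodule.finrank_map_subtype_eq H, ← finrank_span_singleton (K := F) hr0]
        refine Submodule.finrank_mono ?_
        rintro _ ⟨y, hy, rfl⟩
        obtain ⟨u, z, hz, huz⟩ := Submodule.mem_span_insert.1 hy
        obtain ⟨v, w, rfl⟩ := Submodule.mem_span_pair.1 hz
        have hd₀d₀ : polar Q d₀ d₀ = 0 := by rw [polar_self', hd₀, mul_zero]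
        have hee : polar Q e e = 0 := by rw [polar_self', he, mul_zero]
        have ha : polar Q d₀ (H.subtype y) = 0 := y.2 d₀ (Submodule.subset_span (by simp))
        have hb : polar Q e (H.subtype y) = 0 := y.2 e (Submodule.subset_span (by simp))
        rw [huz, polar_add_right, polar_add_right, polar_smul_r', polar_smul_r', polar_smul_r', polar_comm _ d₀ r, hrd₀,
          hd₀d₀] at ha
        rw [huz, polar_add_right, polar_add_right, polar_smul_r', polar_smul_r', polar_smul_r', polar_comm _ e r, hre,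
          polar_comm _ e d₀, hee] at hb
        simp only [mul_zero, zero_add, add_zero, mul_eq_zero] at ha hb
        rw [huz, ha.resolve_right hde, hb.resolve_right hde]
        exact Submodule.mem_span_singleton.2 ⟨u, by simp⟩
      have h3 : finrank F V - 3 ≤ finrank F H := by
        rw [hH, perp_finrank]
        have := finrank_span_triple_le (F := F) r d₀ e
        omega
      have := hQ.seven
      omega)
    have hnot : (d : V) ∉ Submodule.span F {r, d₀, e} := fun h => hd0 (by
      rw [Submodule.disjoint_def.1 hY.disjoint d h hdY]; simp)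
    have hrd : polar Q r (d : V) = 0 := d.2 r (Submodule.subset_span (by simp))
    have hdr : (d : V) ∉ F ∙ r := fun h => hnot (Submodule.span_mono (by simp) h)
    have hline : ∀ c : F, c • (d : V) ∈ X := orthstep d₀ hd₀X hd₀0 d hQd hrd (d.2 d₀ (Submodule.subset_span (by simp))) hfirst
    have hdX : (d : V) ∈ X := by simpa using hline 1
    exact orthstep d hdX hdr e he hre (by rw [polar_comm]; exact d.2 e (Submodule.subset_span (by simp))) hline c
  -- singular vectors span the orthogonal space of `r`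
  obtain ⟨s, hs, hrs⟩ := exists_partner (Q := Q) hr0 hQr
  obtain ⟨d, hd, e', he', hd0, he0, hde⟩ := pair_perp_frame hQr hs hrs
  intro y hy
  obtain ⟨u, hu, rfl⟩ := (mem_rad hr0 hQr).1 hy
  have hspan := mem_span_sing (Q := Q) (X := perp Q (F ∙ r)) (d := d) (e := e') (x := u)
    (mem_perp_span.2 (by rintro w rfl; exact hd r (Submodule.subset_span (by simp))))
    (mem_perp_span.2 (by rintro w rfl; exact he' r (Submodule.subset_span (by simp)))) hd0 he0 hde
    (mem_perp_span.2 (by rintro w rfl; exact hu))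
  suffices u ∈ X from this.2
  have key : ∀ v ∈ Submodule.span F {v | v ∈ perp Q (F ∙ r) ∧ Q v = 0}, ∀ c : F, c • v ∈ X := by
    intro v hv
    induction hv using Submodule.span_induction with
    | mem w hw => exact hall w hw.2 (hw.1 r (Submodule.mem_span_singleton_self r))
    | zero => intro c; rw [smul_zero]; simpa using hXr 0
    | add a b _ _ iha ihb => intro c; rw [smul_add]; exact hXadd _ (iha c) _ (ihb c)
    | smul t a _ iha => intro c; rw [smul_smul]; exact iha _
  simpa using key u hspan 1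

theorem card_rad (P R : SingPts Q) : Nat.card (rad P) = Nat.card (rad R) := by
  obtain ⟨x, rfl⟩ := exists_smul_eq (PG Q) P R
  rw [← map_conj_rad]
  exact Nat.card_congr (Subgroup.equivMapOfInjective _ (MulAut.conj x).toMonoidHom (MulAut.conj x).injective).toEquiv

/-- A map of points compatible with an automorphism. -/
structure IsPtMap (α : MulAut (PG Q)) (f : SingPts Q ≃ SingPts Q) : Prop where
  equiv : ∀ (x : PG Q) (P : SingPts Q), f (x • P) = α x • f P
  rad_map : ∀ P, (rad P).map α.toMonoidHom = rad (f P)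

theorem rad_image {α : MulAut (PG Q)} {P0 Q0 : SingPts Q}
    (h : (stabilizer (PG Q) P0).map α.toMonoidHom = stabilizer (PG Q) Q0) :
    (rad P0).map α.toMonoidHom = rad Q0 := by
  haveI := finite_om (Q := Q)
  set A := (rad P0).map α.toMonoidHom with hA
  have hle : A ≤ stabilizer (PG Q) Q0 := h ▸ Subgroup.map_mono (rad_le_stab P0)
  have hnorm : ∀ x ∈ stabilizer (PG Q) Q0, ∀ y ∈ A, x * y * x⁻¹ ∈ A := by
    intro x hx y hy
    obtain ⟨x', hx', rfl⟩ := h.ge hx
    obtain ⟨y', hy', rfl⟩ := hy
    refine ⟨x' * y' * x'⁻¹, ?_, by simp⟩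
    have := conj_rad_mem x' P0 hy'
    rwa [mem_stabilizer_iff.1 hx'] at this
  obtain ⟨y, hy, hy1⟩ := exists_rad_ne_one P0
  have hAy : α y ∈ A := ⟨y, hy, rfl⟩
  have hne : A ⊓ rad Q0 ≠ ⊥ := by
    intro hbot
    have hcomm : ∀ z ∈ rad Q0, α y * z = z * α y := by
      intro z hz
      have h1 : α y * z * (α y)⁻¹ * z⁻¹ ∈ A ⊓ rad Q0 := by
        refine ⟨?_, ?_⟩
        · rw [show α y * z * (α y)⁻¹ * z⁻¹ = α y * (z * (α y)⁻¹ * z⁻¹) by group]
          exact A.mul_mem hAy (hnorm z (rad_le_stab Q0 hz) _ (A.inv_mem hAy))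
        · have := conj_rad_mem (α y) Q0 hz
          rw [mem_stabilizer_iff.1 (hle hAy)] at this
          exact (rad Q0).mul_mem this ((rad Q0).inv_mem hz)
      rw [hbot, Subgroup.mem_bot, mul_inv_eq_one] at h1
      conv_rhs => rw [← h1]
      group
    have := centralizer_rad (hle hAy) hcomm
    have h1 : α y = 1 := (Subgroup.mem_bot).1 (hbot ▸ ⟨hAy, this⟩)
    exact hy1 (α.injective (h1.trans (map_one α).symm))
  have hge : rad Q0 ≤ A := (rad_irreducible inf_le_right hne fun x hx y hy => ⟨hnorm x hx y hy.1, by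
    have := conj_rad_mem x Q0 hy.2
    rwa [mem_stabilizer_iff.1 hx] at this⟩).trans inf_le_left
  refine (Subgroup.eq_of_le_of_card_ge hge ?_).symm
  rw [card_rad Q0 P0]
  exact (Nat.card_congr (Subgroup.equivMapOfInjective _ α.toMonoidHom α.injective).toEquiv).symm.le

theorem exists_ptMap [hQ8 : OCtx Q] (α : MulAut (PG Q)) : ∃ f : SingPts Q ≃ SingPts Q, IsPtMap α f := by
  classical
  obtain ⟨hp⟩ := hyp (Q := Q)
  set P0 := pt Q hp.e₀_ne_zero hp.he₀
  obtain ⟨Q0, hQ0⟩ := exists_stab_image α P0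
  choose x hx using fun P : SingPts Q => exists_smul_eq (PG Q) P0 P
  have hwd : ∀ a b : PG Q, α a • Q0 = α b • Q0 ↔ a • P0 = b • P0 := by
    intro a b
    rw [eq_comm, ← inv_smul_eq_iff, eq_comm (a := a • P0), ← inv_smul_eq_iff, smul_smul, smul_smul, ← map_inv, ← map_mul]
    constructor
    · intro h
      obtain ⟨c, hc, e⟩ := hQ0.ge (mem_stabilizer_iff.2 h)
      exact α.injective e ▸ hc
    · intro h
      exact hQ0.le ⟨_, h, rfl⟩
  let f : SingPts Q → SingPts Q := fun P => α (x P) • Q0
  have hbij : Function.Bijective f := by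
    refine ⟨fun P R h => ?_, fun R => ?_⟩
    · rw [← hx P, ← hx R]; exact (hwd _ _).1 h
    · obtain ⟨y, hy⟩ := exists_smul_eq (PG Q) Q0 R
      refine ⟨α.symm y • P0, ?_⟩
      show α (x (α.symm y • P0)) • Q0 = R
      rw [(hwd _ (α.symm y)).2 (hx _), MulEquiv.apply_symm_apply, hy]
  have heq : ∀ (y : PG Q) (P : SingPts Q), Equiv.ofBijective f hbij (y • P) = α y • Equiv.ofBijective f hbij P := by
    intro y P
    show α (x (y • P)) • Q0 = α y • α (x P) • Q0
    rw [smul_smul, ← map_mul]
    exact (hwd _ _).2 (by rw [hx, mul_smul, hx])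
  refine ⟨Equiv.ofBijective f hbij, heq, fun P => ?_⟩
  show _ = rad (α (x P) • Q0)
  conv_lhs => rw [← hx P, ← map_conj_rad]
  rw [← map_conj_rad, ← rad_image hQ0, Subgroup.map_map, Subgroup.map_map]
  congr 1
  ext z
  simp

/-- The common Siegel transformations of two orthogonal points. -/
theorem inter_line {r w u : V} (hr0 : r ≠ 0) (hr : Q r = 0) (hw0 : w ≠ 0) (hw : Q w = 0) (hwr : w ∉ F ∙ r)
    (hrw : polar Q r w = 0) (hu : polar Q r u = 0) (h : EE Q r u ∈ rad (pt Q hw0 hw)) :
    ∃ a : F, u - a • w ∈ F ∙ r := by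
  obtain ⟨v, hv, he⟩ := (mem_rad hw0 hw).1 h
  have hg := sg_eq_of_EE_eq hr hu hw hv he
  obtain ⟨y, hy, hy1⟩ := exists_dual_zero (Q := Q) hwr
  have hry : polar Q r y = 0 := hy r (Submodule.mem_span_singleton_self r)
  have e := congrArg (fun k : Om Q => k.1.1 y) hg
  simp only [sg_apply hr hu, sg_apply hw hv, hry, hy1] at e
  have hvspan : v = (-(polar Q u y)) • r + (polar Q v y + Q v) • w := by
    linear_combination (norm := module) -e
  have hr' : polar Q w r = 0 := by rw [polar_comm]; exact hrw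
  have hsiegel : IsSiegel (sg Q r u).1 r ((polar Q u y) • w) := by
    refine ⟨hr, by rw [polar_smul_r', hrw, mul_zero], fun t => ?_⟩
    rw [hg, hvspan, sg_shift hw (by rw [polar_smul_r', hr', mul_zero]), sg_apply hw (by rw [polar_smul_r', hr', mul_zero]),
      polar_smul_l', polar_smul_l', quad_smul', quad_smul', hr, hw]
    module
  exact ⟨polar Q u y, (EE_inj hr0 hr hu hsiegel.2.1).1 (congrArg QuotientGroup.mk (eq_sg hsiegel))⟩

/-- Orthogonality, read off the Siegel groups. -/
theorem ort_iff (P R : SingPts Q) : Ort P R ↔ rad P ⊓ rad R ≠ ⊥ := by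
  by_cases hPR : P = R
  · subst hPR
    obtain ⟨x, hx, hx1⟩ := exists_rad_ne_one P
    refine iff_of_true ?_ fun h => hx1 ((Subgroup.mem_bot).1 (h ▸ ⟨hx, hx⟩))
    rw [pt_rep P, ort_pt, polar_self', P.2, mul_zero]
  have hwr := notMem_span_of_ne (P := P) (R := R) fun h => hPR h.symm
  rw [pt_rep P, pt_rep R, ort_pt]
  set r := P.1.rep
  set w := R.1.rep
  constructor
  · intro h hbot
    have hwr' : polar Q w r = 0 := by rw [polar_comm]; exact h
    have hsw : IsSiegel (sg Q r w).1 w (-r) := by
      refine ⟨R.2, by rw [polar_neg_right, hwr', neg_zero], fun t => ?_⟩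
      rw [sg_apply P.2 h, R.2, QuadraticMap.map_neg, P.2, polar_neg_left]
      module
    have hmem : EE Q r w ∈ rad (pt Q P.1.rep_nonzero P.2) ⊓ rad (pt Q R.1.rep_nonzero R.2) :=
      ⟨(mem_rad _ _).2 ⟨w, h, rfl⟩, (mem_rad _ _).2 ⟨-r, hsw.2.1, congrArg QuotientGroup.mk (eq_sg hsw)⟩⟩
    rw [hbot, Subgroup.mem_bot] at hmem
    have := (EE_inj P.1.rep_nonzero P.2 h (by simp) (w := 0)).1 (hmem.trans (by rw [EE, sg_zero P.2]; rfl))
    rw [sub_zero] at this
    exact hwr this
  · intro h
    obtain ⟨⟨x, hx1, hx2⟩, hx⟩ := Subgroup.ne_bot_iff_exists_ne_one.1 h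
    obtain ⟨u, hu, rfl⟩ := (mem_rad _ _).1 hx1
    obtain ⟨v, hv, he⟩ := (mem_rad _ _).1 hx2
    have hg := sg_eq_of_EE_eq P.2 hu R.2 hv he
    by_contra hne
    have e := congrArg (fun k : Om Q => k.1.1 w) hg
    have hww : polar Q R.1.rep w = 0 := by
      show polar Q R.1.rep R.1.rep = 0
      rw [polar_self', R.2, mul_zero]
    have hvw : polar Q v w = 0 := by rw [polar_comm]; exact hv
    simp only [sg_apply P.2 hu, sg_apply R.2 hv, hww, hvw, mul_zero, neg_zero, sub_self, zero_smul, add_zero] at e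
    refine hx (Subtype.ext ?_)
    show EE Q r u = 1
    rw [EE, (sg_eq_one_iff P.1.rep_nonzero P.2 hu).2 ?_]
    · rfl
    · refine Submodule.mem_span_singleton.2 ⟨(polar Q r w)⁻¹ * (polar Q u w + Q u * polar Q r w), ?_⟩
      have h2 : polar Q r w • u = (polar Q u w + Q u * polar Q r w) • r := by linear_combination (norm := module) e
      rw [← smul_smul, ← h2, smul_smul, inv_mul_cancel₀ hne, one_smul]

theorem IsPtMap.ort {α : MulAut (PG Q)} {f : SingPts Q ≃ SingPts Q} (hf : IsPtMap α f) (P R : SingPts Q) :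
    Ort (f P) (f R) ↔ Ort P R := by
  rw [ort_iff, ort_iff, ← hf.rad_map, ← hf.rad_map, ← Subgroup.map_inf _ _ α.toMonoidHom α.injective, Ne, Ne,
    Subgroup.map_eq_bot_iff_of_injective _ α.injective]

/-- A point is the only one fixed by its Siegel group. -/
theorem eq_of_rad_fix {P R : SingPts Q} (h : ∀ x ∈ rad P, x • R = R) : R = P := by
  by_contra hne
  have hwr := notMem_span_of_ne hne
  have hrr : polar Q P.1.rep P.1.rep = 0 := by rw [polar_self', P.2, mul_zero]
  obtain ⟨z, hz, hz1⟩ := exists_dual_zero (Q := Q) hwr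
  have hrz : polar Q P.1.rep z = 0 := hz _ (Submodule.mem_span_singleton_self _)
  by_cases hort : polar Q P.1.rep R.1.rep = 0
  · have h1 := h (EE Q P.1.rep z) (by conv_lhs => rw [pt_rep P]
                                      exact (mem_rad _ _).2 ⟨z, hrz, rfl⟩)
    rw [EE, pg_smul, pt_rep R, smul_pt, pt_eq_iff] at h1
    obtain ⟨a, ha⟩ := h1
    rw [sg_apply P.2 hrz, hort, polar_comm _ z, hz1] at ha
    have e : P.1.rep = (1 - a) • R.1.rep := by linear_combination (norm := module) ha
    rcases eq_or_ne a 1 with rfl | ha1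
    · rw [sub_self, zero_smul] at e
      exact P.1.rep_nonzero e
    · exact hwr (Submodule.mem_span_singleton.2 ⟨(1 - a)⁻¹, by
        nth_rewrite 1 [e]
        rw [smul_smul, inv_mul_cancel₀ (sub_ne_zero.2 (Ne.symm ha1)), one_smul]⟩)
  · obtain ⟨y, hy, hy1⟩ := exists_rad_ne_one P
    rw [pt_rep P] at hy
    obtain ⟨u, hu, rfl⟩ := (mem_rad _ _).1 hy
    have h1 := h _ (by rw [pt_rep P]; exact hy)
    rw [EE, pg_smul, pt_rep R, smul_pt, pt_eq_iff] at h1
    obtain ⟨a, ha⟩ := h1
    rw [sg_apply P.2 hu] at ha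
    set c := polar Q P.1.rep R.1.rep
    set b := -(polar Q u R.1.rep) - Q u * c
    have hpc := congrArg (polar Q P.1.rep) ha
    rw [polar_smul_r', polar_add_right, polar_add_right, polar_smul_r', polar_smul_r', hu, hrr, mul_zero, mul_zero,
      add_zero, add_zero] at hpc
    have ha1 : a = 1 := mul_right_cancel₀ hort (hpc.trans (one_mul c).symm)
    rw [ha1, one_smul] at ha
    refine hy1 ?_
    rw [EE, (sg_eq_one_iff P.1.rep_nonzero P.2 hu).2 ?_]
    · rfl
    · refine Submodule.mem_span_singleton.2 ⟨-(c⁻¹ * b), ?_⟩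
      have h2 : c • u = (-b) • P.1.rep := by linear_combination (norm := module) -ha
      rw [show -(c⁻¹ * b) = c⁻¹ * -b by ring, ← smul_smul, ← h2, smul_smul, inv_mul_cancel₀ hort, one_smul]

end CfsgLib.KnownC.AutPOmega
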