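import Cfsg.Agent.Lib.KnownC.AutPOmega.Main

/-!
# The standard forms
-/

set_option autoImplicit false
set_option linter.unusedSectionVars false
set_option linter.style.haveILetI false

open Module QuadraticMap

namespace CfsgLib.KnownC.AutPOmega

open CfsgLib.Orth

universe u

variable {F : Type u} [Field F] [Fintype F]

theorem octx_odd {m : ℕ} (hm : 3 ≤ m) (h2 : (2 : F) ≠ 0) : OCtx (oddForm F m) where
  fin := inferInstance
  nd := oddForm_nondeg m h2
  seven := by simp; omega
  eight := fun h => by simp at h; omega

theorem octx_plus {m : ℕ} (hm : 5 ≤ m) : OCtx (plusForm F m) where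
  fin := inferInstance
  nd := plusForm_nondeg m
  seven := by simp; omega
  eight := fun h => by simp at h; omega

theorem octx_minus {m : ℕ} (hm : 3 ≤ m) {a b : F}
    (hab : ∀ z₁ z₂ : F, z₁ ^ 2 + a * z₁ * z₂ + b * z₂ ^ 2 = 0 → z₁ = 0 ∧ z₂ = 0) : OCtx (minusForm F m a b) where
  fin := inferInstance
  nd := minusForm_nondeg m a b hab
  seven := by simp; omega
  eight := fun h U hU h4 => by
    simp at h
    have := minus_singular_finrank_le hab U hU
    omega

end CfsgLib.KnownC.AutPOmega
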