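import Cfsg.Agent.Lib.KnownC.AutPOmega.Basic

/-!
# Moving a totally singular subspace off itself

For a totally singular subspace of dimension at least two we exhibit two elements of `Ω(Q)` whose images of it meet it
in non-zero proper subspaces, in different positions.
-/

set_option autoImplicit false
set_option linter.unusedSectionVars false
set_option linter.style.haveILetI false

open Module QuadraticMap

namespace CfsgLib.KnownC.AutPOmega

open CfsgLib.Orth CfsgLib.Classical

variable {F : Type*} [Field F] {V : Type*} [AddCommGroup V] [Module F V] {Q : QuadraticForm F V}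

/-- A totally singular subspace. -/
def TS (Q : QuadraticForm F V) (W : Submodule F V) : Prop := ∀ w ∈ W, Q w = 0

theorem TS.polar {W : Submodule F V} (h : TS Q W) {x y : V} (hx : x ∈ W) (hy : y ∈ W) :
    QuadraticMap.polar Q x y = 0 := by
  simp only [QuadraticMap.polar, h _ (W.add_mem hx hy), h _ hx, h _ hy, sub_zero]

/-- The image of a subspace. -/
abbrev img (g : orthGroup Q) (W : Submodule F V) : Submodule F V := W.map (g.1 : V →ₗ[F] V)

theorem img_mul (g h : orthGroup Q) (W : Submodule F V) : img (g * h) W = img g (img h W) :=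
  Submodule.map_comp _ _ W

theorem img_one (W : Submodule F V) : img (1 : orthGroup Q) W = W := Submodule.map_id W

theorem img_inv_img (g : orthGroup Q) (W : Submodule F V) : img g⁻¹ (img g W) = W := by
  rw [← img_mul, inv_mul_cancel, img_one]

theorem mem_img (g : orthGroup Q) {W : Submodule F V} {x : V} (hx : x ∈ W) : g.1 x ∈ img g W := ⟨x, hx, rfl⟩

theorem img_inf (g : orthGroup Q) (A B : Submodule F V) : img g (A ⊓ B) = img g A ⊓ img g B :=
  Submodule.map_inf _ g.1.injective

theorem TS.img {W : Submodule F V} (h : TS Q W) (g : orthGroup Q) : TS Q (img g W) := by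
  rintro _ ⟨w, hw, rfl⟩
  exact (apply_quad g w).trans (h w hw)

theorem img_le_perp (g : orthGroup Q) {A B : Submodule F V} (h : A ≤ perp Q B) :
    AutPOmega.img g A ≤ perp Q (AutPOmega.img g B) := by
  rintro _ ⟨a, ha, rfl⟩ _ ⟨b, hb, rfl⟩
  exact (polar_isom g b a).trans (h ha b hb)

variable [FiniteDimensional F V] [hQ : OCtx0 Q]
include hQ

/-- Exchanging `j` hyperbolic pairs, by reflections in vectors of one norm. -/
theorem exists_swaps {W : Submodule F V} (hW : TS Q W) {a0 : V} (ha0 : Q a0 ≠ 0) :
    ∀ j, j ≤ finrank F W → ∃ (g : orthGroup Q) (W' Fs H : Submodule F V),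
      W' ≤ W ∧ finrank F W' + j = finrank F W ∧ W' ≤ perp Q H ∧ W' ⊓ H = ⊥ ∧ Fs ≤ H ∧ W ⊓ Fs = ⊥ ∧
      img g W = W' ⊔ Fs ∧ Abelianization.of g = Abelianization.of (refl Q a0) ^ j := by
  intro j
  induction j with
  | zero =>
    intro _
    exact ⟨1, W, ⊥, ⊥, le_rfl, by omega, fun x _ => by
      intro w hw; rw [Submodule.mem_bot] at hw; subst hw; exact polar_zero_left _ x, inf_bot_eq _, le_rfl,
      inf_bot_eq _, by rw [img_one, sup_bot_eq], by rw [map_one, pow_zero]⟩
  | succ j ih =>
    intro hj
    obtain ⟨g, W', Fs, H, hle, hdim, hperp, hbot, hFs, hFW, hgW, hab⟩ := ih (by omega)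
    obtain ⟨e, he, he0⟩ : ∃ e ∈ W', e ≠ 0 :=
      Submodule.exists_mem_ne_zero_of_ne_bot fun h => by rw [h, finrank_bot] at hdim; omega
    have heH : e ∉ H := fun h => he0 ((Submodule.mem_bot F).1 (hbot ▸ ⟨he, h⟩))
    obtain ⟨z, hz, hz1⟩ := exists_dual_zero (Q := Q) heH
    set f := z + (-Q z) • e with hf
    have hQe : Q e = 0 := hW e (hle he)
    have hef : polar Q e f = 1 := by
      rw [hf, polar_add_right, hz1, polar_smul_r', polar_self', hQe]; ring
    have hfe : polar Q f e = 1 := by rw [polar_comm]; exact hef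
    have hQf : Q f = 0 := by
      rw [hf, quad_add', quad_smul' Q (-Q z), polar_smul_r', hQe, polar_comm _ z e, hz1]; ring
    have hHe : ∀ x ∈ H, polar Q x e = 0 := fun x hx => hperp he x hx
    have hHf : ∀ x ∈ H, polar Q x f = 0 := fun x hx => by
      rw [hf, polar_add_right, polar_smul_r', hz x hx, hHe x hx]; ring
    set c := -Q a0 with hc
    set a := e - c • f with ha
    have hQa : Q a = Q a0 := by
      rw [ha, sub_eq_add_neg, quad_add', QuadraticMap.map_neg, polar_neg_right, quad_smul', polar_smul_r', hQe, hQf,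
        hef, hc]; ring
    set s := refl Q a with hs
    set W'' := W' ⊓ perp Q (F ∙ f) with hW''
    have hWf : ∀ x ∈ W'', polar Q f x = 0 := fun x hx => hx.2 f (Submodule.mem_span_singleton_self f)
    have hsfix : ∀ x, polar Q e x = 0 → polar Q f x = 0 → s.1 x = x := fun x h1 h2 => by
      refine refl_fix Q ?_
      rw [ha, polar_sub_left, polar_smul_l', h1, h2]; ring
    have hse : s.1 e = c • f := by
      rw [hs, refl_apply, hQa, ha, polar_sub_left, polar_smul_l', polar_self', hQe, hfe]
      have : (Q a0)⁻¹ * (2 * 0 - c * 1) = 1 := by rw [hc]; field_simp; ring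
      rw [this, one_smul]; abel
    have hsW : img s W' ≤ W'' ⊔ (F ∙ f) := by
      rintro _ ⟨x, hx, rfl⟩
      have hx' : x - polar Q f x • e ∈ W'' := ⟨W'.sub_mem hx (W'.smul_mem _ he), fun w hw => by
        obtain ⟨b, rfl⟩ := Submodule.mem_span_singleton.1 hw
        show polar Q (b • f) _ = 0
        rw [polar_smul_l', polar_sub_right, polar_smul_r', hfe]; ring⟩
      have e1 : x = (x - polar Q f x • e) + polar Q f x • e := by abel
      show s.1 x ∈ _
      rw [e1, map_add, map_smul, hse, hsfix _ (hW.polar (hle he) (hle hx'.1)) (hWf _ hx')]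
      exact Submodule.add_mem_sup hx' (Submodule.smul_mem _ _ (Submodule.smul_mem _ _ (Submodule.mem_span_singleton_self f)))
    have hsW' : W'' ⊔ (F ∙ f) ≤ img s W' := by
      refine sup_le (fun x hx => ⟨x, hx.1, hsfix x (hW.polar (hle he) (hle hx.1)) (hWf x hx)⟩) ?_
      rw [Submodule.span_singleton_le_iff_mem]
      refine ⟨c⁻¹ • e, W'.smul_mem _ he, ?_⟩
      show s.1 (c⁻¹ • e) = f
      rw [map_smul, hse, smul_smul, inv_mul_cancel₀ (neg_ne_zero.2 ha0), one_smul]
    have hsFs : img s Fs = Fs := by
      have key : ∀ x ∈ Fs, s.1 x = x := fun x hx =>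
        hsfix x (by rw [polar_comm]; exact hHe x (hFs hx)) (by rw [polar_comm]; exact hHf x (hFs hx))
      refine le_antisymm ?_ fun x hx => ⟨x, hx, key x hx⟩
      rintro _ ⟨x, hx, rfl⟩
      show s.1 x ∈ Fs
      rw [key x hx]; exact hx
    have hfin : finrank F W'' + 1 = finrank F W' := by
      set φ := (QuadraticMap.polarBilin Q f).comp W'.subtype with hφ
      have hk : W'' = φ.ker.map W'.subtype := by
        ext x
        constructor
        · intro hx
          exact ⟨⟨x, hx.1⟩, hWf x hx, rfl⟩
        · rintro ⟨y, hy, rfl⟩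
          refine ⟨y.2, fun w hw => ?_⟩
          obtain ⟨b, rfl⟩ := Submodule.mem_span_singleton.1 hw
          show polar Q (b • f) _ = 0
          rw [polar_smul_l', show polar Q f (W'.subtype y) = 0 from hy, mul_zero]
      have hr : φ.range = ⊤ := LinearMap.range_eq_top.2 fun t => ⟨t • ⟨e, he⟩, by
        show polar Q f (t • e) = t
        rw [polar_smul_r', hfe, mul_one]⟩
      have h1 := LinearMap.finrank_range_add_finrank_ker φ
      rw [hr, finrank_top, finrank_self] at h1
      rw [hk, Submodule.finrank_map_subtype_eq]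
      omega
    refine ⟨s * g, W'', Fs ⊔ (F ∙ f), H ⊔ Submodule.span F {e, f}, inf_le_left.trans hle, by omega, ?_, ?_, ?_, ?_, ?_,
      by rw [map_mul, hs, hab, ab_refl_eq hQ.nd (good (Q := Q)) (hQa ▸ ha0) ha0 ⟨Q a0, by rw [hQa]⟩, ← pow_succ']⟩
    · intro x hx w hw
      obtain ⟨h, hh, y, hy, rfl⟩ := Submodule.mem_sup.1 hw
      obtain ⟨u, v, rfl⟩ := Submodule.mem_span_pair.1 hy
      show polar Q (h + (u • e + v • f)) x = 0
      rw [polar_add_left, polar_add_left, polar_smul_l', polar_smul_l', hW.polar (hle he) (hle hx.1), hWf x hx,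
        show polar Q h x = 0 from hperp hx.1 h hh]
      ring
    · rw [Submodule.eq_bot_iff]
      rintro x ⟨hx, hx2⟩
      obtain ⟨h, hh, y, hy, rfl⟩ := Submodule.mem_sup.1 hx2
      obtain ⟨u, v, rfl⟩ := Submodule.mem_span_pair.1 hy
      have h1 := hW.polar (hle he) (hle hx.1)
      rw [polar_add_right, polar_add_right, polar_smul_r', polar_smul_r', polar_comm _ e h, hHe h hh, polar_self', hQe,
        hef] at h1
      have h2 := hWf _ hx
      rw [polar_add_right, polar_add_right, polar_smul_r', polar_smul_r', polar_comm _ f h, hHf h hh, polar_self', hQf,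
        hfe] at h2
      simp only [mul_zero, mul_one, zero_add, add_zero] at h1 h2
      have hxh : h + (u • e + v • f) = h := by rw [h1, h2]; simp
      rw [hxh] at hx ⊢
      exact (Submodule.mem_bot F).1 (hbot ▸ ⟨hx.1, hh⟩)
    · exact sup_le (hFs.trans le_sup_left)
        ((Submodule.span_singleton_le_iff_mem _ _).2 (Submodule.mem_sup_right (Submodule.subset_span (by simp))))
    · rw [Submodule.eq_bot_iff]
      rintro x ⟨hx, hx2⟩
      obtain ⟨φ, hφ, y, hy, rfl⟩ := Submodule.mem_sup.1 hx2
      obtain ⟨b, rfl⟩ := Submodule.mem_span_singleton.1 hy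
      have h1 := hW.polar (hle he) hx
      rw [polar_add_right, polar_smul_r', polar_comm _ e φ, hHe φ (hFs hφ), hef, zero_add, mul_one] at h1
      rw [h1, zero_smul, add_zero] at hx ⊢
      exact (Submodule.mem_bot F).1 (hFW ▸ ⟨hx, hφ⟩)
    · rw [img_mul, hgW, AutPOmega.img, Submodule.map_sup, show W'.map (s.1 : V →ₗ[F] V) = W'' ⊔ (F ∙ f) from
        le_antisymm hsW hsW', show Fs.map (s.1 : V →ₗ[F] V) = Fs from hsFs, sup_assoc, sup_comm (F ∙ f)]

/-- The intersection with the image is the fixed part. -/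
theorem exists_swaps' {W : Submodule F V} (hW : TS Q W) {a0 : V} (ha0 : Q a0 ≠ 0) (j : ℕ) (hj : j ≤ finrank F W) :
    ∃ g : orthGroup Q, Abelianization.of g = Abelianization.of (refl Q a0) ^ j ∧
      finrank F (W ⊓ img g W : Submodule F V) + j = finrank F W := by
  obtain ⟨g, W', Fs, H, hle, hdim, -, -, -, hFW, hgW, hab⟩ := exists_swaps hW ha0 j hj
  refine ⟨g, hab, ?_⟩
  have : W ⊓ img g W = W' := by
    rw [hgW, inf_comm, sup_inf_assoc_of_le _ hle, inf_comm, hFW, sup_bot_eq]
  rw [this]; exact hdim

theorem exists_even_swap {W : Submodule F V} (hW : TS Q W) (j : ℕ) (hj : 2 * j ≤ finrank F W) :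
    ∃ g : Om Q, finrank F (W ⊓ img g.1 W : Submodule F V) + 2 * j = finrank F W := by
  obtain ⟨hp⟩ := hyp (Q := Q)
  have ha0 : Q (hp.e₀ + hp.f₀) ≠ 0 := by
    rw [quad_add', hp.he₀, hp.hf₀, hp.h00]; simp
  obtain ⟨g, hab, hd⟩ := exists_swaps' hW ha0 (2 * j) hj
  exact ⟨⟨g, (mem_commutator_iff g).2 (by rw [hab, pow_mul, pow_two, ab_refl_sq, one_pow])⟩, hd⟩

/-- A single exchange, when the subspace is not half of the space. -/
theorem exists_odd_swap {W : Submodule F V} (hW : TS Q W) (h1 : 1 ≤ finrank F W)
    (hn : 2 * finrank F W < finrank F V) :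
    ∃ g : Om Q, finrank F (W ⊓ img g.1 W : Submodule F V) + 1 = finrank F W ∧ ¬ img g.1 W ≤ perp Q W := by
  obtain ⟨e, he, he0⟩ : ∃ e ∈ W, e ≠ 0 :=
    Submodule.exists_mem_ne_zero_of_ne_bot fun h => by rw [h, finrank_bot] at h1; omega
  obtain ⟨f, hQf, hef⟩ := exists_partner (Q := Q) he0 (hW e he)
  obtain ⟨a0, ha0, hQa0⟩ : ∃ a ∈ perp Q (W ⊔ (F ∙ f)), Q a ≠ 0 := by
    by_contra! hall
    set X := perp Q (W ⊔ (F ∙ f)) with hX
    have hXe : ∀ x ∈ X, polar Q e x = 0 := fun x hx => hx e (Submodule.mem_sup_left he)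
    have hts : ∀ v ∈ X ⊔ (F ∙ e), Q v = 0 := by
      intro v hv
      obtain ⟨x, hx, y, hy, rfl⟩ := Submodule.mem_sup.1 hv
      obtain ⟨t, rfl⟩ := Submodule.mem_span_singleton.1 hy
      rw [quad_add', quad_smul', polar_smul_r', hall x hx, hW e he, polar_comm _ x e, hXe x hx]; ring
    have heX : e ∉ X := fun h => by
      have := h f (Submodule.mem_sup_right (Submodule.mem_span_singleton_self f))
      change polar Q f e = 0 at this
      rw [polar_comm, hef] at this
      exact one_ne_zero this
    have h2 := singular_finrank_le hQ.nd _ hts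
    have hlt : X < X ⊔ (F ∙ e) := lt_of_le_of_ne le_sup_left fun h =>
      heX (h ▸ Submodule.mem_sup_right (Submodule.mem_span_singleton_self e))
    have h3 := Submodule.finrank_lt_finrank_of_lt hlt
    have h4 : finrank F X = finrank F V - finrank F (W ⊔ (F ∙ f) : Submodule F V) := perp_finrank _
    have h5 := Submodule.finrank_add_le_finrank_add_finrank W (F ∙ f)
    have hf0 : f ≠ 0 := fun h => by simp [h] at hef
    rw [finrank_span_singleton hf0] at h5
    omega
  set c := -Q a0 with hc
  set a := e - c • f with ha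
  have hfe : polar Q f e = 1 := by rw [polar_comm]; exact hef
  have hQa : Q a = Q a0 := by
    rw [ha, sub_eq_add_neg, quad_add', QuadraticMap.map_neg, polar_neg_right, quad_smul', polar_smul_r', hW e he, hQf,
      hef, hc]; ring
  set g : orthGroup Q := refl Q a0 * refl Q a with hg
  have hfix0 : ∀ x ∈ W ⊔ (F ∙ f), (refl Q a0).1 x = x := fun x hx =>
    refl_fix Q (by rw [polar_comm]; exact ha0 x hx)
  have hge : g.1 e = c • f := by
    show (refl Q a0).1 ((refl Q a).1 e) = _
    have : (refl Q a).1 e = c • f := by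
      rw [refl_apply, hQa, ha, polar_sub_left, polar_smul_l', polar_self', hW e he, hfe]
      have : (Q a0)⁻¹ * (2 * 0 - c * 1) = 1 := by rw [hc]; field_simp; ring
      rw [this, one_smul]; abel
    rw [this]
    exact hfix0 _ (Submodule.mem_sup_right (Submodule.smul_mem _ _ (Submodule.mem_span_singleton_self f)))
  have hgW : ∀ x ∈ W, g.1 x = (x - polar Q f x • e) + (polar Q f x * c) • f := by
    intro x hx
    have hx' : x - polar Q f x • e ∈ W := W.sub_mem hx (W.smul_mem _ he)
    have h0 : g.1 (x - polar Q f x • e) = x - polar Q f x • e := by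
      show (refl Q a0).1 ((refl Q a).1 _) = _
      rw [refl_fix Q (a := a), hfix0 _ (Submodule.mem_sup_left hx')]
      rw [ha, polar_sub_left, polar_smul_l', hW.polar he hx', polar_sub_right, polar_smul_r', hfe]; ring
    have e1 : x = (x - polar Q f x • e) + polar Q f x • e := by abel
    conv_lhs => rw [e1, map_add, map_smul, h0, hge, smul_smul]
  refine ⟨⟨g, (mem_commutator_iff g).2 ?_⟩, ?_, fun h => ?_⟩
  · rw [hg, map_mul, ab_refl_eq hQ.nd (good (Q := Q)) (a := a) (b := a0) (hQa ▸ hQa0) hQa0 ⟨Q a0, by rw [hQa]⟩, ab_refl_sq]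
  · have hc0 : c ≠ 0 := neg_ne_zero.2 hQa0
    have hint : W ⊓ img g W = W ⊓ perp Q (F ∙ f) := by
      ext x
      constructor
      · rintro ⟨hx, y, hy, rfl⟩
        change g.1 y ∈ W at hx
        refine ⟨hx, fun w hw => ?_⟩
        obtain ⟨b, rfl⟩ := Submodule.mem_span_singleton.1 hw
        show polar Q (b • f) (g.1 y) = 0
        rw [hgW y hy, polar_smul_l', polar_add_right, polar_sub_right, polar_smul_r', polar_smul_r', polar_self', hQf,
          hfe]
        ring
      · rintro ⟨hx, hxp⟩
        have hxf : polar Q f x = 0 := hxp f (Submodule.mem_span_singleton_self f)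
        exact ⟨hx, x, hx, by show g.1 x = x; rw [hgW x hx, hxf]; simp⟩
    show finrank F (W ⊓ img g W : Submodule F V) + 1 = _
    rw [hint]
    set φ := (QuadraticMap.polarBilin Q f).comp W.subtype with hφ
    have hk : W ⊓ perp Q (F ∙ f) = φ.ker.map W.subtype := by
      ext x
      constructor
      · intro hx
        exact ⟨⟨x, hx.1⟩, hx.2 f (Submodule.mem_span_singleton_self f), rfl⟩
      · rintro ⟨y, hy, rfl⟩
        refine ⟨y.2, fun w hw => ?_⟩
        obtain ⟨b, rfl⟩ := Submodule.mem_span_singleton.1 hw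
        show polar Q (b • f) _ = 0
        rw [polar_smul_l', show polar Q f (W.subtype y) = 0 from hy, mul_zero]
    have hr : φ.range = ⊤ := LinearMap.range_eq_top.2 fun t => ⟨t • ⟨e, he⟩, by
      show polar Q f (t • e) = t
      rw [polar_smul_r', hfe, mul_one]⟩
    have h1 := LinearMap.finrank_range_add_finrank_ker φ
    rw [hr, finrank_top, finrank_self] at h1
    rw [hk, Submodule.finrank_map_subtype_eq]
    omega
  · have := h (mem_img g he) e he
    change polar Q e (g.1 e) = 0 at this
    rw [hge, polar_smul_r', hef, mul_one] at this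
    exact hQa0 (neg_eq_zero.1 this)

/-- For lines: an image orthogonal to the line, meeting it in a point. -/
theorem exists_line_move {W : Submodule F V} (hW : TS Q W) (h2 : finrank F W = 2) :
    ∃ g : Om Q, finrank F (W ⊓ img g.1 W : Submodule F V) = 1 ∧ img g.1 W ≤ perp Q W := by
  obtain ⟨e, he, he0⟩ : ∃ e ∈ W, e ≠ 0 :=
    Submodule.exists_mem_ne_zero_of_ne_bot fun h => by rw [h, finrank_bot] at h2; omega
  obtain ⟨w, hw, hwe⟩ : ∃ w ∈ W, w ∉ F ∙ e := by
    by_contra h
    push Not at h
    have := Submodule.finrank_mono (s := W) (t := F ∙ e) h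
    rw [finrank_span_singleton he0] at this
    omega
  obtain ⟨f, hQf, hef⟩ := exists_partner (Q := Q) he0 (hW e he)
  set X := perp Q (W ⊔ (F ∙ f)) with hX
  have hdimX : finrank F V - 3 ≤ finrank F X := by
    rw [hX, perp_finrank]
    have := Submodule.finrank_add_le_finrank_add_finrank W (F ∙ f)
    have hf0 : f ≠ 0 := fun h => by simp [h] at hef
    rw [finrank_span_singleton hf0] at this
    omega
  obtain ⟨Y, hY⟩ := Submodule.exists_isCompl (W.comap X.subtype)
  obtain ⟨e', he'Y, he'0, hQe'⟩ := exists_sing_sub (Q := Q) (W := Y.map X.subtype) (by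
    rw [Submodule.finrank_map_subtype_eq]
    have := Submodule.finrank_add_eq_of_isCompl hY
    have hlt : (W.comap X.subtype).map X.subtype < W := lt_of_le_of_ne (Submodule.map_comap_le _ _) fun h => by
      obtain ⟨x, -, hx⟩ := h.ge he
      have hfx : polar Q f e = 0 := hx ▸ x.2 f (Submodule.mem_sup_right (Submodule.mem_span_singleton_self f))
      rw [polar_comm, hef] at hfx
      exact one_ne_zero hfx
    have hle := Submodule.finrank_lt_finrank_of_lt hlt
    rw [Submodule.finrank_map_subtype_eq] at hle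
    have := hQ.seven
    omega)
  obtain ⟨y, hy, rfl⟩ := he'Y
  have hyX : ∀ x ∈ W, polar Q x y = 0 := fun x hx => y.2 x (Submodule.mem_sup_left hx)
  have he'W : (y : V) ∉ W := fun h => he'0 (by
    have := Submodule.disjoint_def.1 hY.disjoint y h hy
    simp [this])
  have hnot : e ∉ Submodule.span F {w, e - (y : V)} := by
    intro h
    obtain ⟨u, v, huv⟩ := Submodule.mem_span_pair.1 h
    rcases eq_or_ne v 0 with rfl | hv
    · rw [zero_smul, add_zero] at huv
      rcases eq_or_ne u 0 with rfl | hu
      · exact he0 (by rw [← huv, zero_smul])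
      · exact hwe (Submodule.mem_span_singleton.2 ⟨u⁻¹, by rw [← huv, smul_smul, inv_mul_cancel₀ hu, one_smul]⟩)
    · apply he'W
      have e2 : v • (y : V) = u • w + v • e - e := by linear_combination (norm := module) (-1 : F) • huv
      have e1 : (y : V) = v⁻¹ • (u • w + v • e - e) := by
        rw [← e2, smul_smul, inv_mul_cancel₀ hv, one_smul]
      rw [e1]
      exact W.smul_mem _ (W.sub_mem (W.add_mem (W.smul_mem _ hw) (W.smul_mem _ he)) he)
  obtain ⟨z, hz, hz1⟩ := exists_dual_zero (Q := Q) hnot
  have hzw : polar Q w z = 0 := hz w (Submodule.subset_span (by simp))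
  have hzy : polar Q (y : V) z = 1 := by
    have := hz (e - (y : V)) (Submodule.subset_span (by simp))
    rw [polar_sub_left, hz1, sub_eq_zero] at this
    exact this.symm
  set r := z + (-Q z) • e with hr
  have hre : polar Q r e = 1 := by
    rw [hr, polar_add_left, polar_smul_l', polar_self', hW e he, polar_comm _ z e, hz1]; ring
  have hry : polar Q r y = 1 := by
    rw [hr, polar_add_left, polar_smul_l', polar_comm _ z (y : V), hzy, hyX e he]; ring
  have hrw : polar Q r w = 0 := by
    rw [hr, polar_add_left, polar_smul_l', polar_comm _ z w, hzw, hW.polar he hw]; ring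
  have hQr : Q r = 0 := by
    rw [hr, quad_add', quad_smul' Q (-Q z), polar_smul_r', hW e he, polar_comm _ z e, hz1]; ring
  obtain ⟨hp⟩ := hyp (Q := Q)
  obtain ⟨g, hg, -, hge, hfix⟩ := exists_move hQ.nd (good (Q := Q)) hp (five_le (Q := Q)) hQr (hW e he) hQe'
    (by rw [hre]; exact one_ne_zero) (show polar Q r (X.subtype y) ≠ 0 by
      rw [show polar Q r (X.subtype y) = 1 from hry]; exact one_ne_zero)
  have hgw : g.1 w = w := hfix w hrw (hW.polar he hw) (by rw [polar_comm]; exact hyX w hw)
  rw [show polar Q r e = 1 from hre, show polar Q r (X.subtype y) = 1 from hry, div_one, one_smul] at hge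
  have hspan : W = Submodule.span F {e, w} := by
    refine (Submodule.eq_of_le_of_finrank_le (Submodule.span_le.2 ?_) ?_).symm
    · rintro x (rfl | rfl) <;> assumption
    · rw [h2]
      have hlt : F ∙ e < Submodule.span F {e, w} := lt_of_le_of_ne (Submodule.span_mono (by simp))
        fun h => hwe (h ▸ Submodule.subset_span (by simp))
      have := Submodule.finrank_lt_finrank_of_lt hlt
      rw [finrank_span_singleton he0] at this
      omega
  have himg : img g W = Submodule.span F {(y : V), w} := by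
    rw [hspan, AutPOmega.img, Submodule.map_span, Set.image_pair]
    show Submodule.span F {g.1 e, g.1 w} = _
    rw [hge, hgw]
    rfl
  refine ⟨⟨g, hg⟩, ?_, ?_⟩
  · show finrank F (W ⊓ img g W : Submodule F V) = 1
    have hint : W ⊓ img g W = F ∙ w := by
      refine le_antisymm ?_ ?_
      · rintro x ⟨hx, hx2⟩
        rw [himg] at hx2
        obtain ⟨u, v, rfl⟩ := Submodule.mem_span_pair.1 hx2
        rcases eq_or_ne u 0 with rfl | hu
        · simpa using Submodule.smul_mem _ v (Submodule.mem_span_singleton_self w)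
        · exfalso
          apply he'W
          have e1 : (y : V) = u⁻¹ • ((u • (y : V) + v • w) - v • w) := by
            rw [add_sub_cancel_right, smul_smul, inv_mul_cancel₀ hu, one_smul]
          rw [e1]
          exact W.smul_mem _ (W.sub_mem hx (W.smul_mem _ hw))
      · rw [Submodule.span_singleton_le_iff_mem]
        exact ⟨hw, himg.ge (Submodule.subset_span (by simp))⟩
    rw [hint, finrank_span_singleton fun h : w = 0 => hwe (h ▸ Submodule.zero_mem _)]
  · show img g W ≤ perp Q W
    rw [himg, Submodule.span_le]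
    rintro x (rfl | rfl)
    · exact fun a ha => hyX a ha
    · exact fun a ha => hW.polar ha hw

/-- Two images meeting a totally singular subspace properly, in different positions. -/
theorem exists_two_positions [hQ8 : OCtx Q] {W : Submodule F V} (hW : TS Q W) (h2 : 2 ≤ finrank F W) :
    ∃ g₁ g₂ : Om Q, (W ⊓ img g₁.1 W ≠ ⊥ ∧ W ⊓ img g₁.1 W ≠ W) ∧ (W ⊓ img g₂.1 W ≠ ⊥ ∧ W ⊓ img g₂.1 W ≠ W) ∧
      ∀ h : orthGroup Q, img h W = W → img h (img g₁.1 W) ≠ img g₂.1 W := by
  have hne : ∀ g : Om Q, ∀ d, finrank F (W ⊓ img g.1 W : Submodule F V) = d → 0 < d → d < finrank F W →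
      W ⊓ img g.1 W ≠ ⊥ ∧ W ⊓ img g.1 W ≠ W := fun g d hd h0 h1 =>
    ⟨fun h => by rw [h, finrank_bot] at hd; omega, fun h => by rw [h] at hd; omega⟩
  have hpres : ∀ (h : orthGroup Q) (A : Submodule F V), img h W = W →
      finrank F (W ⊓ img h A : Submodule F V) = finrank F (W ⊓ A : Submodule F V) := fun h A hh => by
    conv_lhs => rw [← hh, ← img_inf]
    exact LinearEquiv.finrank_map_eq h.1 _
  have hle := singular_finrank_le hQ.nd W hW
  by_cases hn : 2 * finrank F W < finrank F V
  · obtain ⟨g₂, h2d, h2p⟩ := exists_odd_swap hW (by omega) hn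
    rcases Nat.eq_or_lt_of_le h2 with hk | hk
    · obtain ⟨g₁, h1d, h1p⟩ := exists_line_move hW hk.symm
      refine ⟨g₁, g₂, hne g₁ _ h1d (by omega) (by omega), hne g₂ (finrank F W - 1) (by omega) (by omega) (by omega),
        fun h hh e => h2p ?_⟩
      have := img_le_perp h h1p
      rwa [hh, e] at this
    · obtain ⟨g₁, h1d⟩ := exists_even_swap hW 1 (by omega)
      refine ⟨g₁, g₂, hne g₁ (finrank F W - 2) (by omega) (by omega) (by omega),
        hne g₂ (finrank F W - 1) (by omega) (by omega) (by omega), fun h hh e => ?_⟩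
      have := hpres h (img g₁.1 W) hh
      rw [e] at this
      omega
  · have h5 : 5 ≤ finrank F W := by
      have := hQ.seven
      by_contra
      exact hQ8.eight (by omega) W hW (by omega)
    obtain ⟨g₁, h1d⟩ := exists_even_swap hW 1 (by omega)
    obtain ⟨g₂, h2d⟩ := exists_even_swap hW 2 (by omega)
    refine ⟨g₁, g₂, hne g₁ (finrank F W - 2) (by omega) (by omega) (by omega),
      hne g₂ (finrank F W - 4) (by omega) (by omega) (by omega), fun h hh e => ?_⟩
    have := hpres h (img g₁.1 W) hh
    rw [e] at this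
    omega

end CfsgLib.KnownC.AutPOmega
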